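import Groth.Agent.Lib.Helper18.Zeta.WeilJ

/-! # Hasse–Weil bound for all `N_n`, and existence of places of every large prime degree -/

set_option autoImplicit false
set_option linter.style.haveILetI false

namespace Groth.Agent.Lib.Helper18.Zeta

open FunFld

universe u v

variable {k : Type u} {K : Type v} [Field k] [Finite k] [Field K] [Algebra k K]

/-- `|N_n - q^n - 1| ≤ 2 g (√q)^n`. -/
theorem abs_NN_sub_le (hK : IsFunctionField k K) (n : ℕ) (hn : 0 < n) :
    |(NN hK n : ℝ) - (Nat.card k : ℝ) ^ n - 1| ≤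
      2 * (genus k K : ℝ) * Real.sqrt (Nat.card k : ℝ) ^ n := by
  classical
  obtain ⟨α, -, hα, hpair⟩ := exists_reciprocal_roots hK
  have hnorm := norm_eq_sqrt_of_weilBound hK (weilBound hK) α hα Fin.rev hpair
  have h1 := NN_eq_of_factorization hK α hα n hn
  have h2 : (((NN hK n : ℝ) - (Nat.card k : ℝ) ^ n - 1 : ℝ) : ℂ) = - ∑ i, α i ^ n := by
    push_cast
    rw [h1]
    ring
  have h3 : |(NN hK n : ℝ) - (Nat.card k : ℝ) ^ n - 1| = ‖∑ i, α i ^ n‖ := by
    rw [← norm_neg (∑ i, α i ^ n), ← h2, Complex.norm_real, Real.norm_eq_abs]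
  rw [h3]
  calc ‖∑ i, α i ^ n‖ ≤ ∑ i, ‖α i ^ n‖ := norm_sum_le _ _
    _ = ∑ _i : Fin (2 * genus k K), Real.sqrt (Nat.card k : ℝ) ^ n :=
        Finset.sum_congr rfl (fun i _ => by rw [norm_pow, hnorm i])
    _ = 2 * (genus k K : ℝ) * Real.sqrt (Nat.card k : ℝ) ^ n := by
        rw [Finset.sum_const, Finset.card_univ, Fintype.card_fin, nsmul_eq_mul]
        push_cast
        ring

/-- There are places of every sufficiently large prime degree. -/
theorem exists_place_deg_prime (hK : IsFunctionField k K) :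
    ∃ n₀ : ℕ, ∀ p : ℕ, p.Prime → n₀ ≤ p → ∃ P : Place k K, P.deg = p := by
  classical
  set q : ℝ := (Nat.card k : ℝ) with hq
  set s : ℝ := Real.sqrt q with hs
  set g : ℝ := (genus k K : ℝ) with hg
  have hg0 : 0 ≤ g := Nat.cast_nonneg _
  have hq2 : (2 : ℝ) ≤ q := by
    have : 2 ≤ Nat.card k := by
      haveI := Fintype.ofFinite k
      rw [Nat.card_eq_fintype_card]
      exact Fintype.one_lt_card
    rw [hq]
    exact_mod_cast this
  have hs1 : 1 < s := by
    rw [hs, Real.lt_sqrt (by norm_num)]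
    linarith
  have hss : s ^ 2 = q := Real.sq_sqrt (by linarith)
  -- a threshold
  obtain ⟨n₀, hn₀⟩ : ∃ n₀ : ℕ, ∀ n, n₀ ≤ n → 2 * g + q + 2 * g * s + 1 ≤ s ^ n := by
    have := (tendsto_pow_atTop_atTop_of_one_lt hs1).eventually_ge_atTop (2 * g + q + 2 * g * s + 1)
    obtain ⟨n₀, hn₀⟩ := Filter.eventually_atTop.mp this
    exact ⟨n₀, hn₀⟩
  refine ⟨n₀, fun p hp hpn => ?_⟩
  by_contra hcon
  have hcon' : ∀ P : Place k K, P.deg ≠ p := fun P hP => hcon ⟨P, hP⟩
  have hfin : {P : Place k K | P.deg = 1}.Finite := finite_places_deg hK 1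
  have hN1 : NN hK 1 = ∑ P ∈ hfin.toFinset, P.deg :=
    NN_eq_sum hK 1 one_pos hfin.toFinset (fun P => by
      rw [Set.Finite.mem_toFinset]
      exact ⟨fun h => by rw [Set.mem_setOf_eq] at h; rw [h], fun h => Nat.dvd_one.mp h⟩)
  have hNp : NN hK p = ∑ P ∈ hfin.toFinset, P.deg :=
    NN_eq_sum hK p hp.pos hfin.toFinset (fun P => by
      rw [Set.Finite.mem_toFinset]
      constructor
      · intro h
        rw [Set.mem_setOf_eq] at h
        rw [h]
        exact one_dvd _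
      · intro h
        rcases (Nat.dvd_prime hp).mp h with h1 | h1
        · exact h1
        · exact absurd h1 (hcon' P))
  have hEq : (NN hK p : ℝ) = NN hK 1 := by rw [hNp, hN1]
  have hb1 := abs_NN_sub_le hK 1 one_pos
  have hbp := abs_NN_sub_le hK p hp.pos
  rw [abs_le] at hb1 hbp
  have hsp := hn₀ p hpn
  have hsp1 : 1 ≤ s ^ p := by nlinarith
  have hqp : q ^ p = s ^ p * s ^ p := by
    rw [← hss, ← pow_mul, mul_comm, pow_mul, sq]
  simp only [pow_one] at hb1
  -- q^p - 2 g s^p ≤ N_p - 1 = N_1 - 1 ≤ q + 2 g s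
  have h1 : q ^ p - 2 * g * s ^ p ≤ q + 2 * g * s := by
    have ha := hbp.1
    have hb := hb1.2
    rw [hEq] at ha
    linarith
  rw [hqp] at h1
  have h2 : s ^ p * (s ^ p - 2 * g) ≥ 1 * (s ^ p - 2 * g) := by
    apply mul_le_mul_of_nonneg_right hsp1
    nlinarith
  nlinarith

end Groth.Agent.Lib.Helper18.Zeta
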