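import Groth.Agent.Lib.Helper18.Zeta.Schmidt
import Groth.Agent.Lib.Helper24.FFExt.SepConst
import Groth.Agent.Lib.Helper24.FFExt.SepExt
import Mathlib.FieldTheory.Finite.Extension
import Mathlib.RingTheory.AdjoinRoot

/-! # F. K. Schmidt's theorem: construction of the constant field extension -/

set_option autoImplicit false

namespace Groth.Agent.Lib.Helper18.Zeta

open FunFld WithZero Groth.Agent.Lib.Helper18.FF Groth.Agent.Lib.Helper24.FFExt

open scoped TensorProduct

universe u v

theorem exists_irreducible_natDegree (k : Type u) [Field k] [Finite k] (d : ℕ) (hd : 0 < d) :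
    ∃ g : Polynomial k, g.Monic ∧ Irreducible g ∧ g.natDegree = d := by
  obtain ⟨p, hp⟩ := CharP.exists k
  haveI := hp
  haveI : Fact p.Prime := ⟨CharP.char_is_prime k p⟩
  haveI : NeZero d := ⟨hd.ne'⟩
  obtain ⟨α, hα⟩ := Field.exists_primitive_element k (FiniteField.Extension k p d)
  have hint : IsIntegral k α := Algebra.IsIntegral.isIntegral α
  refine ⟨minpoly k α, minpoly.monic hint, minpoly.irreducible hint, ?_⟩
  rw [← IntermediateField.adjoin.finrank hint, hα, IntermediateField.finrank_top',
    FiniteField.finrank_extension]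

variable {k : Type u} {K : Type v} [Field k] [Field K] [Algebra k K]

/-- **F. K. Schmidt**: the degrees of the places of a function field over a finite field have no
common divisor `d ≥ 2` that is itself the degree of a divisor. -/
theorem schmidt [Finite k] (hK : IsFunctionField k K) (d : ℕ) (hd2 : 2 ≤ d)
    (hdvd : ∀ P : Place k K, d ∣ P.deg) (hex : ∃ D : Divisor k K, D.deg = d) : False := by
  obtain ⟨g, hmon, hirr, hdeg⟩ := exists_irreducible_natDegree k d (by omega)
  haveI : Fact (Irreducible g) := ⟨hirr⟩
  have hirrK := irreducible_map_of_algClosedIn hK.2 hmon hirr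
  haveI : Fact (Irreducible (g.map (algebraMap k K))) := ⟨hirrK⟩
  have hg0 : g ≠ 0 := hirr.ne_zero
  haveI : FiniteDimensional k (AdjoinRoot g) := (AdjoinRoot.powerBasis hg0).finite
  haveI : Finite (AdjoinRoot g) := Module.finite_of_finite k
  have hfr : Module.finrank k (AdjoinRoot g) = d := by
    rw [(AdjoinRoot.powerBasis hg0).finrank, AdjoinRoot.powerBasis_dim, hdeg]
  letI : Algebra (AdjoinRoot g) (AdjoinRoot (g.map (algebraMap k K))) :=
    (AdjoinRoot.map (algebraMap k K) g (g.map (algebraMap k K)) dvd_rfl).toAlgebra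
  haveI : IsScalarTower k (AdjoinRoot g) (AdjoinRoot (g.map (algebraMap k K))) :=
    IsScalarTower.of_algebraMap_eq fun c => by
      show _ = AdjoinRoot.map (algebraMap k K) g (g.map (algebraMap k K)) dvd_rfl
        (algebraMap k (AdjoinRoot g) c)
      rw [AdjoinRoot.algebraMap_eq, AdjoinRoot.map_of, IsScalarTower.algebraMap_apply k K,
        AdjoinRoot.algebraMap_eq]
  have hbij : Function.Bijective (Algebra.TensorProduct.productMap
      (IsScalarTower.toAlgHom k (AdjoinRoot g) (AdjoinRoot (g.map (algebraMap k K))))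
      (IsScalarTower.toAlgHom k K (AdjoinRoot (g.map (algebraMap k K))))) := by
    constructor
    · have hF : IsField (AdjoinRoot g ⊗[k] K) := isField_tensor_of_isSeparable hK.2
      exact injective_of_isField hF (Algebra.TensorProduct.productMap
        (IsScalarTower.toAlgHom k (AdjoinRoot g) (AdjoinRoot (g.map (algebraMap k K))))
        (IsScalarTower.toAlgHom k K (AdjoinRoot (g.map (algebraMap k K))))).toRingHom
    · intro z
      induction z using AdjoinRoot.induction_on with
      | ih p =>
        induction p using Polynomial.induction_on' with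
        | add p q hp hq =>
          obtain ⟨a, ha⟩ := hp
          obtain ⟨b, hb⟩ := hq
          exact ⟨a + b, by rw [map_add, ha, hb, map_add]⟩
        | monomial n a =>
          refine ⟨(AdjoinRoot.root g ^ n) ⊗ₜ a, ?_⟩
          rw [Algebra.TensorProduct.productMap_apply_tmul, IsScalarTower.coe_toAlgHom',
            IsScalarTower.coe_toAlgHom', map_pow]
          have h1 : algebraMap (AdjoinRoot g) (AdjoinRoot (g.map (algebraMap k K)))
              (AdjoinRoot.root g) = AdjoinRoot.root (g.map (algebraMap k K)) :=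
            AdjoinRoot.map_root _ _ _ _
          rw [h1, ← Polynomial.C_mul_X_pow_eq_monomial, map_mul, map_pow, AdjoinRoot.mk_C,
            AdjoinRoot.mk_X, AdjoinRoot.algebraMap_eq, mul_comm]
  haveI : PerfectField k := inferInstance
  have hg := isGeometric_of_perfectField hK
  have hK' : IsFunctionField (AdjoinRoot g) (AdjoinRoot (g.map (algebraMap k K))) :=
    isFunctionField_baseChange hbij hK hg
  exact schmidt_core hbij hK hK' (by rw [hfr]; exact hd2) (by rw [hfr]; exact hdvd)
    (by rw [hfr]; exact hex)

end Groth.Agent.Lib.Helper18.Zeta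

namespace Groth.Agent.Lib.Helper18.Zeta

open FunFld WithZero Groth.Agent.Lib.Helper18.FF

universe u v

variable {k : Type u} {K : Type v} [Field k] [Field K] [Algebra k K]

theorem deg_zsmul' (n : ℤ) (D : Divisor k K) : (n • D).deg = n * D.deg := by
  rw [← degHom_apply, map_zsmul, degHom_apply, smul_eq_mul]

/-- **F. K. Schmidt**: over a finite constant field there is a divisor of degree one. -/
theorem exists_deg_one [Finite k] (hK : IsFunctionField k K) :
    ∃ D : Divisor k K, D.deg = 1 := by
  classical
  obtain ⟨P₀⟩ := exists_place hK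
  have hex : ∃ m : ℕ, 0 < m ∧ ∃ D : Divisor k K, D.deg = m :=
    ⟨P₀.deg, deg_pos hK P₀, Finsupp.single P₀ 1, by rw [deg_single]; simp⟩
  obtain ⟨hdpos, D₁, hD₁⟩ := Nat.find_spec hex
  set d := Nat.find hex with hd
  have hmin : ∀ m : ℕ, 0 < m → (∃ D : Divisor k K, D.deg = m) → d ≤ m :=
    fun m hm hD => Nat.find_min' hex ⟨hm, hD⟩
  have hdz : (0 : ℤ) < d := by exact_mod_cast hdpos
  have hdvd_all : ∀ D : Divisor k K, (d : ℤ) ∣ D.deg := by
    intro D
    apply Int.dvd_of_emod_eq_zero
    by_contra hr
    have h1 : 0 ≤ D.deg % d := Int.emod_nonneg _ hdz.ne'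
    have h2 : D.deg % d < d := Int.emod_lt_of_pos _ hdz
    have h3 : 0 < D.deg % d := lt_of_le_of_ne h1 (Ne.symm hr)
    have h4 : (D - (D.deg / d) • D₁).deg = D.deg % d := by
      rw [deg_sub, deg_zsmul', hD₁, Int.emod_def]; ring
    have h5 := hmin (D.deg % d).toNat (by omega) ⟨_, by rw [h4]; omega⟩
    omega
  have hdvdP : ∀ P : Place k K, d ∣ P.deg := by
    intro P
    have := hdvd_all (Finsupp.single P 1)
    rw [deg_single, one_mul] at this
    exact_mod_cast this
  by_cases hd1 : d = 1
  · exact ⟨D₁, by rw [hD₁, hd1]; rfl⟩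
  · exact (schmidt hK d (by omega) hdvdP ⟨D₁, hD₁⟩).elim

theorem deg_surjective [Finite k] (hK : IsFunctionField k K) :
    Function.Surjective (Divisor.deg : Divisor k K → ℤ) := by
  obtain ⟨D₁, hD₁⟩ := exists_deg_one hK
  intro n
  exact ⟨n • D₁, by rw [deg_zsmul', hD₁, mul_one]⟩

end Groth.Agent.Lib.Helper18.Zeta
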