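import Mathlib

/-! # Power series with a logarithmic-derivative recursion: majorant, convergence, nonvanishing -/

set_option autoImplicit false
set_option linter.style.haveILetI false
set_option linter.unusedSectionVars false

open PowerSeries

namespace Groth.Agent.Lib.Helper18.Zeta.Abscissa

variable (A N : ℕ → ℕ)

/-- The recursion `(m+1) A_{m+1} = ∑_{i ≤ m} N_{i+1} A_{m-i}` gives `A_m ≤ binom(m+c', c') Q^m`
when `N_i ≤ (c'+1) Q^i`. -/
theorem A_le (hA0 : A 0 = 1)
    (hrec : ∀ m, (m + 1) * A (m + 1) = ∑ i ∈ Finset.range (m + 1), N (i + 1) * A (m - i))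
    (c' Q : ℕ) (hN : ∀ i, N (i + 1) ≤ (c' + 1) * Q ^ (i + 1)) :
    ∀ m, A m ≤ (m + c').choose c' * Q ^ m := by
  intro m
  induction m using Nat.strong_induction_on with
  | _ m ih =>
    cases m with
    | zero => simp [hA0]
    | succ m =>
      have h1 : (m + 1) * A (m + 1) ≤ (m + 1) * ((m + 1 + c').choose c' * Q ^ (m + 1)) := by
        rw [hrec]
        calc ∑ i ∈ Finset.range (m + 1), N (i + 1) * A (m - i)
            ≤ ∑ i ∈ Finset.range (m + 1),
                ((c' + 1) * Q ^ (m + 1)) * ((m - i) + c').choose c' := by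
              refine Finset.sum_le_sum fun i hi => ?_
              have hi' : i ≤ m := Nat.lt_succ_iff.mp (Finset.mem_range.mp hi)
              calc N (i + 1) * A (m - i)
                  ≤ ((c' + 1) * Q ^ (i + 1)) * (((m - i) + c').choose c' * Q ^ (m - i)) :=
                    Nat.mul_le_mul (hN i) (ih (m - i) (by omega))
                _ = ((c' + 1) * Q ^ (m + 1)) * ((m - i) + c').choose c' := by
                    have : m + 1 = (i + 1) + (m - i) := by omega
                    rw [this, pow_add]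
                    have h2 : i + 1 + (m - i) - (i + 1) = m - i := by omega
                    ring_nf
          _ = ((c' + 1) * Q ^ (m + 1)) * ∑ i ∈ Finset.range (m + 1), ((m - i) + c').choose c' := by
              rw [Finset.mul_sum]
          _ = ((c' + 1) * Q ^ (m + 1)) * ∑ j ∈ Finset.range (m + 1), (j + c').choose c' := by
              congr 1
              have := Finset.sum_range_reflect (fun j => (j + c').choose c') (m + 1)
              rw [← this]
              refine Finset.sum_congr rfl fun i hi => ?_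
              have hi' : i < m + 1 := Finset.mem_range.mp hi
              have : m + 1 - 1 - i = m - i := by omega
              rw [this]
          _ = ((c' + 1) * Q ^ (m + 1)) * (m + c' + 1).choose (c' + 1) := by
              rw [Nat.sum_range_add_choose]
          _ = (m + 1) * ((m + 1 + c').choose c' * Q ^ (m + 1)) := by
              have h3 := Nat.choose_succ_right_eq (m + c' + 1) c'
              have h4 : m + c' + 1 - c' = m + 1 := by omega
              rw [h4] at h3
              have h5 : m + 1 + c' = m + c' + 1 := by omega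
              rw [h5]
              calc (c' + 1) * Q ^ (m + 1) * (m + c' + 1).choose (c' + 1)
                  = Q ^ (m + 1) * ((m + c' + 1).choose (c' + 1) * (c' + 1)) := by ring
                _ = Q ^ (m + 1) * ((m + c' + 1).choose c' * (m + 1)) := by rw [h3]
                _ = (m + 1) * ((m + c' + 1).choose c' * Q ^ (m + 1)) := by ring
      exact Nat.le_of_mul_le_mul_left h1 (Nat.succ_pos m)

theorem summable_A (hA0 : A 0 = 1)
    (hrec : ∀ m, (m + 1) * A (m + 1) = ∑ i ∈ Finset.range (m + 1), N (i + 1) * A (m - i))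
    (c' Q : ℕ) (hN : ∀ i, N (i + 1) ≤ (c' + 1) * Q ^ (i + 1))
    (ρ : ℝ) (hρ : 0 ≤ ρ) (hQρ : (Q : ℝ) * ρ < 1) :
    Summable (fun m => (A m : ℝ) * ρ ^ m) := by
  have hr : ‖(Q : ℝ) * ρ‖ < 1 := by
    rw [Real.norm_of_nonneg (mul_nonneg (Nat.cast_nonneg Q) hρ)]
    exact hQρ
  have h1 := summable_choose_mul_geometric_of_norm_lt_one (R := ℝ) c' hr
  refine Summable.of_nonneg_of_le (fun m => by positivity) (fun m => ?_) h1
  have h2 := A_le A N hA0 hrec c' Q hN m
  have h3 : (A m : ℝ) ≤ ((m + c').choose c' : ℝ) * (Q : ℝ) ^ m := by exact_mod_cast h2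
  calc (A m : ℝ) * ρ ^ m ≤ (((m + c').choose c' : ℝ) * (Q : ℝ) ^ m) * ρ ^ m :=
        mul_le_mul_of_nonneg_right h3 (pow_nonneg hρ m)
    _ = ((m + c').choose c' : ℝ) * ((Q : ℝ) * ρ) ^ m := by rw [mul_pow]; ring

/-- The coefficients of the formal inverse are dominated by the `A_m`. -/
theorem exists_inverse (hA0 : A 0 = 1)
    (hrec : ∀ m, (m + 1) * A (m + 1) = ∑ i ∈ Finset.range (m + 1), N (i + 1) * A (m - i)) :
    ∃ B : ℕ → ℝ, (∀ m, |B m| ≤ (A m : ℝ)) ∧
      ∀ m : ℕ, ∑ p ∈ Finset.HasAntidiagonal.antidiagonal m, (A p.1 : ℝ) * B p.2 = if m = 0 then 1 else 0 := by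
  set ZA : ℝ⟦X⟧ := PowerSeries.mk (fun m => (A m : ℝ)) with hZA
  set Λ : ℝ⟦X⟧ := PowerSeries.mk (fun i => (N (i + 1) : ℝ)) with hΛ
  have hc : constantCoeff ZA ≠ 0 := by
    rw [← coeff_zero_eq_constantCoeff_apply, hZA, coeff_mk, hA0]
    norm_num
  have hder : d⁄dX ℝ ZA = ZA * Λ := by
    ext m
    rw [coeff_derivative, coeff_mul, hZA, coeff_mk]
    have h1 := hrec m
    have h2 : ((m : ℝ) + 1) * (A (m + 1) : ℝ) =
        ∑ i ∈ Finset.range (m + 1), (N (i + 1) : ℝ) * (A (m - i) : ℝ) := by exact_mod_cast h1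
    rw [mul_comm, h2, Finset.Nat.sum_antidiagonal_eq_sum_range_succ_mk]
    rw [← Finset.sum_range_reflect]
    refine Finset.sum_congr rfl fun i hi => ?_
    have hi' : i < m + 1 := Finset.mem_range.mp hi
    simp only [coeff_mk]
    have e1 : m + 1 - 1 - i = m - i := by omega
    have e2 : m - (m - i) = i := by omega
    rw [e1, e2, mul_comm, hΛ, coeff_mk]
  set B : ℝ⟦X⟧ := ZA⁻¹ with hB
  have hmul : ZA * B = 1 := PowerSeries.mul_inv_cancel _ hc
  have hderB : d⁄dX ℝ B = -(B * Λ) := by
    have h1 : d⁄dX ℝ (ZA * B) = 0 := by rw [hmul]; exact Derivation.map_one_eq_zero _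
    rw [Derivation.leibniz, hder, smul_eq_mul, smul_eq_mul] at h1
    have h2 : B * (ZA * d⁄dX ℝ B + B * (ZA * Λ)) = 0 := by rw [h1, mul_zero]
    have h3 : B * (ZA * d⁄dX ℝ B + B * (ZA * Λ)) = (ZA * B) * (d⁄dX ℝ B + B * Λ) := by ring
    rw [h3, hmul, one_mul] at h2
    exact eq_neg_of_add_eq_zero_left h2
  have hrecB : ∀ m : ℕ, ((m : ℝ) + 1) * coeff (m + 1) B =
      -∑ p ∈ Finset.HasAntidiagonal.antidiagonal m, coeff p.1 B * (N (p.2 + 1) : ℝ) := by
    intro m
    have := congrArg (coeff m) hderB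
    rw [coeff_derivative, map_neg, coeff_mul] at this
    rw [mul_comm, this]
    simp only [hΛ, coeff_mk]
  have hbound : ∀ m, |coeff m B| ≤ (A m : ℝ) := by
    intro m
    induction m using Nat.strong_induction_on with
    | _ m ih =>
      cases m with
      | zero =>
        have h0 : coeff 0 B = 1 := by
          have := congrArg (coeff 0) hmul
          rw [coeff_mul, Finset.Nat.antidiagonal_zero, Finset.sum_singleton, hZA, coeff_mk, hA0,
            coeff_one] at this
          simpa using this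
        rw [h0, hA0]
        simp
      | succ m =>
        have h1 : ((m : ℝ) + 1) * |coeff (m + 1) B| ≤ ((m : ℝ) + 1) * (A (m + 1) : ℝ) := by
          have hpos : (0 : ℝ) ≤ (m : ℝ) + 1 := by positivity
          rw [← abs_of_nonneg hpos, ← abs_mul, abs_of_nonneg hpos, hrecB m, abs_neg]
          have h2 : ((m : ℝ) + 1) * (A (m + 1) : ℝ) =
              ∑ p ∈ Finset.HasAntidiagonal.antidiagonal m, (A p.1 : ℝ) * (N (p.2 + 1) : ℝ) := by
            have := congrArg (coeff m) hder
            rw [coeff_derivative, coeff_mul, hZA, coeff_mk] at this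
            rw [mul_comm, this]
            simp only [hΛ, coeff_mk]
          rw [h2]
          refine (Finset.abs_sum_le_sum_abs _ _).trans (Finset.sum_le_sum fun p hp => ?_)
          rw [abs_mul, abs_of_nonneg (Nat.cast_nonneg (α := ℝ) (N (p.2 + 1)))]
          have hp1 : p.1 < m + 1 := by
            have := Finset.HasAntidiagonal.mem_antidiagonal.mp hp
            omega
          exact mul_le_mul_of_nonneg_right (ih p.1 hp1) (Nat.cast_nonneg _)
        have hpos : (0 : ℝ) < (m : ℝ) + 1 := by positivity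
        exact le_of_mul_le_mul_left h1 hpos
  refine ⟨fun m => coeff m B, hbound, fun m => ?_⟩
  have := congrArg (coeff m) hmul
  rw [coeff_mul, coeff_one] at this
  rw [← this]
  refine Finset.sum_congr rfl fun p _ => ?_
  rw [hZA, coeff_mk]

/-- The power series `∑ A_m u^m` does not vanish in the disc `Q |u| < 1`. -/
theorem tsum_ne_zero (hA0 : A 0 = 1)
    (hrec : ∀ m, (m + 1) * A (m + 1) = ∑ i ∈ Finset.range (m + 1), N (i + 1) * A (m - i))
    (c' Q : ℕ) (hN : ∀ i, N (i + 1) ≤ (c' + 1) * Q ^ (i + 1))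
    (u : ℂ) (hu : (Q : ℝ) * ‖u‖ < 1) :
    ∑' m, (A m : ℂ) * u ^ m ≠ 0 := by
  obtain ⟨B, hB, hAB⟩ := exists_inverse A N hA0 hrec
  have hsum := summable_A A N hA0 hrec c' Q hN ‖u‖ (norm_nonneg u) hu
  have hf : Summable (fun m => ‖(A m : ℂ) * u ^ m‖) := by
    refine hsum.congr fun m => ?_
    rw [norm_mul, norm_pow, Complex.norm_natCast]
  have hg : Summable (fun m => ‖((B m : ℝ) : ℂ) * u ^ m‖) := by
    refine Summable.of_nonneg_of_le (fun m => norm_nonneg _) (fun m => ?_) hsum
    rw [norm_mul, norm_pow, Complex.norm_real, Real.norm_eq_abs]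
    exact mul_le_mul_of_nonneg_right (hB m) (pow_nonneg (norm_nonneg u) m)
  have key := tsum_mul_tsum_eq_tsum_sum_antidiagonal_of_summable_norm hf hg
  have h1 : ∀ n, ∑ kl ∈ Finset.HasAntidiagonal.antidiagonal n, ((A kl.1 : ℂ) * u ^ kl.1) *
      (((B kl.2 : ℝ) : ℂ) * u ^ kl.2) = if n = 0 then 1 else 0 := by
    intro n
    have h2 : ∀ kl ∈ Finset.HasAntidiagonal.antidiagonal n, ((A kl.1 : ℂ) * u ^ kl.1) *
        (((B kl.2 : ℝ) : ℂ) * u ^ kl.2) = (((A kl.1 : ℝ) * B kl.2 : ℝ) : ℂ) * u ^ n := by
      intro kl hkl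
      rw [← Finset.HasAntidiagonal.mem_antidiagonal.mp hkl, pow_add]
      push_cast
      ring
    rw [Finset.sum_congr rfl h2, ← Finset.sum_mul, ← Complex.ofReal_sum, hAB n]
    split_ifs with hn
    · subst hn; simp
    · simp
  rw [tsum_congr h1, tsum_ite_eq] at key
  intro h0
  rw [h0, zero_mul] at key
  exact zero_ne_one key

end Groth.Agent.Lib.Helper18.Zeta.Abscissa
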