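import Groth.Agent.Lib.Helper18.Zeta.CycleCount
import Groth.Agent.Lib.Helper18.Zeta.AbscissaFormal
import Groth.Agent.Lib.Helper18.PtCount.Immersion
import Groth.Agent.S13050
import Groth.Agent.S13062
import Groth.Prelude.Def_W4c1zetahwZeta

/-! # Effective zero-cycles of a scheme of finite type over a finite field, counted by norm -/

set_option autoImplicit false
set_option linter.style.haveILetI false
set_option linter.unusedSectionVars false

universe u

open AlgebraicGeometry CategoryTheory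

namespace Groth.Agent.Lib.Helper18.Zeta.AbscissaCycles

open Groth.Agent.Lib.Helper18.PtCount Groth.Agent.Lib.Helper18.Curve
  Groth.Agent.Lib.Helper18.Zeta.CycleCount

variable {k : Type u} [Field k] [Finite k] {Y : Scheme.{u}} (f : Y ⟶ Spec (CommRingCat.of k))
  [LocallyOfFiniteType f] [QuasiCompact f]

/-- The closed points. -/
abbrev Pt (Y : Scheme.{u}) : Type u := ↥{x : Y | IsClosed ({x} : Set Y)}

/-- The degree of a closed point. -/
noncomputable def dP (x : Pt Y) : ℕ := resDeg f x.1

lemma dP_pos (x : Pt Y) : 0 < dP f x := resDeg_pos_of_isClosed f x.2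

lemma dP_fin (e : ℕ) : {x : Pt Y | dP f x = e}.Finite := by
  rcases Nat.eq_zero_or_pos e with rfl | he
  · convert Set.finite_empty
    ext x
    simp only [Set.mem_setOf_eq, Set.mem_empty_iff_false, iff_false]
    exact (dP_pos f x).ne'
  · haveI := finite_resDeg_eq f he
    let g : ↥{x : Pt Y | dP f x = e} → {x : Y // resDeg f x = e} := fun x => ⟨x.1.1, x.2⟩
    have hg : Function.Injective g := by
      intro x y hxy
      apply Subtype.ext
      apply Subtype.ext
      exact congrArg (fun z : {x : Y // resDeg f x = e} => z.1) hxy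
    exact Set.finite_coe_iff.mp (Finite.of_injective g hg)

lemma a_eq_degCount {e : ℕ} (he : 0 < e) : CycleCount.a (dP f) e = Zeta.degCount f e := by
  rw [degCount_eq_natCard f he]
  unfold CycleCount.a
  refine Nat.card_congr
    { toFun := fun x => ⟨x.1.1, x.2⟩
      invFun := fun x => ⟨⟨x.1, isClosed_of_resDeg_pos f (by rw [x.2]; exact he)⟩, x.2⟩
      left_inv := fun x => rfl
      right_inv := fun x => rfl }

lemma N_eq_nPts (i : ℕ) : CycleCount.N (dP f) i = Zeta.nPts f i := by
  unfold CycleCount.N Zeta.nPts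
  refine Finset.sum_congr rfl fun e he => ?_
  rw [a_eq_degCount f (Nat.pos_of_mem_divisors he)]

lemma card_residueField (x : Pt Y) : Nat.card (Y.residueField x.1) = Nat.card k ^ dP f x := by
  letI := resAlg f x.1
  haveI : Module.Finite k (Y.residueField x.1) := Module.finite_of_finrank_pos (dP_pos f x)
  exact Module.natCard_eq_pow_finrank (K := k) (V := Y.residueField x.1)

lemma norm_eq (α : Y →₀ ℕ) (hα : ∀ x ∈ α.support, IsClosed ({x} : Set Y)) :
    α.prod (fun x m => Nat.card (Y.residueField x) ^ m) =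
      Nat.card k ^ deg (dP f) (α.subtypeDomain (· ∈ {x : Y | IsClosed ({x} : Set Y)})) := by
  rw [← Finsupp.prod_subtypeDomain_index (p := (· ∈ {x : Y | IsClosed ({x} : Set Y)})) hα]
  unfold deg Finsupp.prod Finsupp.sum
  rw [← Finset.prod_pow_eq_pow_sum]
  refine Finset.prod_congr rfl fun x _ => ?_
  show Nat.card (Y.residueField x.1) ^ _ = Nat.card k ^ (_ * dP f x)
  rw [card_residueField f x, ← pow_mul, mul_comm]

/-- Cycles of norm `n` correspond to cycles on the closed points with `q^deg = n`. -/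
noncomputable def cyclesEquiv (n : ℕ) :
    { α : Y →₀ ℕ // (∀ x ∈ α.support, IsClosed ({x} : Set Y)) ∧
      α.prod (fun x m => Nat.card (Y.residueField x) ^ m) = n } ≃
    { β : Pt Y →₀ ℕ // Nat.card k ^ deg (dP f) β = n } :=
  let e := Finsupp.restrictSupportEquiv {x : Y | IsClosed ({x} : Set Y)} ℕ
  let step1 : { α : Y →₀ ℕ // (∀ x ∈ α.support, IsClosed ({x} : Set Y)) ∧
      α.prod (fun x m => Nat.card (Y.residueField x) ^ m) = n } ≃
      { α' : { α : Y →₀ ℕ // (↑α.support : Set Y) ⊆ {x : Y | IsClosed ({x} : Set Y)} } //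
        α'.1.prod (fun x m => Nat.card (Y.residueField x) ^ m) = n } :=
    { toFun := fun a => ⟨⟨a.1, fun x hx => a.2.1 x hx⟩, a.2.2⟩
      invFun := fun b => ⟨b.1.1, fun x hx => b.1.2 hx, b.2⟩
      left_inv := fun _ => rfl
      right_inv := fun _ => rfl }
  step1.trans (e.subtypeEquiv (fun α' => by
    rw [norm_eq f α'.1 (fun x hx => α'.2 hx)]
    rfl))

lemma one_lt_card : 1 < Nat.card k := Finite.one_lt_card

lemma cycleNormCount_pow (m : ℕ) :
    Zeta.cycleNormCount Y (Nat.card k ^ m) = A (dP f) m := by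
  unfold Zeta.cycleNormCount A
  refine (Nat.card_congr (cyclesEquiv f (Nat.card k ^ m))).trans ?_
  refine Nat.card_congr (Equiv.subtypeEquivRight fun β => ?_)
  exact Nat.pow_right_injective (one_lt_card (k := k)) |>.eq_iff

lemma cycleNormCount_eq_zero (f : Y ⟶ Spec (CommRingCat.of k)) [LocallyOfFiniteType f]
    [QuasiCompact f] {n : ℕ} (hn : ∀ m, Nat.card k ^ m ≠ n) :
    Zeta.cycleNormCount Y n = 0 := by
  unfold Zeta.cycleNormCount
  rw [Nat.card_congr (cyclesEquiv f n)]
  haveI : IsEmpty { β : Pt Y →₀ ℕ // Nat.card k ^ deg (dP f) β = n } :=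
    ⟨fun β => hn _ β.2⟩
  exact Nat.card_of_isEmpty

/-- The point counts are bounded by a constant times `q^{r i}`. -/
lemma exists_nPts_le (r : ℕ) (hr : topologicalKrullDim Y ≤ r) :
    ∃ c : ℕ, ∀ i : ℕ, Zeta.nPts f (i + 1) ≤ (c + 1) * (Nat.card k ^ r) ^ (i + 1) := by
  obtain ⟨c, hc⟩ := Groth.Agent.S13062.result f r hr
  refine ⟨c, fun i => ?_⟩
  obtain ⟨k', _, _, hfin, hk'⟩ := exists_field_ext k (i + 1) (Nat.succ_pos i)
  haveI := hfin
  have h1 := Groth.Agent.S13050.result f k'
  have h2 := hc k'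
  rw [h1, hk'] at h2
  calc Zeta.nPts f (i + 1) ≤ c * Nat.card k ^ (r * (i + 1)) := h2
    _ ≤ (c + 1) * Nat.card k ^ (r * (i + 1)) := Nat.mul_le_mul_right _ (Nat.le_succ c)
    _ = (c + 1) * (Nat.card k ^ r) ^ (i + 1) := by rw [pow_mul]

end Groth.Agent.Lib.Helper18.Zeta.AbscissaCycles
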