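import Groth.Agent.Lib.Helper18.Zeta.AbscissaCycles

/-! # The zeta function of a scheme of finite type over a finite field: absolute convergence and
nonvanishing in the half plane `Re s > dim` -/

set_option autoImplicit false
set_option linter.style.haveILetI false
set_option linter.unusedSectionVars false

universe u

open AlgebraicGeometry CategoryTheory

namespace Groth.Agent.Lib.Helper18.Zeta.AbscissaMain

open Groth.Agent.Lib.Helper18.Zeta.CycleCount Groth.Agent.Lib.Helper18.Zeta.AbscissaCycles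
  Groth.Agent.Lib.Helper18.Zeta.Abscissa

lemma term_eq_zero_of_not_pow {k : Type u} [Field k] [Finite k] {Y : Scheme.{u}}
    (f : Y ⟶ Spec (CommRingCat.of k)) [LocallyOfFiniteType f] [QuasiCompact f] (s : ℂ) {n : ℕ} (hn : n ∉ Set.range (fun m : ℕ => Nat.card k ^ m)) :
    LSeries.term (Zeta.arithCoeff Y) s n = 0 := by
  rw [LSeries.term_def]
  split_ifs with h0
  · rfl
  · have : Zeta.arithCoeff Y n = 0 := by
      unfold Zeta.arithCoeff
      rw [cycleNormCount_eq_zero f (fun m hm => hn ⟨m, hm⟩)]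
      simp
    rw [this, zero_div]

lemma term_pow {k : Type u} [Field k] [Finite k] {Y : Scheme.{u}}
    (f : Y ⟶ Spec (CommRingCat.of k)) [LocallyOfFiniteType f] [QuasiCompact f] (s : ℂ) (m : ℕ) :
    LSeries.term (Zeta.arithCoeff Y) s (Nat.card k ^ m) =
      (A (dP f) m : ℂ) * ((Nat.card k : ℂ) ^ (-s)) ^ m := by
  have hq : Nat.card k ^ m ≠ 0 := pow_ne_zero _ (Nat.card_pos (α := k)).ne'
  rw [LSeries.term_of_ne_zero hq]
  unfold Zeta.arithCoeff
  rw [cycleNormCount_pow f m, Nat.cast_pow, ← Complex.natCast_cpow_natCast_mul,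
    Complex.cpow_nat_mul, Complex.cpow_neg, inv_pow, div_eq_mul_inv]

theorem main {k : Type u} [Field k] [Finite k] {Y : Scheme.{u}}
    (f : Y ⟶ Spec (CommRingCat.of k)) [LocallyOfFiniteType f] [QuasiCompact f]
    (r : ℕ) (hr : topologicalKrullDim Y ≤ r) :
    LSeries.abscissaOfAbsConv (Zeta.arithCoeff Y) ≤ (r : ℝ) ∧
      ∀ s : ℂ, (r : ℝ) < s.re → LSeries (Zeta.arithCoeff Y) s ≠ 0 := by
  have hq1 : 1 < Nat.card k := one_lt_card
  have hq0 : 0 < Nat.card k := Nat.card_pos
  obtain ⟨c, hc⟩ := exists_nPts_le f r hr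
  have hA0 : A (dP f) 0 = 1 := A_zero (dP f) (dP_pos f)
  have hrec := CycleCount.rec (dP f) (dP_pos f) (dP_fin f)
  have hN : ∀ i, N (dP f) (i + 1) ≤ (c + 1) * (Nat.card k ^ r) ^ (i + 1) := by
    intro i
    rw [N_eq_nPts]
    exact hc i
  have hg : Function.Injective (fun m : ℕ => Nat.card k ^ m) := Nat.pow_right_injective hq1
  -- the basic estimate on `u = q^{-s}`
  have hu : ∀ s : ℂ, (r : ℝ) < s.re →
      ((Nat.card k ^ r : ℕ) : ℝ) * ‖(Nat.card k : ℂ) ^ (-s)‖ < 1 := by
    intro s hs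
    rw [Complex.norm_natCast_cpow_of_pos hq0, Complex.neg_re, Nat.cast_pow, ← Real.rpow_natCast,
      ← Real.rpow_add (by exact_mod_cast hq0)]
    apply Real.rpow_lt_one_of_one_lt_of_neg (by exact_mod_cast hq1)
    linarith
  have hsummable : ∀ s : ℂ, (r : ℝ) < s.re → LSeriesSummable (Zeta.arithCoeff Y) s := by
    intro s hs
    unfold LSeriesSummable
    rw [← hg.summable_iff (fun n hn => term_eq_zero_of_not_pow f s hn)]
    have h1 := summable_A (A (dP f)) (N (dP f)) hA0 hrec c (Nat.card k ^ r) hN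
      ‖(Nat.card k : ℂ) ^ (-s)‖ (norm_nonneg _) (hu s hs)
    refine Summable.of_norm ?_
    refine h1.congr fun m => ?_
    show _ = ‖LSeries.term (Zeta.arithCoeff Y) s (Nat.card k ^ m)‖
    rw [term_pow f s m, norm_mul, norm_pow, Complex.norm_natCast]
  refine ⟨?_, fun s hs => ?_⟩
  · apply LSeries.abscissaOfAbsConv_le_of_forall_lt_LSeriesSummable
    intro y hy
    exact hsummable (y : ℂ) (by rwa [Complex.ofReal_re])
  · unfold LSeries
    rw [← hg.tsum_eq (fun n hn => by
      by_contra hcon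
      exact hn (term_eq_zero_of_not_pow f s hcon))]
    have h2 := tsum_ne_zero (A (dP f)) (N (dP f)) hA0 hrec c (Nat.card k ^ r) hN
      ((Nat.card k : ℂ) ^ (-s)) (hu s hs)
    convert h2 using 2
    funext m
    exact term_pow f s m

end Groth.Agent.Lib.Helper18.Zeta.AbscissaMain
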