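import Groth.Agent.Lib.Helper18.FF.RiemannRoch
import Groth.Prelude.Def_W4bk4goldsch45
import Mathlib.FieldTheory.Finite.Basic
import Mathlib.Data.Finset.Finsupp
import Mathlib.Order.Interval.Finset.Defs
import Mathlib.Algebra.Order.Group.Int
import Mathlib.Data.Int.Interval

/-! # Function fields over a finite field: finiteness of places and effective divisors of
bounded degree -/

set_option autoImplicit false

namespace Groth.Agent.Lib.Helper18.Zeta

open FunFld WithZero Groth.Agent.Lib.Helper18.FF

universe u v

variable {k : Type u} {K : Type v} [Field k] [Field K] [Algebra k K]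

theorem finite_residueField [Finite k] (hK : IsFunctionField k K) (P : Place k K) :
    Finite (IsLocalRing.ResidueField P.O) := by
  haveI := finiteDimensional_residueField hK P
  exact Module.finite_of_finite k

theorem natCard_residueField [Finite k] (hK : IsFunctionField k K) (P : Place k K) :
    Nat.card (IsLocalRing.ResidueField P.O) = Nat.card k ^ P.deg := by
  haveI := finiteDimensional_residueField hK P
  exact Module.natCard_eq_pow_finrank

theorem one_lt_natCard [Finite k] : 1 < Nat.card k := Finite.one_lt_card

/-- At a place of degree `m` over a field with `q` elements, `z ^ (q ^ m) - z` vanishes for every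
`z` regular there. -/
theorem val_pow_sub_lt_one [Finite k] (hK : IsFunctionField k K) (P : Place k K) {z : K}
    (hz : P.1 z ≤ 1) : P.1 (z ^ (Nat.card k ^ P.deg) - z) < 1 := by
  haveI := finite_residueField hK P
  haveI := Fintype.ofFinite (IsLocalRing.ResidueField P.O)
  have hpow : P.1 (z ^ (Nat.card k ^ P.deg)) ≤ 1 := by
    rw [map_pow]; exact pow_le_one' hz _
  have hle : P.1 (z ^ (Nat.card k ^ P.deg) - z) ≤ 1 :=
    (Valuation.map_sub _ _ _).trans (max_le hpow hz)
  rw [← res_eq_zero_iff P _ hle]
  have h1 : res P (z ^ (Nat.card k ^ P.deg) - z) hle =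
      (res P z hz) ^ (Nat.card k ^ P.deg) - res P z hz := by
    show IsLocalRing.residue P.O ⟨z ^ (Nat.card k ^ P.deg) - z, hle⟩ =
      (IsLocalRing.residue P.O ⟨z, hz⟩) ^ (Nat.card k ^ P.deg) - IsLocalRing.residue P.O ⟨z, hz⟩
    rw [← map_pow, ← map_sub]
    rfl
  rw [h1, ← natCard_residueField hK P, Nat.card_eq_fintype_card, FiniteField.pow_card, sub_self]

theorem finite_places_deg [Finite k] (hK : IsFunctionField k K) (m : ℕ) :
    {P : Place k K | P.deg = m}.Finite := by
  obtain ⟨⟨x, hx, -⟩, -⟩ := id hK
  have hq : 1 < Nat.card k := one_lt_natCard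
  rcases Nat.eq_zero_or_pos m with rfl | hm
  · refine Set.Finite.subset Set.finite_empty ?_
    intro P hP
    exact absurd hP (deg_pos hK P).ne'
  have hN : 1 < Nat.card k ^ m := Nat.one_lt_pow hm.ne' hq
  have hy : Transcendental k (x ^ (Nat.card k ^ m) - x) := by
    have h1 := hx.aeval (Polynomial.X ^ (Nat.card k ^ m) - Polynomial.X : Polynomial k)
      (by rw [FiniteField.X_pow_card_sub_X_natDegree_eq k hN]; omega)
      (mem_nonZeroDivisors_of_ne_zero (by
        rw [Ne, Polynomial.leadingCoeff_eq_zero]
        exact FiniteField.X_pow_card_sub_X_ne_zero k hN))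
    simpa using h1
  refine ((finite_poles hK hx).union (finite_zeros hK hy)).subset ?_
  intro P hP
  have hP' : P.deg = m := hP
  by_cases h : 1 < P.1 x
  · exact Or.inl h
  · right
    have := val_pow_sub_lt_one hK P (not_lt.mp h)
    rw [hP'] at this
    exact this

theorem finite_places_deg_le [Finite k] (hK : IsFunctionField k K) (n : ℕ) :
    {P : Place k K | P.deg ≤ n}.Finite := by
  have : {P : Place k K | P.deg ≤ n} = ⋃ m ∈ Set.Iic n, {P : Place k K | P.deg = m} := by
    ext P; simp
  rw [this]
  exact Set.Finite.biUnion (Set.finite_Iic n) fun m _ => finite_places_deg hK m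

theorem mul_deg_le_deg {D : Divisor k K} (hD : 0 ≤ D) (P : Place k K) :
    D P * (P.deg : ℤ) ≤ D.deg := by
  have h1 : 0 ≤ D - Finsupp.single P (D P) := by
    intro Q
    by_cases hQ : Q = P
    · subst hQ; simp
    · have := hD Q
      simp only [Finsupp.coe_zero, Pi.zero_apply, Finsupp.coe_sub, Pi.sub_apply] at this ⊢
      rw [Finsupp.single_eq_of_ne hQ]
      simpa using this
  have h2 := deg_nonneg_of_nonneg h1
  rw [deg_sub, deg_single] at h2
  linarith

/-- Over a finite field there are finitely many effective divisors of a given degree. -/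
theorem finite_effDiv [Finite k] (hK : IsFunctionField k K) (n : ℕ) :
    {D : Divisor k K | 0 ≤ D ∧ D.deg = n}.Finite := by
  classical
  set S := (finite_places_deg_le hK n).toFinset with hS
  refine Set.Finite.subset (Finset.finite_toSet (S.finsupp fun _ => Finset.Icc (0 : ℤ) n)) ?_
  rintro D ⟨hD, hdeg⟩
  rw [Finset.mem_coe, Finset.mem_finsupp_iff]
  have key : ∀ P : Place k K, D P * (P.deg : ℤ) ≤ n := fun P => hdeg ▸ mul_deg_le_deg hD P
  constructor
  · intro P hP
    rw [hS, Set.Finite.mem_toFinset]
    show P.deg ≤ n
    have h0 : D P ≠ 0 := Finsupp.mem_support_iff.mp hP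
    have h1 : 1 ≤ D P := by
      have := hD P
      simp only [Finsupp.coe_zero, Pi.zero_apply] at this
      omega
    have h2 := key P
    have h3 : (P.deg : ℤ) ≤ n := by nlinarith [Int.natCast_nonneg P.deg]
    exact_mod_cast h3
  · intro P _
    rw [Finset.mem_Icc]
    have h0 : 0 ≤ D P := by
      have := hD P
      simpa using this
    refine ⟨h0, ?_⟩
    have h1 : (1 : ℤ) ≤ P.deg := by exact_mod_cast deg_pos hK P
    have h2 := key P
    nlinarith

theorem finite_effDiv' [Finite k] (hK : IsFunctionField k K) (n : ℕ) :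
    Finite {D : Divisor k K // 0 ≤ D ∧ D.deg = n} :=
  (finite_effDiv hK n).to_subtype

end Groth.Agent.Lib.Helper18.Zeta
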