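import Groth.Agent.Lib.Helper18.FF.Gaps2
import Groth.Agent.Lib.Helper18.FF.RatPlaces2
import Groth.Agent.Lib.Helper18.FF.DistinctOrders
import Groth.Agent.Lib.Helper18.FF.Approx
import Groth.Agent.Lib.Helper18.Zeta.Finite

/-! # Preliminaries for Bombieri's bound: twisted places and congruences at a place -/

set_option autoImplicit false
set_option linter.style.haveILetI false

namespace Groth.Agent.Lib.Helper18.Zeta

open FunFld WithZero Groth.Agent.Lib.Helper18.FF

universe u v

variable {k : Type u} {K : Type v} [Field k] [Field K] [Algebra k K]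

/-- The place `x ↦ P (τ x)` for a ring automorphism `τ` of `K` stabilizing the constants. -/
def twist (τ : K ≃+* K) (hτ : ∀ c : k, ∃ c' : k, τ (algebraMap k K c) = algebraMap k K c')
    (P : Place k K) : Place k K :=
  ⟨P.1.comap (τ : K →+* K), by
    refine ⟨fun c => ?_, fun γ => ?_⟩
    · obtain ⟨c', hc'⟩ := hτ c
      show P.1 (τ (algebraMap k K c)) ≤ 1
      rw [hc']
      exact P.2.1 c'
    · obtain ⟨x, hx⟩ := P.2.2 γ
      exact ⟨τ.symm x, by show P.1 (τ (τ.symm x)) = γ; rw [RingEquiv.apply_symm_apply, hx]⟩⟩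

theorem twist_val (τ : K ≃+* K) (hτ : ∀ c : k, ∃ c' : k, τ (algebraMap k K c) = algebraMap k K c')
    (P : Place k K) (x : K) : (twist τ hτ P).1 x = P.1 (τ x) := rfl

theorem twist_injective (τ : K ≃+* K)
    (hτ : ∀ c : k, ∃ c' : k, τ (algebraMap k K c) = algebraMap k K c') :
    Function.Injective (twist τ hτ) := by
  intro P P' h
  apply Subtype.ext
  ext x
  have := congrArg (fun R : Place k K => R.1 (τ.symm x)) h
  simp only [twist_val, RingEquiv.apply_symm_apply] at this
  exact this

theorem twist_eq_self_iff (τ : K ≃+* K)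
    (hτ : ∀ c : k, ∃ c' : k, τ (algebraMap k K c) = algebraMap k K c') (P : Place k K) :
    twist τ hτ P = P ↔ ∀ x, P.1 (τ x) = P.1 x := by
  constructor
  · intro h x
    rw [← twist_val τ hτ P x, h]
  · intro h
    apply Subtype.ext
    ext x
    exact h x

/-- `τ` maps `L(n Q)` to itself if `Q` is `τ`-invariant. -/
theorem map_mem_L_single (τ : K ≃+* K)
    (hτ : ∀ c : k, ∃ c' : k, τ (algebraMap k K c) = algebraMap k K c') {Q : Place k K}
    (hQ : ∀ x, Q.1 (τ x) = Q.1 x) {n : ℤ} {z : K}
    (hz : z ∈ L (Finsupp.single Q n : Divisor k K)) :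
    τ z ∈ L (Finsupp.single Q n : Divisor k K) := by
  rw [mem_L_single_iff] at hz ⊢
  refine ⟨by rw [hQ]; exact hz.1, fun P hP => ?_⟩
  have hne : twist τ hτ P ≠ Q := by
    intro h
    apply hP
    apply twist_injective τ hτ
    rw [h, (twist_eq_self_iff τ hτ Q).mpr hQ]
  exact hz.2 _ hne

/-! ### Congruences modulo the maximal ideal of a place -/

/-- `a ≡ b` modulo the maximal ideal of `P`. -/
def Cong (P : Place k K) (a b : K) : Prop := P.1 (a - b) < 1

theorem Cong.refl (P : Place k K) (a : K) : Cong P a a := by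
  unfold Cong; rw [sub_self, map_zero]; exact zero_lt_one

theorem Cong.symm {P : Place k K} {a b : K} (h : Cong P a b) : Cong P b a := by
  unfold Cong at h ⊢
  rwa [← neg_sub, Valuation.map_neg]

theorem Cong.trans {P : Place k K} {a b c : K} (h : Cong P a b) (h' : Cong P b c) : Cong P a c := by
  unfold Cong at h h' ⊢
  have : a - c = (a - b) + (b - c) := by ring
  rw [this]
  exact lt_of_le_of_lt (P.1.map_add _ _) (max_lt h h')

theorem Cong.add {P : Place k K} {a b a' b' : K} (h : Cong P a b) (h' : Cong P a' b') :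
    Cong P (a + a') (b + b') := by
  unfold Cong at h h' ⊢
  have : a + a' - (b + b') = (a - b) + (a' - b') := by ring
  rw [this]
  exact lt_of_le_of_lt (P.1.map_add _ _) (max_lt h h')

theorem Cong.mul {P : Place k K} {a b a' b' : K} (h : Cong P a b) (h' : Cong P a' b')
    (ha' : P.1 a' ≤ 1) (hb : P.1 b ≤ 1) : Cong P (a * a') (b * b') := by
  unfold Cong at h h' ⊢
  have : a * a' - b * b' = (a - b) * a' + b * (a' - b') := by ring
  rw [this]
  refine lt_of_le_of_lt (P.1.map_add _ _) (max_lt ?_ ?_)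
  · rw [map_mul]
    calc P.1 (a - b) * P.1 a' ≤ P.1 (a - b) * 1 := mul_le_mul_right ha' _
      _ < 1 := by rw [mul_one]; exact h
  · rw [map_mul]
    calc P.1 b * P.1 (a' - b') ≤ 1 * P.1 (a' - b') := mul_le_mul_left hb _
      _ < 1 := by rw [one_mul]; exact h'

theorem Cong.le_one {P : Place k K} {a b : K} (h : Cong P a b) (hb : P.1 b ≤ 1) : P.1 a ≤ 1 := by
  unfold Cong at h
  have : a = (a - b) + b := by ring
  rw [this]
  exact (P.1.map_add _ _).trans (max_le h.le hb)

theorem Cong.sum {P : Place k K} {ι : Type*} (s : Finset ι) (a b : ι → K)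
    (h : ∀ i ∈ s, Cong P (a i) (b i)) : Cong P (∑ i ∈ s, a i) (∑ i ∈ s, b i) := by
  classical
  induction s using Finset.induction_on with
  | empty => simpa using Cong.refl P 0
  | insert i s hi ih =>
    rw [Finset.sum_insert hi, Finset.sum_insert hi]
    exact Cong.add (h i (Finset.mem_insert_self i s))
      (ih fun j hj => h j (Finset.mem_insert_of_mem hj))

/-- In characteristic `p`, `a ≡ b` implies `a ^ (p ^ e) ≡ b ^ (p ^ e)`. -/
theorem Cong.pow_char_pow {P : Place k K} {a b : K} (h : Cong P a b) (p : ℕ) [Fact p.Prime]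
    [CharP K p] (e : ℕ) : Cong P (a ^ p ^ e) (b ^ p ^ e) := by
  unfold Cong at h ⊢
  rw [← sub_pow_char_pow, map_pow]
  exact pow_lt_one₀ zero_le' h (pow_ne_zero _ (Fact.out : p.Prime).ne_zero)

theorem cong_zero_iff {P : Place k K} {a : K} : Cong P a 0 ↔ P.1 a < 1 := by
  unfold Cong; rw [sub_zero]

/-- A constant congruent to zero vanishes. -/
theorem eq_zero_of_cong_algebraMap {P : Place k K} {c : k} (h : Cong P (algebraMap k K c) 0) :
    c = 0 := by
  by_contra hc
  rw [cong_zero_iff, val_algebraMap P hc] at h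
  exact lt_irrefl _ h

end Groth.Agent.Lib.Helper18.Zeta
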