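import Groth.Agent.Lib.Helper18.Zeta.Bombieri1
import Groth.Agent.Lib.Helper18.FF.Riemann

/-! # Bombieri's bound for the number of rational places fixed by a twisted Frobenius -/

set_option autoImplicit false
set_option linter.style.haveILetI false

namespace Groth.Agent.Lib.Helper18.Zeta

open FunFld WithZero Groth.Agent.Lib.Helper18.FF

universe u v

variable {k : Type u} {K : Type v} [Field k] [Field K] [Algebra k K]

open scoped Classical in
/-- The number of non-gaps in `[0, m]` at a rational place is `ℓ(mQ)`. -/
theorem card_nonGaps (hK : IsFunctionField k K) {Q : Place k K} (hQ : Q.deg = 1) (m : ℕ) :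
    ((Finset.range (m + 1)).filter (fun j => ¬ IsGap Q j)).card =
      ell (Finsupp.single Q (m : ℤ) : Divisor k K) := by
  have h1 := ell_single_add_card_gaps hK hQ m
  have h2 := Finset.card_filter_add_card_filter_not (s := Finset.range (m + 1))
    (fun j => IsGap Q j)
  rw [Finset.card_range] at h2
  have h3 : (Finset.range (m + 1)).filter (fun j => IsGap Q j) =
      (Finset.Icc 1 m).filter (fun j => IsGap Q j) := by
    ext j
    simp only [Finset.mem_filter, Finset.mem_range, Finset.mem_Icc]
    constructor
    · rintro ⟨hj, hg⟩
      refine ⟨⟨?_, by omega⟩, hg⟩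
      rcases Nat.eq_zero_or_pos j with rfl | hpos
      · exact absurd hg (not_isGap_zero hK Q)
      · exact hpos
    · rintro ⟨⟨_, hj⟩, hg⟩
      exact ⟨by omega, hg⟩
  rw [h3] at h2
  omega

/-- Elements with exact pole orders at the non-gaps. -/
theorem exists_nonGap_family (Q : Place k K) :
    ∃ u : ℕ → K, ∀ j, ¬ IsGap Q j →
      u j ∈ L (Finsupp.single Q (j : ℤ) : Divisor k K) ∧ Q.1 (u j) = exp (j : ℤ) := by
  classical
  refine ⟨fun j => if h : ¬ IsGap Q j then (exists_of_not_isGap h).choose else 0, fun j hj => ?_⟩
  simp only [dif_pos hj]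
  exact (exists_of_not_isGap hj).choose_spec

theorem natCard_L [Finite k] (hK : IsFunctionField k K) (D : Divisor k K) :
    Nat.card (L D) = Nat.card k ^ ell D := by
  haveI := finiteDimensional_L hK D
  exact Module.natCard_eq_pow_finrank

theorem finite_L [Finite k] (hK : IsFunctionField k K) (D : Divisor k K) : Finite (L D) := by
  haveI := finiteDimensional_L hK D
  exact Module.finite_of_finite k

end Groth.Agent.Lib.Helper18.Zeta
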