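import Groth.Agent.Lib.Helper18.Zeta.Bombieri2

/-! # Bombieri's bound: the auxiliary function -/

set_option autoImplicit false
set_option linter.style.haveILetI false

namespace Groth.Agent.Lib.Helper18.Zeta

open FunFld WithZero Groth.Agent.Lib.Helper18.FF

universe u v

variable {k : Type u} {K : Type v} [Field k] [Field K] [Algebra k K]

section key

variable (hK : IsFunctionField k K) (τ : K ≃+* K) (p : ℕ) [Fact p.Prime] [CharP k p] (e : ℕ)
  (hτc : ∀ c : k, τ (algebraMap k K c) = algebraMap k K (c ^ (p ^ e * p ^ e)))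
  {Q : Place k K} (hQdeg : Q.deg = 1) (hQτ : ∀ x, Q.1 (τ x) = Q.1 x)
  (S : Finset ℕ) (hS : ∀ j ∈ S, j < p ^ e) (n : ℕ) (u : ℕ → K)
  (hu : ∀ j ∈ S, u j ∈ L (Finsupp.single Q (j : ℤ) : Divisor k K) ∧ Q.1 (u j) = exp (j : ℤ))
  (w : ℕ → K) (hw : ∀ j ∈ S, w j ∈ L (Finsupp.single Q (n : ℤ) : Divisor k K))

include hS hu in
/-- The function `y = ∑ uⱼ wⱼ^{q₀}` is nonzero if some `wⱼ` is. -/
theorem aux_ne_zero (hne : ∃ j ∈ S, w j ≠ 0) : ∑ j ∈ S, u j * w j ^ p ^ e ≠ 0 := by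
  classical
  intro hzero
  set S' := S.filter (fun j => w j ≠ 0) with hS'
  have hq0 : 0 < p ^ e := pow_pos (Fact.out : p.Prime).pos e
  have hsum : ∑ j ∈ S', u j * w j ^ p ^ e = 0 := by
    rw [← hzero, hS', Finset.sum_filter]
    refine Finset.sum_congr rfl fun j _ => ?_
    by_cases h : w j = 0
    · rw [if_neg (not_not.mpr h), h, zero_pow hq0.ne', mul_zero]
    · rw [if_pos h]
  have hu0 : ∀ j ∈ S, u j ≠ 0 := by
    intro j hj h0
    have := (hu j hj).2
    rw [h0, map_zero] at this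
    exact exp_ne_zero this.symm
  have hval : ∀ j ∈ S', Q.1 (u j * w j ^ p ^ e) = exp ((j : ℤ) - (p ^ e : ℕ) * Q.ord (w j)) := by
    intro j hj
    have hjS := (Finset.mem_filter.mp hj).1
    have hwj := (Finset.mem_filter.mp hj).2
    rw [map_mul, map_pow, (hu j hjS).2, val_eq_exp_neg_ord Q hwj, ← exp_nsmul, ← exp_add]
    congr 1
    rw [nsmul_eq_mul]
    ring
  obtain ⟨j₀, hj₀S, hj₀⟩ := hne
  have hj₀ : j₀ ∈ S' := Finset.mem_filter.mpr ⟨hj₀S, hj₀⟩
  have key := eq_zero_of_sum_eq_zero_of_val_injective Q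
    (fun j : S' => u j.1 * w j.1 ^ p ^ e) (fun j => by
      have hjS := (Finset.mem_filter.mp j.2).1
      exact mul_ne_zero (hu0 j.1 hjS) (pow_ne_zero _ (Finset.mem_filter.mp j.2).2))
    (by
      intro j j' hjj'
      simp only at hjj'
      rw [hval j.1 j.2, hval j'.1 j'.2] at hjj'
      have h1 := exp_injective hjj'
      have hj := hS j.1 (Finset.mem_filter.mp j.2).1
      have hj' := hS j'.1 (Finset.mem_filter.mp j'.2).1
      have h2 : ((j.1 : ℤ) - (p ^ e : ℕ) * Q.ord (w j.1)) % ((p ^ e : ℕ) : ℤ) =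
          ((j'.1 : ℤ) - (p ^ e : ℕ) * Q.ord (w j'.1)) % ((p ^ e : ℕ) : ℤ) := by rw [h1]
      rw [Int.sub_mul_emod_self_left, Int.sub_mul_emod_self_left,
        Int.emod_eq_of_lt (by positivity) (by exact_mod_cast hj),
        Int.emod_eq_of_lt (by positivity) (by exact_mod_cast hj')] at h2
      exact Subtype.ext (by exact_mod_cast h2))
    (fun _ => (1 : k)) (by
      simp only [one_smul]
      rw [Finset.sum_coe_sort S' (fun j => u j * w j ^ p ^ e)]
      exact hsum)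
  exact one_ne_zero (key ⟨j₀, hj₀⟩)

include hS hu hw in
/-- `y ∈ L((m + q₀ n) Q)` when all `j ∈ S` are at most `m`. -/
theorem aux_mem_L (m : ℕ) (hm : ∀ j ∈ S, j ≤ m) :
    ∑ j ∈ S, u j * w j ^ p ^ e ∈
      L (Finsupp.single Q ((m + p ^ e * n : ℕ) : ℤ) : Divisor k K) := by
  refine Submodule.sum_mem _ fun j hj => ?_
  have h1 := mem_L_single_iff.mp (hu j hj).1
  have h2 := mem_L_single_iff.mp (hw j hj)
  rw [mem_L_single_iff]
  refine ⟨?_, fun P hP => ?_⟩
  · rw [map_mul, map_pow]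
    calc Q.1 (u j) * Q.1 (w j) ^ p ^ e ≤ exp (j : ℤ) * exp (n : ℤ) ^ p ^ e :=
          mul_le_mul' h1.1 (pow_le_pow_left' h2.1 _)
      _ = exp ((j + p ^ e * n : ℕ) : ℤ) := by
          rw [← exp_nsmul, ← exp_add]; congr 1
      _ ≤ exp ((m + p ^ e * n : ℕ) : ℤ) := by
          rw [exp_le_exp]; have := hm j hj; push_cast; omega
  · rw [map_mul, map_pow]
    exact mul_le_one' (h1.2 P hP) (pow_le_one' (h2.2 P hP) _)

include hK hτc hu hw in
/-- `y` vanishes at every `τ`-invariant rational place other than `Q`. -/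
theorem aux_val_lt_one (hrel : ∑ j ∈ S, u j ^ p ^ e * τ (w j) = 0)
    {P : Place k K} (hPdeg : P.deg = 1) (hPτ : ∀ x, P.1 (τ x) = P.1 x) (hPQ : P ≠ Q) :
    P.1 (∑ j ∈ S, u j * w j ^ p ^ e) < 1 := by
  classical
  haveI : CharP K p := charP_of_injective_algebraMap (algebraMap k K).injective p
  have huP : ∀ j ∈ S, P.1 (u j) ≤ 1 := fun j hj => (mem_L_single_iff.mp (hu j hj).1).2 P hPQ
  have hwP : ∀ j ∈ S, P.1 (w j) ≤ 1 := fun j hj => (mem_L_single_iff.mp (hw j hj)).2 P hPQ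
  have hc : ∀ j, ∃ c : k, j ∈ S → Cong P (u j) (algebraMap k K c) := by
    intro j
    by_cases hj : j ∈ S
    · obtain ⟨c, hc⟩ := exists_const_sub_lt_one hK hPdeg (huP j hj)
      exact ⟨c, fun _ => hc⟩
    · exact ⟨0, fun h => absurd h hj⟩
  have hd : ∀ j, ∃ d : k, j ∈ S → Cong P (w j) (algebraMap k K d) := by
    intro j
    by_cases hj : j ∈ S
    · obtain ⟨d, hd⟩ := exists_const_sub_lt_one hK hPdeg (hwP j hj)
      exact ⟨d, fun _ => hd⟩
    · exact ⟨0, fun h => absurd h hj⟩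
  choose c hc using hc
  choose d hd using hd
  -- `y ≡ ∑ cⱼ dⱼ^{q₀}`
  have hy : Cong P (∑ j ∈ S, u j * w j ^ p ^ e)
      (algebraMap k K (∑ j ∈ S, c j * d j ^ p ^ e)) := by
    rw [map_sum]
    refine Cong.sum S _ _ fun j hj => ?_
    rw [map_mul, map_pow]
    exact Cong.mul (hc j hj) (Cong.pow_char_pow (hd j hj) p e)
      (by rw [map_pow]; exact pow_le_one' (hwP j hj) _) (P.2.1 _)
  -- the relation gives `(∑ cⱼ dⱼ^{q₀})^{q₀} = 0`
  have hrel' : Cong P (∑ j ∈ S, u j ^ p ^ e * τ (w j))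
      (algebraMap k K (∑ j ∈ S, c j ^ p ^ e * d j ^ (p ^ e * p ^ e))) := by
    rw [map_sum]
    refine Cong.sum S _ _ fun j hj => ?_
    rw [map_mul, map_pow]
    refine Cong.mul (Cong.pow_char_pow (hc j hj) p e) ?_ (by rw [hPτ]; exact hwP j hj)
      (by rw [map_pow]; exact pow_le_one' (P.2.1 _) _)
    unfold Cong
    rw [← hτc, ← map_sub, hPτ]
    exact hd j hj
  rw [hrel] at hrel'
  have hsum : ∑ j ∈ S, c j ^ p ^ e * d j ^ (p ^ e * p ^ e) =
      (∑ j ∈ S, c j * d j ^ p ^ e) ^ p ^ e := by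
    rw [sum_pow_char_pow]
    refine Finset.sum_congr rfl fun j _ => ?_
    rw [mul_pow, ← pow_mul]
  rw [hsum] at hrel'
  have h0 : (∑ j ∈ S, c j * d j ^ p ^ e) ^ p ^ e = 0 := eq_zero_of_cong_algebraMap hrel'.symm
  have h0' : ∑ j ∈ S, c j * d j ^ p ^ e = 0 := pow_eq_zero_iff (pow_ne_zero _ (Fact.out : p.Prime).ne_zero) |>.mp h0
  rw [h0', map_zero] at hy
  exact cong_zero_iff.mp hy

end key

end Groth.Agent.Lib.Helper18.Zeta
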