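import Groth.Agent.Lib.Helper18.Zeta.Bombieri3
import Groth.Agent.Lib.Helper18.FF.Special
import Mathlib.Data.Fintype.Pigeonhole

/-! # Bombieri's bound -/

set_option autoImplicit false
set_option linter.style.haveILetI false

namespace Groth.Agent.Lib.Helper18.Zeta

open FunFld WithZero Groth.Agent.Lib.Helper18.FF

universe u v

variable {k : Type u} {K : Type v} [Field k] [Field K] [Algebra k K]

/-- **Bombieri's bound**: the number of rational places invariant under an automorphism `τ` of `K`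
inducing `c ↦ c^{q₀²}` on the constants is at most `q₀² + (2g+1) q₀`, for `q₀ > g² + 3g + 1`. -/
theorem bombieri [Finite k] (hK : IsFunctionField k K) (τ : K ≃+* K) (p : ℕ) [Fact p.Prime]
    [CharP k p] (e : ℕ)
    (hτc : ∀ c : k, τ (algebraMap k K c) = algebraMap k K (c ^ (p ^ e * p ^ e)))
    (g : ℕ) (hg : genus k K ≤ g) (hq : g ^ 2 + 3 * g + 1 < p ^ e)
    (T : Finset (Place k K)) (hT : ∀ P ∈ T, P.deg = 1 ∧ ∀ x, P.1 (τ x) = P.1 x) :
    T.card ≤ p ^ e * p ^ e + (2 * g + 1) * p ^ e := by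
  classical
  rcases T.eq_empty_or_nonempty with rfl | ⟨Q, hQT⟩
  · simp
  obtain ⟨hQdeg, hQτ⟩ := hT Q hQT
  have hτc' : ∀ c : k, ∃ c' : k, τ (algebraMap k K c) = algebraMap k K c' :=
    fun c => ⟨_, hτc c⟩
  set q₀ := p ^ e with hq₀
  have hq₀pos : 0 < q₀ := pow_pos (Fact.out : p.Prime).pos e
  set m := q₀ - 1 with hm
  set n := q₀ + 2 * g with hn
  set S := (Finset.range (m + 1)).filter (fun j => ¬ IsGap Q j) with hS
  have hScard : S.card = ell (Finsupp.single Q (m : ℤ) : Divisor k K) := card_nonGaps hK hQdeg m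
  have hSlt : ∀ j ∈ S, j < q₀ := by
    intro j hj
    have := Finset.mem_range.mp (Finset.mem_filter.mp hj).1
    omega
  have hSle : ∀ j ∈ S, j ≤ m := by
    intro j hj
    have := Finset.mem_range.mp (Finset.mem_filter.mp hj).1
    omega
  obtain ⟨u, hu⟩ := exists_nonGap_family Q
  have hu' : ∀ j ∈ S, u j ∈ L (Finsupp.single Q (j : ℤ) : Divisor k K) ∧
      Q.1 (u j) = exp (j : ℤ) := fun j hj => hu j (Finset.mem_filter.mp hj).2
  -- dimension bounds
  have hs : (m : ℤ) + 1 - g ≤ S.card := by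
    have h1 := delta_le_genus hK (Finsupp.single Q (m : ℤ) : Divisor k K)
    unfold delta at h1
    rw [deg_single, hQdeg] at h1
    rw [hScard]
    have : (genus k K : ℤ) ≤ g := by exact_mod_cast hg
    push_cast at h1 ⊢
    linarith
  have hl : (n : ℤ) + 1 - g ≤ ell (Finsupp.single Q (n : ℤ) : Divisor k K) := by
    have h1 := delta_le_genus hK (Finsupp.single Q (n : ℤ) : Divisor k K)
    unfold delta at h1
    rw [deg_single, hQdeg] at h1
    have : (genus k K : ℤ) ≤ g := by exact_mod_cast hg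
    push_cast at h1 ⊢
    linarith
  have hW : (ell (Finsupp.single Q ((m * q₀ + n : ℕ) : ℤ) : Divisor k K) : ℤ) ≤
      m * q₀ + n + 1 := by
    have h1 := ell_le_deg_add_one hK (D := (Finsupp.single Q ((m * q₀ + n : ℕ) : ℤ) : Divisor k K))
      (by
        rw [deg_single, hQdeg]
        have : (0 : ℤ) ≤ ((m * q₀ + n : ℕ) : ℤ) * ((1 : ℕ) : ℤ) := by positivity
        linarith)
    rw [deg_single, hQdeg] at h1
    push_cast at h1 ⊢
    linarith
  have hcard : ell (Finsupp.single Q ((m * q₀ + n : ℕ) : ℤ) : Divisor k K) <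
      ell (Finsupp.single Q (n : ℤ) : Divisor k K) * S.card := by
    have hmq : (m : ℤ) = q₀ - 1 := by rw [hm]; push_cast [Nat.cast_sub hq₀pos]; ring
    have hnq : (n : ℤ) = q₀ + 2 * g := by rw [hn]; push_cast; ring
    have hqz : ((g : ℤ)) ^ 2 + 3 * g + 1 < q₀ := by exact_mod_cast hq
    have h1 : (0 : ℤ) ≤ (q₀ : ℤ) - g := by nlinarith
    have h2 : ((q₀ : ℤ) - g) * ((q₀ : ℤ) + g + 1) ≤
        (S.card : ℤ) * ell (Finsupp.single Q (n : ℤ) : Divisor k K) := by
      apply mul_le_mul (by linarith) (by linarith) (by linarith) (by linarith)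
    have h3 : (m : ℤ) * q₀ + n + 1 = (q₀ : ℤ) * q₀ + 2 * g + 1 := by rw [hmq, hnq]; ring
    have : (ell (Finsupp.single Q ((m * q₀ + n : ℕ) : ℤ) : Divisor k K) : ℤ) <
        (ell (Finsupp.single Q (n : ℤ) : Divisor k K) : ℤ) * S.card := by nlinarith
    exact_mod_cast this
  -- the semilinear map
  haveI := finite_L hK (Finsupp.single Q (n : ℤ) : Divisor k K)
  haveI := finite_L hK (Finsupp.single Q ((m * q₀ + n : ℕ) : ℤ) : Divisor k K)
  have hmemB : ∀ z : S → L (Finsupp.single Q (n : ℤ) : Divisor k K),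
      ∑ j : S, u j.1 ^ q₀ * τ (z j).1 ∈
        L (Finsupp.single Q ((m * q₀ + n : ℕ) : ℤ) : Divisor k K) := by
    intro z
    refine Submodule.sum_mem _ fun j _ => ?_
    have h1 := mem_L_single_iff.mp (hu' j.1 j.2).1
    have h2 := mem_L_single_iff.mp (map_mem_L_single τ hτc' hQτ (z j).2)
    rw [mem_L_single_iff]
    refine ⟨?_, fun P hP => ?_⟩
    · rw [map_mul, map_pow]
      calc Q.1 (u j.1) ^ q₀ * Q.1 (τ (z j).1) ≤ exp (j.1 : ℤ) ^ q₀ * exp (n : ℤ) :=
            mul_le_mul' (pow_le_pow_left' h1.1 _) h2.1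
        _ = exp ((j.1 * q₀ + n : ℕ) : ℤ) := by
            rw [← exp_nsmul, ← exp_add]; congr 1; push_cast; rw [nsmul_eq_mul]; ring
        _ ≤ exp ((m * q₀ + n : ℕ) : ℤ) := by
            rw [exp_le_exp]
            have := hSle j.1 j.2
            have : j.1 * q₀ ≤ m * q₀ := Nat.mul_le_mul_right _ this
            exact_mod_cast Nat.add_le_add_right this n
    · rw [map_mul, map_pow]
      exact mul_le_one' (pow_le_one' (h1.2 P hP) _) (h2.2 P hP)
  let B : (S → L (Finsupp.single Q (n : ℤ) : Divisor k K)) →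
      L (Finsupp.single Q ((m * q₀ + n : ℕ) : ℤ) : Divisor k K) :=
    fun z => ⟨∑ j : S, u j.1 ^ q₀ * τ (z j).1, hmemB z⟩
  have hlt : Nat.card (L (Finsupp.single Q ((m * q₀ + n : ℕ) : ℤ) : Divisor k K)) <
      Nat.card (S → L (Finsupp.single Q (n : ℤ) : Divisor k K)) := by
    have hSc : Nat.card S = S.card := by rw [Nat.card_eq_fintype_card, Fintype.card_coe]
    rw [Nat.card_fun, natCard_L hK, natCard_L hK, hSc, ← pow_mul]
    exact Nat.pow_lt_pow_right one_lt_natCard hcard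
  haveI : Fintype (S → L (Finsupp.single Q (n : ℤ) : Divisor k K)) := Fintype.ofFinite _
  haveI : Fintype (L (Finsupp.single Q ((m * q₀ + n : ℕ) : ℤ) : Divisor k K)) :=
    Fintype.ofFinite _
  rw [Nat.card_eq_fintype_card, Nat.card_eq_fintype_card] at hlt
  obtain ⟨z, z', hne, heq⟩ := Fintype.exists_ne_map_eq_of_card_lt B hlt
  -- the difference
  set w : ℕ → K := fun j => if h : j ∈ S then ((z ⟨j, h⟩ : K) - (z' ⟨j, h⟩ : K)) else 0 with hw
  have hwS : ∀ j (h : j ∈ S), w j = (z ⟨j, h⟩ : K) - (z' ⟨j, h⟩ : K) := by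
    intro j h; simp only [hw, dif_pos h]
  have hwL : ∀ j ∈ S, w j ∈ L (Finsupp.single Q (n : ℤ) : Divisor k K) := by
    intro j hj
    rw [hwS j hj]
    exact Submodule.sub_mem _ (z ⟨j, hj⟩).2 (z' ⟨j, hj⟩).2
  have hwne : ∃ j ∈ S, w j ≠ 0 := by
    by_contra hcon
    push Not at hcon
    apply hne
    funext j
    apply Subtype.ext
    have := hcon j.1 j.2
    rw [hwS j.1 j.2, sub_eq_zero] at this
    exact this
  have hrel : ∑ j ∈ S, u j ^ q₀ * τ (w j) = 0 := by
    have h1 := congrArg Subtype.val heq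
    simp only [B] at h1
    rw [← Finset.sum_coe_sort S (fun j => u j ^ q₀ * τ (w j))]
    have h2 : ∀ j : S, u j.1 ^ q₀ * τ (w j.1) =
        u j.1 ^ q₀ * τ (z j).1 - u j.1 ^ q₀ * τ (z' j).1 := by
      intro j
      rw [hwS j.1 j.2, map_sub, mul_sub]
    rw [Finset.sum_congr rfl (fun j _ => h2 j), Finset.sum_sub_distrib, h1, sub_self]
  -- the auxiliary function
  set y := ∑ j ∈ S, u j * w j ^ q₀ with hy
  have hy0 : y ≠ 0 := aux_ne_zero p e S hSlt u hu' w hwne
  have hyL := aux_mem_L p e S hSlt n u hu' w hwL m hSle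
  rw [← hq₀, ← hy, mem_L_single_iff] at hyL
  have hyP : ∀ P ∈ T.erase Q, P.1 y < 1 := by
    intro P hP
    obtain ⟨hPQ, hPT⟩ := Finset.mem_erase.mp hP
    obtain ⟨hPdeg, hPτ⟩ := hT P hPT
    exact aux_val_lt_one hK τ p e hτc S n u hu' w hwL hrel hPdeg hPτ hPQ
  -- the degree count
  set D : Divisor k K := Finsupp.single Q ((m + q₀ * n : ℕ) : ℤ) -
    ∑ P ∈ T.erase Q, Finsupp.single P (1 : ℤ) with hD
  have hsumapply : ∀ P : Place k K, (∑ P' ∈ T.erase Q, Finsupp.single P' (1 : ℤ) :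
      Divisor k K) P = if P ∈ T.erase Q then 1 else 0 := by
    intro P
    rw [Finsupp.finset_sum_apply]
    simp only [Finsupp.single_apply]
    rw [Finset.sum_ite_eq']
  have hyD : y ∈ L D := by
    intro P
    rw [hD, Finsupp.sub_apply, hsumapply]
    by_cases hPQ : P = Q
    · subst hPQ
      rw [Finsupp.single_eq_same, if_neg (Finset.notMem_erase _ _), sub_zero]
      exact hyL.1
    · rw [Finsupp.single_eq_of_ne hPQ]
      by_cases hPT : P ∈ T.erase Q
      · rw [if_pos hPT, zero_sub]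
        exact (zm0_lt_one_iff _).mp (hyP P hPT)
      · rw [if_neg hPT, sub_zero, exp_zero]
        exact hyL.2 P hPQ
  have hdeg : ¬ D.deg < 0 := by
    intro hneg
    have := L_eq_bot_of_deg_neg hK D hneg
    rw [this, Submodule.mem_bot] at hyD
    exact hy0 hyD
  have hDdeg : D.deg = ((m + q₀ * n : ℕ) : ℤ) - ((T.erase Q).card : ℤ) := by
    rw [hD, deg_sub, deg_single, hQdeg, deg_finset_sum]
    have : ∀ P ∈ T.erase Q, Divisor.deg (Finsupp.single P (1 : ℤ) : Divisor k K) = 1 := by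
      intro P hP
      rw [deg_single, (hT P (Finset.mem_erase.mp hP).2).1]
      simp
    rw [Finset.sum_congr rfl this]
    simp
  rw [hDdeg, Finset.card_erase_of_mem hQT] at hdeg
  have hTpos : 0 < T.card := Finset.card_pos.mpr ⟨Q, hQT⟩
  have h3 : ((T.card - 1 : ℕ) : ℤ) ≤ ((m + q₀ * n : ℕ) : ℤ) := by linarith
  have h4 : T.card - 1 ≤ m + q₀ * n := by exact_mod_cast h3
  have h5 : m + q₀ * n + 1 = q₀ * q₀ + (2 * g + 1) * q₀ := by
    rw [hm, hn]
    have : q₀ - 1 + 1 = q₀ := Nat.sub_add_cancel hq₀pos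
    calc q₀ - 1 + q₀ * (q₀ + 2 * g) + 1 = (q₀ - 1 + 1) + q₀ * (q₀ + 2 * g) := by ring
      _ = q₀ + q₀ * (q₀ + 2 * g) := by rw [this]
      _ = q₀ * q₀ + (2 * g + 1) * q₀ := by ring
  omega

end Groth.Agent.Lib.Helper18.Zeta
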