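import Groth.Agent.Lib.Helper18.Zeta.Finite
import Groth.Agent.Lib.Helper18.FF.LinEquiv
import Groth.Agent.Lib.Helper18.FF.Riemann
import Mathlib.GroupTheory.QuotientGroup.Basic
import Mathlib.Algebra.GroupWithZero.Units.Fintype

/-! # The divisor class group of a function field over a finite field and the count of effective
divisors in a class -/

set_option autoImplicit false

namespace Groth.Agent.Lib.Helper18.Zeta

open FunFld WithZero Groth.Agent.Lib.Helper18.FF

universe u v

variable {k : Type u} {K : Type v} [Field k] [Field K] [Algebra k K]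

theorem degHom_apply (D : Divisor k K) : degHom k K D = D.deg := by
  unfold degHom Divisor.deg
  rw [Finsupp.liftAddHom_apply]
  rfl

theorem mem_ker_degHom {D : Divisor k K} : D ∈ (degHom k K).ker ↔ D.deg = 0 := by
  rw [AddMonoidHom.mem_ker, degHom_apply]

theorem div_zero' (hK : IsFunctionField k K) : FunFld.div k (0 : K) = 0 := by
  ext P
  rw [div_apply hK, ord_zero, Finsupp.zero_apply]

theorem mem_prinDivs_iff (hK : IsFunctionField k K) {D : Divisor k K} :
    D ∈ prinDivs k K ↔ ∃ x : K, x ≠ 0 ∧ D = FunFld.div k x := by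
  constructor
  · intro h
    unfold prinDivs at h
    induction h using AddSubgroup.closure_induction with
    | mem y hy =>
      obtain ⟨x, rfl⟩ := hy
      by_cases hx : x = 0
      · exact ⟨1, one_ne_zero, by rw [hx, div_one hK, div_zero' hK]⟩
      · exact ⟨x, hx, rfl⟩
    | zero => exact ⟨1, one_ne_zero, (div_one hK).symm⟩
    | add a b _ _ ha hb =>
      obtain ⟨x, hx, rfl⟩ := ha
      obtain ⟨y, hy, rfl⟩ := hb
      exact ⟨x * y, mul_ne_zero hx hy, (div_mul hK hx hy).symm⟩
    | neg a _ ha =>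
      obtain ⟨x, hx, rfl⟩ := ha
      exact ⟨x⁻¹, inv_ne_zero hx, (div_inv hK x).symm⟩
  · rintro ⟨x, -, rfl⟩
    exact AddSubgroup.subset_closure ⟨x, rfl⟩

variable (k K) in
/-- The group of divisor classes of degree zero. -/
abbrev Cl0 : Type _ := (degHom k K).ker ⧸ (prinDivs k K).addSubgroupOf (degHom k K).ker

/-- A divisor of degree zero, as an element of the kernel of the degree map. -/
def toKer (D : Divisor k K) (h : D.deg = 0) : (degHom k K).ker := ⟨D, mem_ker_degHom.mpr h⟩

/-- The class of a divisor of degree zero. -/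
noncomputable def cl0 (D : Divisor k K) (h : D.deg = 0) : Cl0 k K := QuotientAddGroup.mk (toKer D h)

theorem cl0_surjective (c : Cl0 k K) : ∃ (D : Divisor k K) (h : D.deg = 0), cl0 D h = c := by
  obtain ⟨⟨D, hD⟩, rfl⟩ := QuotientAddGroup.mk_surjective c
  exact ⟨D, mem_ker_degHom.mp hD, rfl⟩

theorem cl0_eq_iff (hK : IsFunctionField k K) {D E : Divisor k K} (hD : D.deg = 0)
    (hE : E.deg = 0) : cl0 D hD = cl0 E hE ↔ ∃ x : K, x ≠ 0 ∧ E = D + FunFld.div k x := by
  unfold cl0
  rw [QuotientAddGroup.eq, AddSubgroup.mem_addSubgroupOf, mem_prinDivs_iff hK]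
  have hc : (((-toKer D hD + toKer E hE : (degHom k K).ker)) : Divisor k K) = -D + E := rfl
  rw [hc]
  constructor
  · rintro ⟨x, hx, h⟩
    exact ⟨x, hx, by rw [← h]; abel⟩
  · rintro ⟨x, hx, rfl⟩
    exact ⟨x, hx, by abel⟩

/-- The effective divisors linearly equivalent to `C`. -/
def EffIn (C : Divisor k K) : Set (Divisor k K) :=
  {D | 0 ≤ D ∧ ∃ x : K, x ≠ 0 ∧ D = C + FunFld.div k x}

theorem mem_range_of_div_eq_zero (hK : IsFunctionField k K) {z : K} (hz : z ≠ 0)
    (h : FunFld.div k z = 0) : ∃ c : k, c ≠ 0 ∧ z = algebraMap k K c := by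
  have h1 : z ∈ L (0 : Divisor k K) := by
    rw [mem_L_iff_div hK _ hz, h, add_zero]
  rw [L_zero_eq_one hK, Submodule.mem_one] at h1
  obtain ⟨c, rfl⟩ := h1
  refine ⟨c, ?_, rfl⟩
  rintro rfl
  exact hz (map_zero _)

theorem card_nonzero {M : Type*} [AddCommGroup M] [Finite M] :
    Nat.card {x : M // x ≠ 0} = Nat.card M - 1 := by
  classical
  rw [eq_comm, ← Nat.card_congr (Equiv.sumCompl (· = (0 : M))), Nat.card_sum, Nat.card_unique,
    add_tsub_cancel_left]

/-- The number of effective divisors in the class of `C` is `(q ^ ℓ(C) - 1) / (q - 1)`. -/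
theorem card_effIn [Finite k] (hK : IsFunctionField k K) (C : Divisor k K) :
    ((Nat.card k : ℤ) - 1) * (Nat.card (EffIn C) : ℤ) = (Nat.card k : ℤ) ^ ell C - 1 := by
  classical
  haveI := finiteDimensional_L hK C
  haveI : Finite (L C) := Module.finite_of_finite k
  have hψ : ∀ x : {x : L C // x ≠ 0}, C + FunFld.div k (x.1 : K) ∈ EffIn C := by
    intro x
    have hx0 : (x.1 : K) ≠ 0 := fun h => x.2 (Subtype.ext h)
    exact ⟨(mem_L_iff_div hK C hx0).mp x.1.2, _, hx0, rfl⟩
  let ψ : {x : L C // x ≠ 0} → EffIn C := fun x => ⟨_, hψ x⟩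
  have hsurj : Function.Surjective ψ := by
    rintro ⟨D, hD, x, hx, rfl⟩
    exact ⟨⟨⟨x, (mem_L_iff_div hK C hx).mpr hD⟩, fun h => hx (congrArg Subtype.val h)⟩, rfl⟩
  let s := Function.surjInv hsurj
  have hs : ∀ D, ψ (s D) = D := Function.surjInv_eq hsurj
  have hψsmul : ∀ (u : kˣ) (x : {x : L C // x ≠ 0}) (h : (u : k) • x.1 ≠ 0),
      ψ ⟨(u : k) • x.1, h⟩ = ψ x := by
    intro u x h
    apply Subtype.ext
    show C + FunFld.div k (((u : k) • x.1 : L C) : K) = C + FunFld.div k (x.1 : K)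
    have hx0 : (x.1 : K) ≠ 0 := fun h => x.2 (Subtype.ext h)
    have hu0 : algebraMap k K (u : k) ≠ 0 := by
      rw [Ne, map_eq_zero]; exact u.ne_zero
    rw [Submodule.coe_smul, Algebra.smul_def, div_mul hK hu0 hx0, div_algebraMap hK, zero_add]
  let Φ : EffIn C × kˣ → {x : L C // x ≠ 0} := fun p =>
    ⟨(p.2 : k) • (s p.1).1, smul_ne_zero p.2.ne_zero (s p.1).2⟩
  have hΦ : Function.Bijective Φ := by
    constructor
    · rintro ⟨D, u⟩ ⟨D', u'⟩ h
      have h1 : ψ (Φ (D, u)) = ψ (Φ (D', u')) := by rw [h]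
      rw [hψsmul u (s D) _, hψsmul u' (s D') _, hs, hs] at h1
      subst h1
      have h2 : (u : k) • (s D).1 = (u' : k) • (s D).1 := congrArg Subtype.val h
      have h3 : ((u : k) - (u' : k)) • (s D).1 = 0 := by
        have := sub_smul (u : k) (u' : k) (s D).1
        rw [this, h2, sub_self]
      rcases smul_eq_zero.mp h3 with h4 | h4
      · have : u = u' := Units.ext (sub_eq_zero.mp h4)
        rw [this]
      · exact absurd h4 (s D).2
    · intro x
      set y := s (ψ x) with hy
      have hxy : ψ y = ψ x := hs _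
      have hx0 : (x.1 : K) ≠ 0 := fun h => x.2 (Subtype.ext h)
      have hy0 : (y.1 : K) ≠ 0 := fun h => y.2 (Subtype.ext h)
      have h1 : FunFld.div k (y.1 : K) = FunFld.div k (x.1 : K) := by
        have : C + FunFld.div k (y.1 : K) = C + FunFld.div k (x.1 : K) := congrArg Subtype.val hxy
        exact add_left_cancel this
      have h2 : FunFld.div k ((x.1 : K) * (y.1 : K)⁻¹) = 0 := by
        rw [div_mul hK hx0 (inv_ne_zero hy0), div_inv hK, h1, add_neg_cancel]
      obtain ⟨c, hc0, hc⟩ := mem_range_of_div_eq_zero hK (mul_ne_zero hx0 (inv_ne_zero hy0)) h2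
      refine ⟨(ψ x, Units.mk0 c hc0), ?_⟩
      apply Subtype.ext
      apply Subtype.ext
      show ((c • (s (ψ x)).1 : L C) : K) = x.1
      rw [Submodule.coe_smul, Algebra.smul_def, ← hc, ← hy, mul_assoc, inv_mul_cancel₀ hy0, mul_one]
  have h1 := Nat.card_eq_of_bijective Φ hΦ
  rw [Nat.card_prod, Nat.card_units, card_nonzero,
    Module.natCard_eq_pow_finrank (K := k) (V := L C)] at h1
  have hq : 1 ≤ Nat.card k := Nat.card_pos
  have hq' : 1 ≤ Nat.card k ^ Module.finrank k (L C) := Nat.one_le_pow _ _ hq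
  have h2 : ((Nat.card (EffIn C) * (Nat.card k - 1) : ℕ) : ℤ) =
      ((Nat.card k ^ Module.finrank k (L C) - 1 : ℕ) : ℤ) := by rw [h1]
  rw [Nat.cast_mul, Nat.cast_sub hq, Nat.cast_sub hq'] at h2
  push_cast at h2
  unfold ell
  linarith

end Groth.Agent.Lib.Helper18.Zeta
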