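import Groth.Agent.Lib.Helper18.Zeta.Galois
import Groth.Agent.Lib.Helper24.FFExt.SepConst
import Mathlib.FieldTheory.Galois.Basic
import Mathlib.FieldTheory.PrimitiveElement

/-! # Places of degree dividing `[k' : k]` in a constant field extension over a finite field -/

set_option autoImplicit false
set_option linter.style.haveILetI false

namespace Groth.Agent.Lib.Helper18.Zeta

open FunFld WithZero Groth.Agent.Lib.Helper18.FF Groth.Agent.Lib.Helper24.FFExt

open scoped TensorProduct Pointwise

universe u u' v v'

section
open Polynomial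

/-- An element `y` with `y ^ #F = y` of a field receiving the finite field `F` lies in the image
of `F`. -/
theorem exists_eq_of_pow_card {F Ω : Type*} [Field F] [Finite F] [Field Ω] (φ : F →+* Ω)
    (y : Ω) (hy : y ^ Nat.card F = y) : ∃ c : F, φ c = y := by
  have := Fintype.ofFinite F
  rw [Nat.card_eq_fintype_card] at hy
  have hs : (X ^ Fintype.card F - X : Polynomial F).Splits := by
    have := Polynomial.splits_X_pow_nat_card_sub_X (K := F)
    rwa [Nat.card_eq_fintype_card] at this
  have h1 := hs.roots_map φ
  rw [FiniteField.roots_X_pow_card_sub_X] at h1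
  have h0 : (X ^ Fintype.card F - X : Polynomial Ω) ≠ 0 :=
    FiniteField.X_pow_card_sub_X_ne_zero Ω Fintype.one_lt_card
  have h2 : y ∈ ((X ^ Fintype.card F - X : Polynomial F).map φ).roots := by
    rw [mem_roots (by simpa using h0)]
    simp [hy]
  rw [h1] at h2
  simpa using h2

end

variable {k : Type u} {k' : Type u'} {K : Type v} {K' : Type v'} [Field k] [Field k'] [Field K]
  [Field K'] [Algebra k k'] [Algebra k K] [Algebra K K'] [Algebra k' K'] [Algebra k K']
  [IsScalarTower k k' K'] [IsScalarTower k K K']

theorem finiteDimensional_of_tensor' [FiniteDimensional k k']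
    (h : Function.Bijective (Algebra.TensorProduct.productMap
      (IsScalarTower.toAlgHom k k' K') (IsScalarTower.toAlgHom k K K'))) :
    FiniteDimensional K K' := by
  let μ : K ⊗[k] k' →ₐ[K] K' :=
    Algebra.TensorProduct.productLeftAlgHom (Algebra.ofId K K') (IsScalarTower.toAlgHom k k' K')
  refine Module.Finite.of_surjective μ.toLinearMap ?_
  intro z
  obtain ⟨w, rfl⟩ := h.2 z
  refine ⟨Algebra.TensorProduct.comm k k' K w, ?_⟩
  induction w using TensorProduct.induction_on with
  | zero => simp
  | tmul a b => simp [μ, mul_comm]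
  | add x y hx hy => rw [map_add, map_add, hx, hy, map_add]

section main

variable [Finite k] [Finite k'] [FiniteDimensional k k'] [FiniteDimensional K K'] [IsGalois K K']

/-- If `deg P` divides `[k' : k]`, the decomposition group of a place `Q` above `P` has order at
most `[k' : k] / deg P`. -/
theorem card_decomposition_mul_deg_le (hK : IsFunctionField k K) {P : Place k K}
    {Q : Place k K'} (hQP : IsOver Q P) (hdvd : P.deg ∣ Module.finrank k k') :
    Nat.card ((Q.O).decompositionSubgroup K) * P.deg ≤ Module.finrank K K' := by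
  classical
  haveI := finite_residueField hK P
  haveI := finiteDimensional_residueField hK P
  letI := Place.algRes P
  obtain ⟨ι⟩ := @FiniteField.nonempty_algHom_of_finrank_dvd k (IsLocalRing.ResidueField P.O) k'
    _ _ (Place.algRes P) _ _ _ hdvd
  haveI : Algebra.IsSeparable k (IsLocalRing.ResidueField P.O) := inferInstance
  obtain ⟨β, hβ⟩ := Field.exists_primitive_element k (IsLocalRing.ResidueField P.O)
  have hβint : IsIntegral k β := Algebra.IsIntegral.isIntegral β
  set g := minpoly k β with hg
  have hgdeg : g.natDegree = P.deg := by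
    rw [hg, ← IntermediateField.adjoin.finrank hβint, hβ, IntermediateField.finrank_top']
    rfl
  set θ : k' := ι β with hθ
  set θ' : K' := algebraMap k' K' θ with hθ'
  -- `θ' ` is congruent mod `Q` to a function of `K`
  have hk' : ∀ c : k', Q.1 (algebraMap k' K' c) ≤ 1 := val_const_le_one Q
  have happrox : ∃ a : K, P.1 a ≤ 1 ∧ Q.1 (θ' - algebraMap K K' a) < 1 := by
    let φ₁ : k' →+* IsLocalRing.ResidueField Q.O :=
      (IsLocalRing.residue Q.O).comp ((algebraMap k' K').codRestrict Q.O.toSubring hk')
    have hpow : (φ₁ θ) ^ Nat.card (IsLocalRing.ResidueField P.O) = φ₁ θ := by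
      rw [← map_pow, hθ, ← map_pow]
      haveI := Fintype.ofFinite (IsLocalRing.ResidueField P.O)
      rw [Nat.card_eq_fintype_card, FiniteField.pow_card]
    obtain ⟨y, hy⟩ := exists_eq_of_pow_card (IsLocalRing.ResidueField.map (overRingHom hQP))
      (φ₁ θ) hpow
    obtain ⟨a, ha⟩ := IsLocalRing.residue_surjective y
    refine ⟨a.1, a.2, ?_⟩
    have h1 : IsLocalRing.residue Q.O
        ((algebraMap k' K').codRestrict Q.O.toSubring hk' θ - overRingHom hQP a) = 0 := by
      rw [map_sub, sub_eq_zero]
      have h2 : IsLocalRing.residue Q.O (overRingHom hQP a) =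
          IsLocalRing.ResidueField.map (overRingHom hQP) (IsLocalRing.residue P.O a) :=
        (IsLocalRing.ResidueField.map_residue _ _).symm
      rw [h2, ha, hy]
      rfl
    rw [IsLocalRing.residue_eq_zero_iff] at h1
    exact (Valuation.mem_maximalIdeal_iff (v := Q.1)).mp h1
  -- the decomposition group fixes `θ'`
  have hfix : ∀ σ ∈ (Q.O).decompositionSubgroup K, σ θ' = θ' := by
    intro σ hσ
    have hσ' := (mem_decomposition_iff Q σ).mp hσ
    have hval : ∀ x : K', Q.1 (σ x) = Q.1 x := fun x => by rw [← placeComap_val, hσ']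
    obtain ⟨a, -, hca⟩ := happrox
    have h1 : Q.1 (σ θ' - algebraMap K K' a) < 1 := by
      rw [← σ.commutes a, ← map_sub, hval]; exact hca
    have h2 : Q.1 (σ θ' - θ') < 1 := by
      have : σ θ' - θ' = (σ θ' - algebraMap K K' a) - (θ' - algebraMap K K' a) := by ring
      rw [this]
      exact lt_of_le_of_lt (Valuation.map_sub _ _ _) (max_lt h1 hca)
    by_contra hne
    have h0 : σ θ' - θ' ≠ 0 := sub_ne_zero.mpr hne
    have hc_int : IsIntegral k θ' := (Algebra.IsIntegral.isIntegral (R := k) θ).algebraMap
    have hσc_int : IsIntegral k (σ θ') := hc_int.map σ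
    have := val_eq_one_of_isIntegral Q (hσc_int.sub hc_int) h0
    rw [this] at h2
    exact lt_irrefl _ h2
  -- `[K(θ') : K] = deg P`
  have hgθ : Polynomial.aeval θ' (g.map (algebraMap k K)) = 0 := by
    rw [Polynomial.aeval_map_algebraMap, hθ', Polynomial.aeval_algebraMap_apply, hθ,
      Polynomial.aeval_algHom_apply, hg, minpoly.aeval, map_zero, map_zero]
  have hirr := irreducible_map_of_algClosedIn hK.2 (minpoly.monic hβint)
    (minpoly.irreducible hβint)
  have hmin : minpoly K θ' = g.map (algebraMap k K) :=
    (minpoly.eq_of_irreducible_of_monic hirr hgθ ((minpoly.monic hβint).map _)).symm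
  have hθ'int : IsIntegral K θ' := Algebra.IsIntegral.isIntegral θ'
  have hfr : Module.finrank K (IntermediateField.adjoin K ({θ'} : Set K')) = P.deg := by
    rw [IntermediateField.adjoin.finrank hθ'int, hmin, Polynomial.natDegree_map, hgdeg]
  -- the decomposition group lies in the fixing subgroup of `K(θ')`
  have hle : (Q.O).decompositionSubgroup K ≤
      (IntermediateField.adjoin K ({θ'} : Set K')).fixingSubgroup := by
    intro σ hσ
    rw [IntermediateField.mem_fixingSubgroup_iff]
    intro x hx
    have h1 : IntermediateField.adjoin K ({θ'} : Set K') ≤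
        IntermediateField.fixedField (Subgroup.zpowers σ) := by
      rw [IntermediateField.adjoin_le_iff]
      rintro w rfl
      rw [SetLike.mem_coe, IntermediateField.mem_fixedField_iff]
      intro τ hτ
      obtain ⟨i, rfl⟩ := Subgroup.mem_zpowers_iff.mp hτ
      have : ∀ j : ℕ, (σ ^ j) θ' = θ' := by
        intro j
        induction j with
        | zero => rfl
        | succ j ih => rw [pow_succ, AlgEquiv.mul_apply, hfix σ hσ, ih]
      rcases Int.eq_nat_or_neg i with ⟨j, rfl | rfl⟩
      · rw [zpow_natCast]; exact this j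
      · rw [zpow_neg, zpow_natCast]
        have hj := this j
        calc (σ ^ j)⁻¹ θ' = (σ ^ j)⁻¹ ((σ ^ j) θ') := by rw [hj]
          _ = θ' := by rw [← AlgEquiv.mul_apply, inv_mul_cancel, AlgEquiv.one_apply]
    exact (IntermediateField.mem_fixedField_iff _ _).mp (h1 hx) σ (Subgroup.mem_zpowers σ)
  have hcard := IsGalois.card_fixingSubgroup_eq_finrank
    (IntermediateField.adjoin K ({θ'} : Set K'))
  have hmul := Module.finrank_mul_finrank K (IntermediateField.adjoin K ({θ'} : Set K')) K'
  have hle' : Nat.card ((Q.O).decompositionSubgroup K) ≤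
      Nat.card (IntermediateField.adjoin K ({θ'} : Set K')).fixingSubgroup :=
    Subgroup.card_le_of_le hle
  rw [hcard] at hle'
  rw [← hmul, hfr, mul_comm]
  exact Nat.mul_le_mul_left _ hle'

end main

end Groth.Agent.Lib.Helper18.Zeta
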