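import Groth.Agent.Lib.Helper18.Zeta.ConstExt1

/-! # The number of places of degree one of a constant field extension over a finite field -/

set_option autoImplicit false
set_option linter.style.haveILetI false

namespace Groth.Agent.Lib.Helper18.Zeta

open FunFld WithZero Groth.Agent.Lib.Helper18.FF Groth.Agent.Lib.Helper24.FFExt

open scoped TensorProduct Pointwise

universe u u' v v'

/-- `N_j = ∑_{deg P ∣ j} deg P`. -/
noncomputable def NN {k : Type u} {K : Type v} [Field k] [Field K] [Algebra k K] [Finite k]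
    (hK : IsFunctionField k K) (j : ℕ) : ℕ := by
  classical
  exact ∑ P ∈ (finite_places_deg_le hK j).toFinset.filter (fun P => P.deg ∣ j), P.deg

variable {k : Type u} {k' : Type u'} {K : Type v} {K' : Type v'} [Field k] [Field k'] [Field K]
  [Field K'] [Algebra k k'] [Algebra k K] [Algebra K K'] [Algebra k' K'] [Algebra k K']
  [IsScalarTower k k' K'] [IsScalarTower k K K']

section main

variable [Finite k] [Finite k'] [FiniteDimensional k k'] [FiniteDimensional K K'] [IsGalois K K']

/-- If `deg P` divides `n = [k' : k]` there are exactly `deg P` places above `P`, all of degree `n`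
over `k`. -/
theorem card_isOver_of_deg_dvd
    (h : Function.Bijective (Algebra.TensorProduct.productMap
      (IsScalarTower.toAlgHom k k' K') (IsScalarTower.toAlgHom k K K')))
    (hK : IsFunctionField k K) (hK' : IsFunctionField k' K') (P : Place k K)
    (hdvd : P.deg ∣ Module.finrank k k') :
    Nat.card {Q : Place k K' // IsOver Q P} = P.deg ∧
      ∀ Q : Place k K', IsOver Q P → Q.deg = Module.finrank k k' := by
  haveI : Algebra.IsAlgebraic k k' := Algebra.IsAlgebraic.of_finite k k'
  set n := Module.finrank k k' with hn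
  have hfr : Module.finrank K K' = n := finrank_of_tensor h
  have hnpos : 0 < n := Module.finrank_pos
  have key : ∀ Q : Place k K', IsOver Q P →
      Q.deg = n ∧ Nat.card ((Q.O).decompositionSubgroup K) * P.deg = n := by
    intro Q hQP
    obtain ⟨e, he⟩ := id hQP
    have h1 := WeakFF.card_decomposition_mul_deg (IsFunctionField.weakFF hK) he
    have h2 := card_decomposition_mul_deg_le hK hQP hdvd
    rw [hfr] at h2
    have h3 := deg_eq_mul_deg_toAlg k' Q
    rw [← hn] at h3
    have h4 : 0 < (toAlg k' Q).deg := deg_pos hK' _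
    have h5 : 0 < e := isOverWith_pos he
    have h6 : n ≤ Q.deg := by rw [h3]; exact Nat.le_mul_of_pos_right _ h4
    have h7 : Q.deg ≤ e * Q.deg := Nat.le_mul_of_pos_left _ h5
    have h8 : Q.deg = n := by omega
    refine ⟨h8, ?_⟩
    rw [h1]
    have : e * Q.deg ≤ n := by rw [← h1]; exact h2
    omega
  refine ⟨?_, fun Q hQ => (key Q hQ).1⟩
  obtain ⟨Q₀, hQ₀⟩ := exists_place_over (K' := K') hK P
  have h1 := card_isOver_mul_card_decomposition hQ₀
  rw [hfr] at h1
  have h2 := (key Q₀ hQ₀).2
  have hD : 0 < Nat.card ((Q₀.O).decompositionSubgroup K) := Nat.card_pos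
  have h3 : Nat.card ((Q₀.O).decompositionSubgroup K) *
      Nat.card {Q' : Place k K' // IsOver Q' P} =
      Nat.card ((Q₀.O).decompositionSubgroup K) * P.deg := by
    rw [h2, mul_comm]; exact h1
  exact Nat.eq_of_mul_eq_mul_left hD h3

/-- The number of places of degree one of the constant field extension of degree `n` is
`N_n = ∑_{deg P ∣ n} deg P`. -/
theorem card_deg_one_places
    (h : Function.Bijective (Algebra.TensorProduct.productMap
      (IsScalarTower.toAlgHom k k' K') (IsScalarTower.toAlgHom k K K')))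
    (hK : IsFunctionField k K) (hK' : IsFunctionField k' K') :
    Nat.card {P' : Place k' K' // P'.deg = 1} = NN hK (Module.finrank k k') := by
  classical
  haveI : Algebra.IsAlgebraic k k' := Algebra.IsAlgebraic.of_finite k k'
  haveI : Algebra.IsAlgebraic K K' := Algebra.IsAlgebraic.of_finite K K'
  set n := Module.finrank k k' with hn
  have hnpos : 0 < n := Module.finrank_pos
  -- the places of degree `n` over `k`
  have hXfin : {Q : Place k K' | Q.deg = n}.Finite := by
    refine ((finite_places_deg hK' 1).image (ofAlg k')).subset ?_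
    intro Q hQ
    refine ⟨toAlg k' Q, ?_, ofAlg_toAlg k' Q⟩
    have h3 := deg_eq_mul_deg_toAlg k' Q
    rw [← hn, (hQ : Q.deg = n)] at h3
    show (toAlg k' Q).deg = 1
    exact (Nat.eq_of_mul_eq_mul_left hnpos (by rw [mul_one]; exact h3.symm))
  set X := hXfin.toFinset with hX
  have hXmem : ∀ Q, Q ∈ X ↔ Q.deg = n := fun Q => by rw [hX, Set.Finite.mem_toFinset]; rfl
  -- left side
  have hleft : Nat.card {P' : Place k' K' // P'.deg = 1} = X.card := by
    rw [← Fintype.card_coe X, ← Nat.card_eq_fintype_card]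
    refine Nat.card_eq_of_bijective (fun P' => ⟨(ofAlg k' P'.1 : Place k K'), ?_⟩) ⟨?_, ?_⟩
    · rw [hXmem]
      have h3 := deg_eq_mul_deg_toAlg k' (ofAlg k' P'.1 : Place k K')
      rw [toAlg_ofAlg, P'.2, mul_one] at h3
      exact h3
    · intro P₁ P₂ h12
      apply Subtype.ext
      have : (ofAlg k' P₁.1 : Place k K') = (ofAlg k' P₂.1 : Place k K') :=
        congrArg Subtype.val h12
      have := congrArg (toAlg k') this
      rwa [toAlg_ofAlg, toAlg_ofAlg] at this
    · rintro ⟨Q, hQ⟩
      have hQn := (hXmem Q).mp hQ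
      have h3 := deg_eq_mul_deg_toAlg k' Q
      rw [← hn, hQn] at h3
      refine ⟨⟨toAlg k' Q, Nat.eq_of_mul_eq_mul_left hnpos (by rw [mul_one]; exact h3.symm)⟩, ?_⟩
      apply Subtype.ext
      exact ofAlg_toAlg k' Q
  -- right side
  set F := (finite_places_deg_le hK n).toFinset.filter (fun P => P.deg ∣ n) with hF
  have hFmem : ∀ P, P ∈ F ↔ P.deg ∣ n := by
    intro P
    rw [hF, Finset.mem_filter, Set.Finite.mem_toFinset]
    exact ⟨fun h => h.2, fun h => ⟨Nat.le_of_dvd hnpos h, h⟩⟩
  set XP : Place k K → Finset (Place k K') := fun P => (finite_isOver (K' := K') hK P).toFinset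
    with hXP
  have hXPmem : ∀ P Q, Q ∈ XP P ↔ IsOver Q P := fun P Q => by
    rw [hXP, Set.Finite.mem_toFinset]; rfl
  have hXPcard : ∀ P ∈ F, (XP P).card = P.deg := by
    intro P hP
    rw [← (card_isOver_of_deg_dvd h hK hK' P ((hFmem P).mp hP)).1,
      ← Set.ncard_eq_toFinset_card _ (finite_isOver (K' := K') hK P), ← Nat.card_coe_set_eq]
    rfl
  have hunion : X = F.biUnion XP := by
    ext Q
    rw [hXmem, Finset.mem_biUnion]
    constructor
    · intro hQ
      obtain ⟨P, hP⟩ := exists_isOver hK Q
      refine ⟨P, (hFmem P).mpr ?_, (hXPmem P Q).mpr hP⟩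
      rw [← hQ]; exact deg_dvd_deg hP
    · rintro ⟨P, hP, hQ⟩
      exact (card_isOver_of_deg_dvd h hK hK' P ((hFmem P).mp hP)).2 Q ((hXPmem P Q).mp hQ)
  have hdisj : ∀ P ∈ F, ∀ P' ∈ F, P ≠ P' → Disjoint (XP P) (XP P') := by
    intro P _ P' _ hne
    rw [Finset.disjoint_left]
    intro Q hQ hQ'
    exact hne (isOver_unique ((hXPmem P Q).mp hQ) ((hXPmem P' Q).mp hQ'))
  rw [hleft, hunion, Finset.card_biUnion hdisj, Finset.sum_congr rfl hXPcard]
  unfold NN
  rfl

end main

end Groth.Agent.Lib.Helper18.Zeta
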