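import Mathlib.RingTheory.PowerSeries.Derivative
import Mathlib.RingTheory.PowerSeries.Basic
import Mathlib.Analysis.Complex.Basic

/-! # Logarithmic derivatives of products `∏ (1 - c X)` of power series -/

set_option autoImplicit false

namespace Groth.Agent.Lib.Helper18.Zeta

open PowerSeries

/-- The Euler operator `X d/dX`. -/
noncomputable def theta (f : ℂ⟦X⟧) : ℂ⟦X⟧ := X * derivative ℂ f

theorem theta_mul (f g : ℂ⟦X⟧) : theta (f * g) = theta f * g + f * theta g := by
  unfold theta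
  rw [Derivation.leibniz, smul_eq_mul, smul_eq_mul]
  ring

theorem coeff_theta (f : ℂ⟦X⟧) (n : ℕ) : coeff n (theta f) = n * coeff n f := by
  unfold theta
  rcases n with _ | n
  · simp
  · rw [coeff_succ_X_mul, coeff_derivative]
    push_cast
    ring

/-- The series `∑_{n ≥ 1} cⁿ Xⁿ`. -/
noncomputable def geo (c : ℂ) : ℂ⟦X⟧ := mk fun n => if n = 0 then 0 else c ^ n

theorem coeff_geo (c : ℂ) (n : ℕ) : coeff n (geo c) = if n = 0 then 0 else c ^ n := by
  unfold geo
  rw [coeff_mk]

theorem one_sub_mul_geo (c : ℂ) : (1 - C c * X) * geo c = C c * X := by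
  ext n
  rw [sub_mul, one_mul, map_sub, mul_assoc, coeff_C_mul, coeff_C_mul]
  rcases n with _ | n
  · simp [coeff_geo]
  · rw [coeff_succ_X_mul, coeff_X, coeff_geo, coeff_geo, if_neg (Nat.succ_ne_zero n)]
    rcases n with _ | n
    · simp
    · rw [if_neg (Nat.succ_ne_zero n), if_neg (by omega : ¬ (n + 1 + 1 = 1))]
      ring

theorem theta_one_sub (c : ℂ) : theta (1 - C c * X) = -((1 - C c * X) * geo c) := by
  rw [one_sub_mul_geo]
  unfold theta
  rw [map_sub, Derivation.leibniz, derivative_C, derivative_X, derivative_one]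
  simp [mul_comm]

theorem theta_prod {ι : Type*} (s : Finset ι) (c : ι → ℂ) :
    theta (∏ i ∈ s, (1 - C (c i) * X)) =
      -((∏ i ∈ s, (1 - C (c i) * X)) * ∑ i ∈ s, geo (c i)) := by
  classical
  induction s using Finset.induction_on with
  | empty =>
    simp only [Finset.prod_empty, Finset.sum_empty, mul_zero, neg_zero]
    unfold theta
    rw [derivative_one, mul_zero]
  | insert a s ha ih =>
    rw [Finset.prod_insert ha, Finset.sum_insert ha, theta_mul, ih, theta_one_sub]
    ring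

/-- If `A Z = B` with `A = (1 - X)(1 - q X)`, `B = ∏ (1 - αᵢ X)` and `X Z' = N Z`, then
`N = ∑_{n ≥ 1} (1 + qⁿ - ∑ αᵢⁿ) Xⁿ`. -/
theorem logDeriv_eq {ι : Type*} [Fintype ι] (q : ℂ) (α : ι → ℂ) (Z N : ℂ⟦X⟧)
    (hAZ : (1 - C 1 * X) * (1 - C q * X) * Z = ∏ i, (1 - C (α i) * X))
    (hN : theta Z = N * Z) :
    N = geo 1 + geo q - ∑ i, geo (α i) := by
  have hB := theta_prod Finset.univ α
  have hA : theta ((1 - C 1 * X) * (1 - C q * X)) =
      -((1 - C 1 * X) * (1 - C q * X) * (geo 1 + geo q)) := by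
    rw [theta_mul, theta_one_sub, theta_one_sub]
    ring
  have h1 : theta ((1 - C 1 * X) * (1 - C q * X) * Z) =
      (1 - C 1 * X) * (1 - C q * X) * Z * (N - (geo 1 + geo q)) := by
    rw [theta_mul, hA, hN]
    ring
  rw [hAZ, hB] at h1
  have h2 : (∏ i, (1 - C (α i) * X)) * (N - (geo 1 + geo q) + ∑ i, geo (α i)) = 0 := by
    rw [mul_add, ← h1]
    ring
  have h3 : (∏ i, (1 - C (α i) * X) : ℂ⟦X⟧) ≠ 0 := by
    intro h
    have := congrArg (constantCoeff (R := ℂ)) h
    simp at this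
  have h4 := (mul_eq_zero.mp h2).resolve_left h3
  linear_combination h4

end Groth.Agent.Lib.Helper18.Zeta
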