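import Groth.Agent.Lib.Helper18.Zeta.FunEq
import Mathlib.RingTheory.PowerSeries.Trunc

/-! # The numerator of the zeta function: polynomiality, degree, functional equation, value at 1 -/

set_option autoImplicit false

namespace Groth.Agent.Lib.Helper18.Zeta

open FunFld PowerSeries Groth.Agent.Lib.Helper18.FF

universe u v

variable {k : Type u} {K : Type v} [Field k] [Field K] [Algebra k K]

theorem numerZ_eq : numerZ k K = zetaZ k K - C ((Nat.card k : ℤ) + 1) * (X * zetaZ k K) +
    C (Nat.card k : ℤ) * (X * (X * zetaZ k K)) := by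
  unfold numerZ
  rw [map_add, map_one]
  ring

theorem coeff_zetaZ (n : ℕ) : coeff n (zetaZ k K) = (effDivCount k K n : ℤ) := by
  unfold zetaZ
  rw [coeff_mk]

theorem coeff_numerZ_zero : coeff 0 (numerZ k K) = (effDivCount k K 0 : ℤ) := by
  rw [numerZ_eq, map_add, map_sub, coeff_C_mul, coeff_C_mul, coeff_zero_X_mul, coeff_zero_X_mul,
    coeff_zetaZ]
  ring

theorem coeff_numerZ_one : coeff 1 (numerZ k K) =
    (effDivCount k K 1 : ℤ) - ((Nat.card k : ℤ) + 1) * (effDivCount k K 0 : ℤ) := by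
  rw [numerZ_eq, map_add, map_sub, coeff_C_mul, coeff_C_mul, ← zero_add 1, coeff_succ_X_mul,
    coeff_succ_X_mul, coeff_zero_X_mul, coeff_zetaZ, coeff_zetaZ]
  ring

theorem coeff_numerZ_add_two (n : ℕ) : coeff (n + 2) (numerZ k K) =
    (effDivCount k K (n + 2) : ℤ) - ((Nat.card k : ℤ) + 1) * (effDivCount k K (n + 1) : ℤ) +
      (Nat.card k : ℤ) * (effDivCount k K n : ℤ) := by
  rw [numerZ_eq, map_add, map_sub, coeff_C_mul, coeff_C_mul, coeff_succ_X_mul,
    coeff_succ_X_mul, coeff_succ_X_mul, coeff_zetaZ, coeff_zetaZ, coeff_zetaZ]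

theorem coeff_numerZ (n : ℕ) : ((coeff n (numerZ k K) : ℤ) : ℚ) = cZ k K n := by
  unfold cZ
  rcases n with _ | _ | n
  · rw [coeff_numerZ_zero, aZ_of_neg (by norm_num : ((0 : ℕ) : ℤ) - 1 < 0),
      aZ_of_neg (by norm_num : ((0 : ℕ) : ℤ) - 2 < 0), aZ_natCast]
    push_cast; ring
  · rw [coeff_numerZ_one, aZ_of_neg (by norm_num : ((0 + 1 : ℕ) : ℤ) - 2 < 0), aZ_natCast]
    have : ((0 + 1 : ℕ) : ℤ) - 1 = ((0 : ℕ) : ℤ) := by norm_num
    rw [this, aZ_natCast]
    push_cast; ring
  · rw [coeff_numerZ_add_two, aZ_natCast]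
    have h1 : ((n + 1 + 1 : ℕ) : ℤ) - 1 = ((n + 1 : ℕ) : ℤ) := by push_cast; ring
    have h2 : ((n + 1 + 1 : ℕ) : ℤ) - 2 = ((n : ℕ) : ℤ) := by push_cast; ring
    rw [h1, h2, aZ_natCast, aZ_natCast]
    push_cast; ring

theorem effDivCount_zero (hK : IsFunctionField k K) : effDivCount k K 0 = 1 := by
  rw [effDivCount_eq]
  haveI : Unique (EffDeg k K 0) :=
    { default := ⟨0, le_refl _, by rw [deg_zero]; rfl⟩
      uniq := fun D => Subtype.ext (eq_zero_of_nonneg_of_deg_le hK D.2.1 (by rw [D.2.2]; rfl)) }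
  exact Nat.card_unique

theorem cZ_zero (hK : IsFunctionField k K) : cZ k K 0 = 1 := by
  have := coeff_numerZ (k := k) (K := K) 0
  rw [coeff_numerZ_zero, effDivCount_zero hK] at this
  rw [← Nat.cast_zero (R := ℤ), ← this]
  norm_num

/-- The functional equation `c(2g - i) = q^(g - i) c(i)` of the coefficients of the numerator. -/
theorem cZ_symm' [Finite k] (hK : IsFunctionField k K) (i : ℤ) :
    cZ k K (2 * (genus k K : ℤ) - i) = (Nat.card k : ℚ) ^ ((genus k K : ℤ) - i) * cZ k K i := by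
  haveI := finite_Cl0 hK
  haveI := Fintype.ofFinite (Cl0 k K)
  obtain ⟨D₁, hD₁⟩ := exists_deg_one hK
  exact cZ_symm hK hD₁ i

theorem coeff_numerZ_eq_zero [Finite k] (hK : IsFunctionField k K) (n : ℕ)
    (hn : 2 * genus k K < n) : coeff n (numerZ k K) = 0 := by
  have h1 := cZ_symm' hK (2 * (genus k K : ℤ) - n)
  rw [sub_sub_cancel, cZ_of_neg (n := 2 * (genus k K : ℤ) - n) (by omega), mul_zero,
    ← coeff_numerZ] at h1
  exact_mod_cast h1

theorem coeff_numerZ_two_genus [Finite k] (hK : IsFunctionField k K) :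
    coeff (2 * genus k K) (numerZ k K) = (Nat.card k : ℤ) ^ genus k K := by
  have h1 := cZ_symm' hK 0
  rw [sub_zero, cZ_zero hK, mul_one, sub_zero, zpow_natCast] at h1
  have h2 := coeff_numerZ (k := k) (K := K) (2 * genus k K)
  push_cast at h2
  rw [h1] at h2
  exact_mod_cast h2

theorem coeff_numerZ_symm [Finite k] (hK : IsFunctionField k K) (i : ℕ)
    (hi : i ≤ 2 * genus k K) :
    (((coeff (2 * genus k K - i) (numerZ k K) : ℤ)) : ℚ) =
      (Nat.card k : ℚ) ^ ((genus k K : ℤ) - i) * (((coeff i (numerZ k K) : ℤ)) : ℚ) := by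
  rw [coeff_numerZ, coeff_numerZ, ← cZ_symm' hK]
  congr 1
  push_cast [Nat.cast_sub hi]
  ring

/-- The numerator of the zeta function, as a polynomial. -/
noncomputable def numerPoly (k : Type u) (K : Type v) [Field k] [Field K] [Algebra k K] :
    Polynomial ℤ := (numerZ k K).trunc (2 * genus k K + 1)

theorem coe_numerPoly [Finite k] (hK : IsFunctionField k K) :
    (numerPoly k K : PowerSeries ℤ) = numerZ k K := by
  ext n
  rw [Polynomial.coeff_coe, numerPoly, coeff_trunc]
  split_ifs with h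
  · rfl
  · exact (coeff_numerZ_eq_zero hK n (by omega)).symm

end Groth.Agent.Lib.Helper18.Zeta

namespace Groth.Agent.Lib.Helper18.Zeta

open FunFld PowerSeries Groth.Agent.Lib.Helper18.FF

universe u v

variable {k : Type u} {K : Type v} [Field k] [Field K] [Algebra k K]

theorem sum_coeff_numerZ (N : ℕ) :
    ∑ i ∈ Finset.range (N + 2), coeff i (numerZ k K) =
      (effDivCount k K (N + 1) : ℤ) - (Nat.card k : ℤ) * (effDivCount k K N : ℤ) := by
  induction N with
  | zero =>
    rw [Finset.sum_range_succ, Finset.sum_range_one, coeff_numerZ_zero, coeff_numerZ_one]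
    ring
  | succ N ih =>
    rw [Finset.sum_range_succ, ih, coeff_numerZ_add_two]
    ring

/-- `L(1) = h`. -/
theorem eval_one_eq_classNum [Finite k] (hK : IsFunctionField k K) (p : Polynomial ℤ)
    (hp : (p : PowerSeries ℤ) = numerZ k K) : p.eval 1 = (classNum k K : ℤ) := by
  have hcoeff : ∀ i, p.coeff i = coeff i (numerZ k K) := fun i => by
    rw [← hp, Polynomial.coeff_coe]
  set g := genus k K with hg
  have hdeg : p.natDegree < 2 * g + 2 := by
    have : p.natDegree ≤ 2 * g := by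
      rw [Polynomial.natDegree_le_iff_coeff_eq_zero]
      intro i hi
      rw [hcoeff]
      exact coeff_numerZ_eq_zero hK i hi
    omega
  rw [Polynomial.eval_eq_sum_range' hdeg]
  simp only [one_pow, mul_one]
  rw [Finset.sum_congr rfl fun i _ => hcoeff i, sum_coeff_numerZ]
  obtain ⟨B₁, hB₁⟩ := deg_surjective hK ((2 * g + 1 : ℕ) : ℤ)
  obtain ⟨B₀, hB₀⟩ := deg_surjective hK ((2 * g : ℕ) : ℤ)
  have h1 := effDivCount_of_large hK (2 * g + 1) (by omega) B₁ hB₁
  have h0 := effDivCount_of_large hK (2 * g) (by omega) B₀ hB₀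
  have e1 : 2 * g + 1 + 1 - genus k K = g + 2 := by omega
  have e0 : 2 * g + 1 - genus k K = g + 1 := by omega
  rw [e1] at h1
  rw [e0] at h0
  have hq : ((Nat.card k : ℤ) - 1) ≠ 0 := by
    have : (1 : ℤ) < (Nat.card k : ℤ) := by exact_mod_cast (one_lt_natCard (k := k))
    linarith
  apply mul_left_cancel₀ hq
  rw [mul_sub, h1, ← mul_assoc, mul_comm ((Nat.card k : ℤ) - 1) (Nat.card k : ℤ), mul_assoc, h0]
  ring

end Groth.Agent.Lib.Helper18.Zeta
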