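import Groth.Agent.Lib.Helper18.Zeta.Recursion
import Groth.Agent.Lib.Helper18.Zeta.LogDeriv
import Groth.Agent.Lib.Helper18.Zeta.Numer

/-! # `N_n = 1 + qⁿ - ∑ αᵢⁿ` -/

set_option autoImplicit false
set_option linter.style.haveILetI false

namespace Groth.Agent.Lib.Helper18.Zeta

open FunFld Groth.Agent.Lib.Helper18.FF

universe u v

variable {k : Type u} {K : Type v} [Field k] [Field K] [Algebra k K] [Finite k]

theorem sum_Icc_one_eq_sum_range {M : Type*} [AddCommMonoid M] (f : ℕ → M) (m : ℕ) :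
    ∑ j ∈ Finset.Icc 1 m, f j = ∑ i ∈ Finset.range m, f (i + 1) := by
  refine Finset.sum_nbij' (fun j => j - 1) (fun i => i + 1) ?_ ?_ ?_ ?_ ?_
  · intro j hj
    rw [Finset.mem_Icc] at hj
    rw [Finset.mem_range]; omega
  · intro i hi
    rw [Finset.mem_range] at hi
    rw [Finset.mem_Icc]; omega
  · intro j hj
    rw [Finset.mem_Icc] at hj
    show j - 1 + 1 = j
    omega
  · intro i _
    rfl
  · intro j hj
    rw [Finset.mem_Icc] at hj
    have : j - 1 + 1 = j := by omega
    rw [this]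

/-- The series `∑_{j ≥ 1} N_j X^j`. -/
noncomputable def NNser (hK : IsFunctionField k K) : PowerSeries ℂ :=
  PowerSeries.mk fun j => if j = 0 then 0 else (NN hK j : ℂ)

/-- The zeta series over `ℂ`. -/
noncomputable def zetaC (k : Type u) (K : Type v) [Field k] [Field K] [Algebra k K] :
    PowerSeries ℂ := PowerSeries.map (Int.castRingHom ℂ) (zetaZ k K)

theorem coeff_zetaC (n : ℕ) : PowerSeries.coeff n (zetaC k K) = (effDivCount k K n : ℂ) := by
  unfold zetaC
  rw [PowerSeries.coeff_map, coeff_zetaZ]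
  simp

theorem theta_zetaC (hK : IsFunctionField k K) : theta (zetaC k K) = NNser hK * zetaC k K := by
  ext m
  rw [coeff_theta, coeff_zetaC, PowerSeries.coeff_mul,
    Finset.Nat.sum_antidiagonal_eq_sum_range_succ
      (fun i j => PowerSeries.coeff i (NNser hK) * PowerSeries.coeff j (zetaC k K)),
    Finset.sum_range_succ']
  have h0 : PowerSeries.coeff 0 (NNser hK) = 0 := by
    unfold NNser; rw [PowerSeries.coeff_mk, if_pos rfl]
  rw [h0, zero_mul, add_zero]
  have hrec := recursion hK m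
  rw [sum_Icc_one_eq_sum_range] at hrec
  have : ((m * effDivCount k K m : ℕ) : ℂ) =
      ((∑ i ∈ Finset.range m, NN hK (i + 1) * effDivCount k K (m - (i + 1)) : ℕ) : ℂ) := by
    rw [hrec]
  push_cast at this
  rw [this]
  refine Finset.sum_congr rfl fun i _ => ?_
  unfold NNser
  rw [PowerSeries.coeff_mk, if_neg (Nat.succ_ne_zero i), coeff_zetaC]

theorem NN_eq_of_factorization (hK : IsFunctionField k K) {ι : Type*} [Fintype ι] (α : ι → ℂ)
    (hα : PowerSeries.map (Int.castRingHom ℂ) (numerZ k K) =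
      ((∏ i, (1 - Polynomial.C (α i) * Polynomial.X) : Polynomial ℂ) : PowerSeries ℂ))
    (n : ℕ) (hn : 0 < n) :
    (NN hK n : ℂ) = 1 + (Nat.card k : ℂ) ^ n - ∑ i, α i ^ n := by
  have hAZ : (1 - PowerSeries.C (1 : ℂ) * PowerSeries.X) *
      (1 - PowerSeries.C (Nat.card k : ℂ) * PowerSeries.X) * zetaC k K =
      ∏ i, (1 - PowerSeries.C (α i) * PowerSeries.X) := by
    have h1 : PowerSeries.map (Int.castRingHom ℂ) (numerZ k K) =
        (1 - PowerSeries.C (1 : ℂ) * PowerSeries.X) *
          (1 - PowerSeries.C (Nat.card k : ℂ) * PowerSeries.X) * zetaC k K := by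
      unfold numerZ zetaC
      simp
    rw [← h1, hα, ← Polynomial.coeToPowerSeries.ringHom_apply, map_prod]
    refine Finset.prod_congr rfl fun i _ => ?_
    rw [Polynomial.coeToPowerSeries.ringHom_apply, Polynomial.coe_sub, Polynomial.coe_one,
      Polynomial.coe_mul, Polynomial.coe_C, Polynomial.coe_X]
  have h := logDeriv_eq (Nat.card k : ℂ) α (zetaC k K) (NNser hK) hAZ (theta_zetaC hK)
  have h2 := congrArg (PowerSeries.coeff n) h
  unfold NNser at h2
  rw [PowerSeries.coeff_mk, if_neg hn.ne', map_sub, map_add, map_sum, coeff_geo, coeff_geo,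
    if_neg hn.ne', if_neg hn.ne', one_pow] at h2
  rw [h2]
  congr 1
  refine Finset.sum_congr rfl fun i _ => ?_
  rw [coeff_geo, if_neg hn.ne']

end Groth.Agent.Lib.Helper18.Zeta
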