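import Groth.Agent.Lib.Helper18.Zeta.ConstExt2
import Groth.Agent.Lib.Helper18.Zeta.Points

/-! # From the abstract `IsConstExt` to the tensor product description -/

set_option autoImplicit false
set_option linter.style.haveILetI false

namespace Groth.Agent.Lib.Helper18.Zeta

open FunFld Groth.Agent.Lib.Helper18.FF Groth.Agent.Lib.Helper24.FFExt

open scoped TensorProduct

universe u u' v v'

variable {k : Type u} {k' : Type u'} {K : Type v} {K' : Type v'} [Field k] [Field k'] [Field K]
  [Field K'] [Algebra k k'] [Algebra k K] [Algebra K K'] [Algebra k' K'] [Algebra k K']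
  [IsScalarTower k k' K'] [IsScalarTower k K K']

theorem bijective_of_adjoin [FiniteDimensional k k']
    (hadj : Algebra.adjoin K (Set.range (algebraMap k' K')) = ⊤)
    (hfr : Module.finrank K K' = Module.finrank k k') :
    Function.Bijective (Algebra.TensorProduct.productMap
      (IsScalarTower.toAlgHom k k' K') (IsScalarTower.toAlgHom k K K')) := by
  let μ : K ⊗[k] k' →ₐ[K] K' :=
    Algebra.TensorProduct.productLeftAlgHom (Algebra.ofId K K') (IsScalarTower.toAlgHom k k' K')
  have hμ : ∀ w : k' ⊗[k] K, μ (Algebra.TensorProduct.comm k k' K w) =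
      Algebra.TensorProduct.productMap (IsScalarTower.toAlgHom k k' K')
        (IsScalarTower.toAlgHom k K K') w := by
    intro w
    induction w using TensorProduct.induction_on with
    | zero => simp
    | tmul a b => simp [μ, mul_comm]
    | add x y hx hy => rw [map_add, map_add, hx, hy, map_add]
  -- `μ` is surjective
  have hsurj : Function.Surjective μ := by
    intro z
    have hz : z ∈ Algebra.adjoin K (Set.range (algebraMap k' K')) := by rw [hadj]; trivial
    induction hz using Algebra.adjoin_induction with
    | mem x hx =>
      obtain ⟨c, rfl⟩ := hx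
      exact ⟨1 ⊗ₜ c, by simp [μ]⟩
    | algebraMap r => exact ⟨r ⊗ₜ 1, by simp [μ, Algebra.ofId_apply]⟩
    | add x y _ _ hx hy =>
      obtain ⟨a, rfl⟩ := hx
      obtain ⟨b, rfl⟩ := hy
      exact ⟨a + b, map_add _ _ _⟩
    | mul x y _ _ hx hy =>
      obtain ⟨a, rfl⟩ := hx
      obtain ⟨b, rfl⟩ := hy
      exact ⟨a * b, map_mul _ _ _⟩
  have hfr' : Module.finrank K (K ⊗[k] k') = Module.finrank K K' := by
    rw [Module.finrank_baseChange, hfr]
  haveI : FiniteDimensional K K' := Module.Finite.of_surjective μ.toLinearMap hsurj
  have hinj : Function.Injective μ :=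
    (LinearMap.injective_iff_surjective_of_finrank_eq_finrank (f := μ.toLinearMap) hfr').mpr hsurj
  have : (Algebra.TensorProduct.productMap
        (IsScalarTower.toAlgHom k k' K') (IsScalarTower.toAlgHom k K K') : k' ⊗[k] K → K') =
      μ ∘ (Algebra.TensorProduct.comm k k' K) := by
    funext w
    rw [Function.comp_apply, hμ]
  rw [this]
  exact Function.Bijective.comp (⟨hinj, hsurj⟩ : Function.Bijective μ)
    (Algebra.TensorProduct.comm k k' K).bijective

end Groth.Agent.Lib.Helper18.Zeta

namespace Groth.Agent.Lib.Helper18.Zeta

open FunFld Groth.Agent.Lib.Helper18.FF Groth.Agent.Lib.Helper24.FFExt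

open scoped TensorProduct

universe u u' v v'

/-- The number of places of degree one of an (abstract) constant field extension. -/
theorem card_deg_one_of_isConstExt
    {k : Type u} {K : Type v} {k' : Type u'} {K' : Type v'} [Field k] [Finite k] [Field K]
    [Algebra k K] [Field k'] [Finite k'] [Field K'] [Algebra k k'] [Algebra K K'] [Algebra k' K']
    (hK : IsFunctionField k K) (hK' : IsFunctionField k' K') (hce : IsConstExt k K k' K') :
    Nat.card {P : Place k' K' // P.deg = 1} = NN hK (Module.finrank k k') := by
  letI : Algebra k K' := ((algebraMap K K').comp (algebraMap k K)).toAlgebra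
  haveI : IsScalarTower k K K' := IsScalarTower.of_algebraMap_eq (fun _ => rfl)
  haveI : IsScalarTower k k' K' := IsScalarTower.of_algebraMap_eq (fun c => hce.1 c)
  haveI : FiniteDimensional k k' := Module.Finite.of_finite
  have h := bijective_of_adjoin (k := k) hce.2.1 hce.2.2
  haveI : FiniteDimensional K K' := finiteDimensional_of_tensor' h
  haveI : IsGalois K K' := isGalois_of_tensor h
  exact card_deg_one_places h hK hK'

end Groth.Agent.Lib.Helper18.Zeta
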