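import Groth.Agent.Lib.Helper18.Zeta.ConstExt3
import Groth.Agent.Lib.Helper18.Zeta.SchmidtInst

/-! # Existence and transitivity of constant field extensions over finite fields -/

set_option autoImplicit false
set_option linter.style.haveILetI false

namespace Groth.Agent.Lib.Helper18.Zeta

open FunFld Groth.Agent.Lib.Helper18.FF Groth.Agent.Lib.Helper24.FFExt

open scoped TensorProduct

universe u u' v v'

section

variable {k : Type u} {k' : Type u'} {K : Type v} {K' : Type v'} [Field k] [Field k'] [Field K]
  [Field K'] [Algebra k k'] [Algebra k K] [Algebra K K'] [Algebra k' K'] [Algebra k K']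
  [IsScalarTower k k' K'] [IsScalarTower k K K']

theorem isConstExt_of_bijective [FiniteDimensional k k']
    (h : Function.Bijective (Algebra.TensorProduct.productMap
      (IsScalarTower.toAlgHom k k' K') (IsScalarTower.toAlgHom k K K'))) :
    IsConstExt k K k' K' := by
  refine ⟨fun c => ?_, ?_, finrank_of_tensor h⟩
  · rw [← IsScalarTower.algebraMap_apply, ← IsScalarTower.algebraMap_apply]
  · rw [eq_top_iff]
    rintro z -
    obtain ⟨w, rfl⟩ := h.2 z
    induction w using TensorProduct.induction_on with
    | zero => rw [map_zero]; exact Subalgebra.zero_mem _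
    | tmul a b =>
      rw [Algebra.TensorProduct.productMap_apply_tmul, IsScalarTower.coe_toAlgHom',
        IsScalarTower.coe_toAlgHom']
      exact Subalgebra.mul_mem _ (Algebra.subset_adjoin ⟨a, rfl⟩) (Subalgebra.algebraMap_mem _ b)
    | add x y hx hy => rw [map_add]; exact Subalgebra.add_mem _ hx hy

end

/-- Over a finite constant field there is a constant field extension of every degree `r > 0`. -/
theorem exists_constExt {k : Type u} {K : Type v} [Field k] [Field K] [Algebra k K] [Finite k]
    (hK : IsFunctionField k K) (r : ℕ) (hr : 0 < r) :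
    ∃ (k' : Type u) (K' : Type v) (_ : Field k') (_ : Field K') (_ : Algebra k k')
      (_ : Algebra K K') (_ : Algebra k' K'),
      Finite k' ∧ IsFunctionField k' K' ∧ IsConstExt k K k' K' ∧ Module.finrank k k' = r := by
  obtain ⟨g, hmon, hirr, hdeg⟩ := exists_irreducible_natDegree k r hr
  haveI : Fact (Irreducible g) := ⟨hirr⟩
  have hirrK := irreducible_map_of_algClosedIn hK.2 hmon hirr
  haveI : Fact (Irreducible (g.map (algebraMap k K))) := ⟨hirrK⟩
  have hg0 : g ≠ 0 := hirr.ne_zero
  haveI : FiniteDimensional k (AdjoinRoot g) := (AdjoinRoot.powerBasis hg0).finite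
  haveI : Finite (AdjoinRoot g) := Module.finite_of_finite k
  have hfr : Module.finrank k (AdjoinRoot g) = r := by
    rw [(AdjoinRoot.powerBasis hg0).finrank, AdjoinRoot.powerBasis_dim, hdeg]
  letI : Algebra (AdjoinRoot g) (AdjoinRoot (g.map (algebraMap k K))) :=
    (AdjoinRoot.map (algebraMap k K) g (g.map (algebraMap k K)) dvd_rfl).toAlgebra
  haveI : IsScalarTower k (AdjoinRoot g) (AdjoinRoot (g.map (algebraMap k K))) :=
    IsScalarTower.of_algebraMap_eq fun c => by
      show _ = AdjoinRoot.map (algebraMap k K) g (g.map (algebraMap k K)) dvd_rfl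
        (algebraMap k (AdjoinRoot g) c)
      rw [AdjoinRoot.algebraMap_eq, AdjoinRoot.map_of, IsScalarTower.algebraMap_apply k K,
        AdjoinRoot.algebraMap_eq]
  have hbij : Function.Bijective (Algebra.TensorProduct.productMap
      (IsScalarTower.toAlgHom k (AdjoinRoot g) (AdjoinRoot (g.map (algebraMap k K))))
      (IsScalarTower.toAlgHom k K (AdjoinRoot (g.map (algebraMap k K))))) := by
    constructor
    · have hF : IsField (AdjoinRoot g ⊗[k] K) := isField_tensor_of_isSeparable hK.2
      exact injective_of_isField hF (Algebra.TensorProduct.productMap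
        (IsScalarTower.toAlgHom k (AdjoinRoot g) (AdjoinRoot (g.map (algebraMap k K))))
        (IsScalarTower.toAlgHom k K (AdjoinRoot (g.map (algebraMap k K))))).toRingHom
    · intro z
      induction z using AdjoinRoot.induction_on with
      | ih p =>
        induction p using Polynomial.induction_on' with
        | add p q hp hq =>
          obtain ⟨a, ha⟩ := hp
          obtain ⟨b, hb⟩ := hq
          exact ⟨a + b, by rw [map_add, ha, hb, map_add]⟩
        | monomial n a =>
          refine ⟨(AdjoinRoot.root g ^ n) ⊗ₜ a, ?_⟩
          rw [Algebra.TensorProduct.productMap_apply_tmul, IsScalarTower.coe_toAlgHom',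
            IsScalarTower.coe_toAlgHom', map_pow]
          have h1 : algebraMap (AdjoinRoot g) (AdjoinRoot (g.map (algebraMap k K)))
              (AdjoinRoot.root g) = AdjoinRoot.root (g.map (algebraMap k K)) :=
            AdjoinRoot.map_root _ _ _ _
          rw [h1, ← Polynomial.C_mul_X_pow_eq_monomial, map_mul, map_pow, AdjoinRoot.mk_C,
            AdjoinRoot.mk_X, AdjoinRoot.algebraMap_eq, mul_comm]
  haveI : PerfectField k := inferInstance
  have hg := isGeometric_of_perfectField hK
  have hK' : IsFunctionField (AdjoinRoot g) (AdjoinRoot (g.map (algebraMap k K))) :=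
    isFunctionField_baseChange hbij hK hg
  exact ⟨AdjoinRoot g, AdjoinRoot (g.map (algebraMap k K)), inferInstance, inferInstance,
    inferInstance, inferInstance, inferInstance, inferInstance, hK',
    isConstExt_of_bijective hbij, hfr⟩

/-- Constant field extensions compose. -/
theorem isConstExt_trans {k K k' K' k'' K'' : Type*} [Field k] [Field K] [Field k'] [Field K']
    [Field k''] [Field K''] [Algebra k K] [Algebra k k'] [Algebra K K'] [Algebra k' K']
    [Algebra k' k''] [Algebra K' K''] [Algebra k'' K''] [Algebra k k''] [Algebra K K'']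
    [IsScalarTower k k' k''] [IsScalarTower K K' K'']
    (h1 : IsConstExt k K k' K') (h2 : IsConstExt k' K' k'' K'') : IsConstExt k K k'' K'' := by
  refine ⟨fun c => ?_, ?_, ?_⟩
  · rw [IsScalarTower.algebraMap_apply K K' K'', h1.1, h2.1,
      ← IsScalarTower.algebraMap_apply k k' k'']
  · have hK' : ∀ z : K', algebraMap K' K'' z ∈
        Algebra.adjoin K (Set.range (algebraMap k'' K'')) := by
      intro z
      have hz : z ∈ Algebra.adjoin K (Set.range (algebraMap k' K')) := by rw [h1.2.1]; trivial
      induction hz using Algebra.adjoin_induction with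
      | mem x hx =>
        obtain ⟨c, rfl⟩ := hx
        rw [h2.1]
        exact Algebra.subset_adjoin ⟨_, rfl⟩
      | algebraMap x =>
        rw [← IsScalarTower.algebraMap_apply K K' K'']
        exact Subalgebra.algebraMap_mem _ x
      | add x y _ _ hx hy => rw [map_add]; exact Subalgebra.add_mem _ hx hy
      | mul x y _ _ hx hy => rw [map_mul]; exact Subalgebra.mul_mem _ hx hy
    rw [eq_top_iff]
    rintro w -
    have hw : w ∈ Algebra.adjoin K' (Set.range (algebraMap k'' K'')) := by rw [h2.2.1]; trivial
    induction hw using Algebra.adjoin_induction with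
    | mem x hx => exact Algebra.subset_adjoin hx
    | algebraMap z => exact hK' z
    | add x y _ _ hx hy => exact Subalgebra.add_mem _ hx hy
    | mul x y _ _ hx hy => exact Subalgebra.mul_mem _ hx hy
  · rw [← Module.finrank_mul_finrank K K' K'', ← Module.finrank_mul_finrank k k' k'',
      h1.2.2, h2.2.2]

/-- `N_r(K') = N_{n r}(K)` for the constant field extension `K'/K` of degree `n`. -/
theorem NN_constExt {k : Type u} {K : Type v} {k' : Type u'} {K' : Type v'} [Field k] [Finite k]
    [Field K] [Algebra k K] [Field k'] [Finite k'] [Field K'] [Algebra k k'] [Algebra K K']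
    [Algebra k' K']
    (hK : IsFunctionField k K) (hK' : IsFunctionField k' K') (hce : IsConstExt k K k' K')
    (r : ℕ) (hr : 0 < r) :
    NN hK' r = NN hK (Module.finrank k k' * r) := by
  obtain ⟨k'', K'', i1, i2, i3, i4, i5, hfin, hK'', hce', hfr⟩ := exists_constExt hK' r hr
  haveI : Finite k'' := hfin
  letI : Algebra k k'' := ((algebraMap k' k'').comp (algebraMap k k')).toAlgebra
  letI : Algebra K K'' := ((algebraMap K' K'').comp (algebraMap K K')).toAlgebra
  haveI : IsScalarTower k k' k'' := IsScalarTower.of_algebraMap_eq (fun _ => rfl)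
  haveI : IsScalarTower K K' K'' := IsScalarTower.of_algebraMap_eq (fun _ => rfl)
  have hce'' : IsConstExt k K k'' K'' := isConstExt_trans hce hce'
  have e1 := card_deg_one_of_isConstExt hK' hK'' hce'
  have e2 := card_deg_one_of_isConstExt hK hK'' hce''
  rw [hfr] at e1
  rw [← e1, e2, ← Module.finrank_mul_finrank k k' k'', hfr]

end Groth.Agent.Lib.Helper18.Zeta
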