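import Groth.Agent.Lib.Helper18.Zeta.ClassGroup

/-! # Counting effective divisors by classes -/

set_option autoImplicit false

namespace Groth.Agent.Lib.Helper18.Zeta

open FunFld WithZero Groth.Agent.Lib.Helper18.FF

universe u v

variable {k : Type u} {K : Type v} [Field k] [Field K] [Algebra k K]

/-- The effective divisors of degree `n`. -/
abbrev EffDeg (k : Type u) (K : Type v) [Field k] [Field K] [Algebra k K] (n : ℕ) : Type _ :=
  {D : Divisor k K // 0 ≤ D ∧ D.deg = n}

theorem effDivCount_eq (n : ℕ) : effDivCount k K n = Nat.card (EffDeg k K n) := rfl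

/-- The class of an effective divisor of degree `n` relative to a base divisor of degree `n`. -/
noncomputable def clsRel {n : ℕ} (B : Divisor k K) (hB : B.deg = n) (D : EffDeg k K n) : Cl0 k K :=
  cl0 (D.1 - B) (by rw [deg_sub, D.2.2, hB, sub_self])

theorem clsRel_eq_iff (hK : IsFunctionField k K) {n : ℕ} (B : Divisor k K) (hB : B.deg = n)
    (D : EffDeg k K n) (D₀ : Divisor k K) (h₀ : D₀.deg = 0) :
    clsRel B hB D = cl0 D₀ h₀ ↔ D.1 ∈ EffIn (B + D₀) := by
  unfold clsRel
  rw [eq_comm, cl0_eq_iff hK]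
  constructor
  · rintro ⟨x, hx, h⟩
    refine ⟨D.2.1, x, hx, ?_⟩
    have : D.1 = B + (D.1 - B) := by abel
    rw [this, h]; abel
  · rintro ⟨-, x, hx, h⟩
    refine ⟨x, hx, ?_⟩
    rw [h]; abel

/-- Representatives of the classes. -/
noncomputable def rep (c : Cl0 k K) : Divisor k K := Classical.choose (cl0_surjective c)

theorem deg_rep (c : Cl0 k K) : (rep c).deg = 0 := (Classical.choose_spec (cl0_surjective c)).choose

theorem cl0_rep (c : Cl0 k K) : cl0 (rep c) (deg_rep c) = c :=
  (Classical.choose_spec (cl0_surjective c)).choose_spec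

/-- The group of divisor classes of degree zero is finite. -/
theorem finite_Cl0 [Finite k] (hK : IsFunctionField k K) : Finite (Cl0 k K) := by
  obtain ⟨P₀⟩ := exists_place hK
  set g := genus k K with hg
  set n : ℕ := g * P₀.deg with hn
  set B : Divisor k K := Finsupp.single P₀ (g : ℤ) with hBdef
  have hB : B.deg = n := by rw [hBdef, deg_single, hn]; push_cast; ring
  haveI := finite_effDiv' hK n
  refine Finite.of_surjective (clsRel B hB) ?_
  intro c
  obtain ⟨D₀, h₀, rfl⟩ := cl0_surjective c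
  have hdeg : (B + D₀).deg = n := by rw [deg_add, hB, h₀, add_zero]
  have hpos : 0 < ell (B + D₀) := by
    have h1 := delta_le_genus hK (B + D₀)
    unfold delta at h1
    rw [hdeg] at h1
    have h2 : (g : ℤ) ≤ n := by
      rw [hn]; push_cast
      have : (1 : ℤ) ≤ P₀.deg := by exact_mod_cast deg_pos hK P₀
      nlinarith [Int.natCast_nonneg g]
    have : (0 : ℤ) < ell (B + D₀) := by rw [← hg] at h1; linarith
    exact_mod_cast this
  obtain ⟨x, hx0, hx⟩ := exists_ne_zero_mem_L_of_ell_pos hpos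
  have hD : 0 ≤ B + D₀ + FunFld.div k x := (mem_L_iff_div hK _ hx0).mp hx
  refine ⟨⟨B + D₀ + FunFld.div k x, hD, by rw [deg_add_div hK, hdeg]⟩, ?_⟩
  rw [clsRel_eq_iff hK]
  exact ⟨hD, x, hx0, rfl⟩

theorem finite_effIn [Finite k] (hK : IsFunctionField k K) (C : Divisor k K) :
    Finite (EffIn C) := by
  classical
  haveI := finiteDimensional_L hK C
  haveI : Finite (L C) := Module.finite_of_finite k
  have hψ : ∀ x : {x : L C // x ≠ 0}, C + FunFld.div k (x.1 : K) ∈ EffIn C := by
    intro x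
    have hx0 : (x.1 : K) ≠ 0 := fun h => x.2 (Subtype.ext h)
    exact ⟨(mem_L_iff_div hK C hx0).mp x.1.2, _, hx0, rfl⟩
  refine Finite.of_surjective (fun x : {x : L C // x ≠ 0} => (⟨_, hψ x⟩ : EffIn C)) ?_
  rintro ⟨D, hD, x, hx, rfl⟩
  exact ⟨⟨⟨x, (mem_L_iff_div hK C hx).mpr hD⟩, fun h => hx (congrArg Subtype.val h)⟩, rfl⟩

/-- The number of effective divisors of degree `n`, summed over the classes of degree `n`. -/
theorem effDivCount_eq_sum [Finite k] (hK : IsFunctionField k K) [Fintype (Cl0 k K)] (n : ℕ)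
    (B : Divisor k K) (hB : B.deg = n) :
    ((Nat.card k : ℤ) - 1) * (effDivCount k K n : ℤ) =
      ∑ c : Cl0 k K, ((Nat.card k : ℤ) ^ ell (B + rep c) - 1) := by
  classical
  haveI : ∀ c : Cl0 k K, Finite (EffIn (B + rep c)) := fun c => finite_effIn hK _
  haveI := finite_effDiv' hK n
  have h1 : Nat.card (EffDeg k K n) = ∑ c : Cl0 k K, Nat.card (EffIn (B + rep c)) := by
    rw [Nat.card_congr (Equiv.sigmaFiberEquiv (clsRel B hB)).symm, Nat.card_sigma]
    refine Finset.sum_congr rfl fun c _ => ?_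
    have hmem : ∀ D : {D : EffDeg k K n // clsRel B hB D = c}, D.1.1 ∈ EffIn (B + rep c) := by
      intro D
      exact (clsRel_eq_iff hK B hB D.1 (rep c) (deg_rep c)).mp (D.2.trans (cl0_rep c).symm)
    refine Nat.card_eq_of_bijective (fun D => (⟨D.1.1, hmem D⟩ : EffIn (B + rep c))) ⟨?_, ?_⟩
    · intro D D' h
      apply Subtype.ext
      apply Subtype.ext
      exact congrArg (fun z : EffIn (B + rep c) => z.1) h
    · rintro ⟨D, hD⟩
      have hdeg : D.deg = n := by
        obtain ⟨-, x, -, rfl⟩ := hD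
        rw [deg_add_div hK, deg_add, hB, deg_rep, add_zero]
      refine ⟨⟨⟨D, hD.1, hdeg⟩, ?_⟩, rfl⟩
      exact ((clsRel_eq_iff hK B hB _ (rep c) (deg_rep c)).mpr hD).trans (cl0_rep c)
  rw [effDivCount_eq, h1, Nat.cast_sum, Finset.mul_sum]
  exact Finset.sum_congr rfl fun c _ => card_effIn hK _

theorem classNum_eq [Fintype (Cl0 k K)] : classNum k K = Fintype.card (Cl0 k K) := by
  unfold classNum
  exact Nat.card_eq_fintype_card

/-- For `n ≥ 2g - 1` a degree of a divisor, `(q - 1) a(n) = h (q ^ (n + 1 - g) - 1)`. -/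
theorem effDivCount_of_large [Finite k] (hK : IsFunctionField k K) (n : ℕ)
    (hn : 2 * genus k K ≤ n + 1) (B : Divisor k K) (hB : B.deg = n) :
    ((Nat.card k : ℤ) - 1) * (effDivCount k K n : ℤ) =
      (classNum k K : ℤ) * ((Nat.card k : ℤ) ^ (n + 1 - genus k K) - 1) := by
  haveI := finite_Cl0 hK
  haveI := Fintype.ofFinite (Cl0 k K)
  rw [effDivCount_eq_sum hK n B hB, classNum_eq]
  have h1 : ∀ c : Cl0 k K, ell (B + rep c) = n + 1 - genus k K := by
    intro c
    have hdeg : (B + rep c).deg = n := by rw [deg_add, hB, deg_rep, add_zero]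
    have h2 := ell_eq_of_deg_ge hK (B + rep c) (by rw [hdeg]; omega)
    rw [hdeg] at h2
    omega
  rw [Finset.sum_congr rfl fun c _ => by rw [h1 c], Finset.sum_const, Finset.card_univ,
    nsmul_eq_mul]

theorem effDivCount_eq_zero (n : ℕ) (h : ¬ ∃ D : Divisor k K, D.deg = n) :
    effDivCount k K n = 0 := by
  rw [effDivCount_eq]
  haveI : IsEmpty (EffDeg k K n) := ⟨fun D => h ⟨D.1, D.2.2⟩⟩
  exact Nat.card_of_isEmpty

end Groth.Agent.Lib.Helper18.Zeta
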