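import Mathlib

/-! # Counting effective zero-cycles by degree: the logarithmic-derivative recursion -/

set_option autoImplicit false
set_option linter.style.haveILetI false
set_option linter.unusedSectionVars false

namespace Groth.Agent.Lib.Helper18.Zeta.CycleCount

variable {P : Type*} (d : P → ℕ)

/-- The degree of an effective cycle. -/
noncomputable def deg (α : P →₀ ℕ) : ℕ := α.sum (fun x j => j * d x)

lemma deg_zero : deg d 0 = 0 := Finsupp.sum_zero_index

lemma deg_add (α β : P →₀ ℕ) : deg d (α + β) = deg d α + deg d β :=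
  Finsupp.sum_add_index' (fun _ => zero_mul _) (fun _ _ _ => add_mul _ _ _)

lemma deg_single (x : P) (j : ℕ) : deg d (Finsupp.single x j) = j * d x :=
  Finsupp.sum_single_index (zero_mul _)

lemma apply_mul_le_deg (α : P →₀ ℕ) (x : P) : α x * d x ≤ deg d α := by
  by_cases hx : x ∈ α.support
  · exact Finset.single_le_sum (f := fun y => α y * d y) (fun _ _ => Nat.zero_le _) hx
  · rw [Finsupp.notMem_support_iff.mp hx, zero_mul]
    exact Nat.zero_le _

lemma deg_eq_sum_of_subset {α : P →₀ ℕ} {S : Finset P} (h : α.support ⊆ S) :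
    deg d α = ∑ x ∈ S, α x * d x :=
  Finsupp.sum_of_support_subset _ h _ (fun _ _ => zero_mul _)

section fin

variable (hd : ∀ x, 0 < d x) (hfin : ∀ e, {x | d x = e}.Finite)
include hd hfin

lemma finite_le (m : ℕ) : {x | d x ≤ m}.Finite := by
  refine (Set.Finite.biUnion (Finset.range (m + 1)).finite_toSet (fun e _ => hfin e)).subset ?_
  intro x hx
  simp only [Set.mem_iUnion, Set.mem_setOf_eq, Finset.coe_range, Set.mem_Iio, exists_prop]
  exact ⟨d x, Nat.lt_succ_of_le hx, rfl⟩

lemma apply_le_deg (α : P →₀ ℕ) (x : P) : α x ≤ deg d α :=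
  le_trans (Nat.le_mul_of_pos_right _ (hd x)) (apply_mul_le_deg d α x)

lemma d_le_deg_of_mem_support {α : P →₀ ℕ} {x : P} (hx : x ∈ α.support) : d x ≤ deg d α := by
  have h1 : 1 ≤ α x := Nat.one_le_iff_ne_zero.mpr (Finsupp.mem_support_iff.mp hx)
  exact le_trans (Nat.le_mul_of_pos_left _ h1) (apply_mul_le_deg d α x)

lemma finite_C (m : ℕ) : {α : P →₀ ℕ | deg d α = m}.Finite := by
  classical
  refine (Finset.finite_toSet ((finite_le d hd hfin m).toFinset.finsupp
    (fun _ => Finset.range (m + 1)))).subset ?_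
  intro α hα
  have hα' : deg d α = m := hα
  rw [Finset.mem_coe, Finset.mem_finsupp_iff]
  refine ⟨fun x hx => ?_, fun x _ => ?_⟩
  · rw [Set.Finite.mem_toFinset]
    show d x ≤ m
    rw [← hα']
    exact d_le_deg_of_mem_support d hd hfin hx
  · rw [Finset.mem_range, Nat.lt_succ_iff, ← hα']
    exact apply_le_deg d hd hfin α x

end fin

/-- The number of effective cycles of degree `m`. -/
noncomputable def A (m : ℕ) : ℕ := Nat.card {α : P →₀ ℕ // deg d α = m}

lemma deg_eq_zero_iff (hd : ∀ x, 0 < d x) (α : P →₀ ℕ) : deg d α = 0 ↔ α = 0 := by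
  constructor
  · intro h
    ext x
    have h1 := apply_mul_le_deg d α x
    rw [h] at h1
    have h2 : α x * d x = 0 := Nat.le_zero.mp h1
    rcases Nat.mul_eq_zero.mp h2 with h3 | h3
    · simpa using h3
    · exact absurd h3 (hd x).ne'
  · rintro rfl
    exact deg_zero d

lemma A_zero (hd : ∀ x, 0 < d x) : A d 0 = 1 := by
  unfold A
  have : {α : P →₀ ℕ // deg d α = 0} ≃ Unit :=
    { toFun := fun _ => ()
      invFun := fun _ => ⟨0, deg_zero d⟩
      left_inv := fun α => Subtype.ext ((deg_eq_zero_iff d hd α.1).mp α.2).symm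
      right_inv := fun _ => rfl }
  rw [Nat.card_congr this]
  simp

/-- The number of points of degree `e`. -/
noncomputable def a (e : ℕ) : ℕ := Nat.card {x : P // d x = e}

/-- `N_i = ∑_{e ∣ i} e a_e`. -/
noncomputable def N (i : ℕ) : ℕ := ∑ e ∈ i.divisors, e * a d e

section rec

variable (hd : ∀ x, 0 < d x) (hfin : ∀ e, {x | d x = e}.Finite)
include hd hfin

/-- The finite set of points of degree at most `m`. -/
noncomputable def S (m : ℕ) : Finset P := (finite_le d hd hfin m).toFinset

/-- The finite set of cycles of degree `m`. -/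
noncomputable def Cf (m : ℕ) : Finset (P →₀ ℕ) := (finite_C d hd hfin m).toFinset

lemma mem_S {m : ℕ} {x : P} : x ∈ S d hd hfin m ↔ d x ≤ m := by
  unfold S
  rw [Set.Finite.mem_toFinset]
  rfl

lemma mem_Cf {m : ℕ} {α : P →₀ ℕ} : α ∈ Cf d hd hfin m ↔ deg d α = m := by
  unfold Cf
  rw [Set.Finite.mem_toFinset]
  rfl

lemma A_eq_card (m : ℕ) : A d m = (Cf d hd hfin m).card := by
  unfold A Cf
  rw [← Set.ncard_eq_toFinset_card _ (finite_C d hd hfin m)]
  rfl

lemma a_eq_card {m e : ℕ} (he : e ≤ m) :
    a d e = ((S d hd hfin m).filter (fun x => d x = e)).card := by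
  classical
  unfold a
  have h1 : {x : P | d x = e}.Finite := hfin e
  have h2 : ((S d hd hfin m).filter (fun x => d x = e)) = h1.toFinset := by
    ext x
    rw [Finset.mem_filter, Set.Finite.mem_toFinset, mem_S]
    constructor
    · exact fun h => h.2
    · intro h
      have h' : d x = e := h
      exact ⟨by rw [h']; exact he, h'⟩
  rw [h2, ← Set.ncard_eq_toFinset_card _ h1]
  rfl

lemma support_subset_S {m : ℕ} {α : P →₀ ℕ} (hα : deg d α = m) : α.support ⊆ S d hd hfin m := by
  intro x hx
  rw [mem_S, ← hα]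
  exact d_le_deg_of_mem_support d hd hfin hx

/-- The number of cycles of degree `M` with multiplicity at least `j` at `x`. -/
lemma card_filter_le (M j : ℕ) (x : P) :
    ((Cf d hd hfin M).filter (fun β => j ≤ β x)).card =
      if j * d x ≤ M then A d (M - j * d x) else 0 := by
  classical
  split_ifs with h
  · rw [A_eq_card d hd hfin]
    refine Finset.card_nbij' (fun β => β - Finsupp.single x j) (fun α => α + Finsupp.single x j)
      ?_ ?_ ?_ ?_
    · intro β hβ
      rw [Finset.mem_coe, Finset.mem_filter, mem_Cf] at hβ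
      rw [Finset.mem_coe, mem_Cf]
      have h1 : Finsupp.single x j ≤ β := Finsupp.single_le_iff.mpr hβ.2
      have h2 : β - Finsupp.single x j + Finsupp.single x j = β := tsub_add_cancel_of_le h1
      have h3 := deg_add d (β - Finsupp.single x j) (Finsupp.single x j)
      rw [h2, deg_single, hβ.1] at h3
      show deg d (β - Finsupp.single x j) = M - j * d x
      omega
    · intro α hα
      rw [Finset.mem_coe, mem_Cf] at hα
      rw [Finset.mem_coe, Finset.mem_filter, mem_Cf]
      refine ⟨?_, ?_⟩
      · show deg d (α + Finsupp.single x j) = M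
        rw [deg_add, deg_single, hα]
        omega
      · show j ≤ (α + Finsupp.single x j) x
        rw [Finsupp.add_apply, Finsupp.single_eq_same]
        omega
    · intro β hβ
      rw [Finset.mem_coe, Finset.mem_filter, mem_Cf] at hβ
      show β - Finsupp.single x j + Finsupp.single x j = β
      exact tsub_add_cancel_of_le (Finsupp.single_le_iff.mpr hβ.2)
    · intro α _
      show α + Finsupp.single x j - Finsupp.single x j = α
      exact add_tsub_cancel_right α (Finsupp.single x j)
  · rw [Finset.card_eq_zero, Finset.filter_eq_empty_iff]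
    intro β hβ hj
    rw [mem_Cf] at hβ
    apply h
    calc j * d x ≤ β x * d x := Nat.mul_le_mul_right _ hj
      _ ≤ deg d β := apply_mul_le_deg d β x
      _ = M := hβ

/-- The total multiplicity at `x` of the cycles of degree `M`. -/
lemma sum_apply (M : ℕ) (x : P) :
    ∑ β ∈ Cf d hd hfin M, β x =
      ∑ j ∈ Finset.Icc 1 M, if j * d x ≤ M then A d (M - j * d x) else 0 := by
  classical
  have h1 : ∀ β ∈ Cf d hd hfin M, β x = ∑ j ∈ Finset.Icc 1 M, if j ≤ β x then 1 else 0 := by
    intro β hβ
    rw [mem_Cf] at hβ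
    have hle : β x ≤ M := hβ ▸ apply_le_deg d hd hfin β x
    rw [Finset.sum_boole]
    have : (Finset.Icc 1 M).filter (fun j => j ≤ β x) = Finset.Icc 1 (β x) := by
      ext j
      simp only [Finset.mem_filter, Finset.mem_Icc]
      omega
    rw [this]
    simp
  rw [Finset.sum_congr rfl h1, Finset.sum_comm]
  refine Finset.sum_congr rfl fun j _ => ?_
  rw [← card_filter_le d hd hfin M j x, Finset.card_filter]

lemma N_eq_sum {M i : ℕ} (hi1 : 1 ≤ i) (hiM : i ≤ M) :
    N d i = ∑ x ∈ S d hd hfin M, if d x ∣ i then d x else 0 := by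
  classical
  unfold N
  have h1 : ∀ e ∈ i.divisors, e * a d e = ∑ x ∈ S d hd hfin M, if d x = e then e else 0 := by
    intro e he
    have hei : e ≤ i := Nat.divisor_le he
    rw [a_eq_card d hd hfin (le_trans hei hiM), Finset.card_filter, Finset.mul_sum]
    refine Finset.sum_congr rfl fun x _ => ?_
    split_ifs <;> simp
  rw [Finset.sum_congr rfl h1, Finset.sum_comm]
  refine Finset.sum_congr rfl fun x _ => ?_
  rw [Finset.sum_ite_eq]
  have : d x ∈ i.divisors ↔ d x ∣ i := by
    rw [Nat.mem_divisors]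
    exact ⟨fun h => h.1, fun h => ⟨h, by omega⟩⟩
  simp only [this]

/-- The recursion `(m+1) A_{m+1} = ∑_{i ≤ m} N_{i+1} A_{m-i}`. -/
theorem rec (m : ℕ) :
    (m + 1) * A d (m + 1) = ∑ i ∈ Finset.range (m + 1), N d (i + 1) * A d (m - i) := by
  classical
  set M := m + 1 with hM
  -- left-hand side
  have hL : M * A d M = ∑ x ∈ S d hd hfin M,
      (∑ j ∈ Finset.Icc 1 M, if j * d x ≤ M then A d (M - j * d x) else 0) * d x := by
    have h1 : ∑ β ∈ Cf d hd hfin M, deg d β = (Cf d hd hfin M).card * M :=
      Finset.sum_const_nat (fun β hβ => (mem_Cf d hd hfin).mp hβ)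
    rw [A_eq_card d hd hfin, mul_comm, ← h1]
    have h2 : ∀ β ∈ Cf d hd hfin M, deg d β = ∑ x ∈ S d hd hfin M, β x * d x := fun β hβ =>
      deg_eq_sum_of_subset d (support_subset_S d hd hfin ((mem_Cf d hd hfin).mp hβ))
    rw [Finset.sum_congr rfl h2, Finset.sum_comm]
    refine Finset.sum_congr rfl fun x _ => ?_
    rw [← Finset.sum_mul, sum_apply d hd hfin M x]
  -- right-hand side
  have hR : ∑ i ∈ Finset.range M, N d (i + 1) * A d (m - i) = ∑ x ∈ S d hd hfin M,
      ∑ i ∈ Finset.range M, (if d x ∣ i + 1 then d x else 0) * A d (M - (i + 1)) := by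
    have h1 : ∀ i ∈ Finset.range M, N d (i + 1) * A d (m - i) =
        ∑ x ∈ S d hd hfin M, (if d x ∣ i + 1 then d x else 0) * A d (M - (i + 1)) := by
      intro i hi
      have hi' : i < M := Finset.mem_range.mp hi
      rw [N_eq_sum d hd hfin (M := M) (by omega) (by omega), Finset.sum_mul]
      have : m - i = M - (i + 1) := by omega
      rw [this]
    rw [Finset.sum_congr rfl h1, Finset.sum_comm]
  rw [hL, hR]
  refine Finset.sum_congr rfl fun x _ => ?_
  have he : 0 < d x := hd x
  rw [Finset.sum_mul]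
  rw [← Finset.sum_filter_add_sum_filter_not (Finset.Icc 1 M) (fun j => j * d x ≤ M),
    ← Finset.sum_filter_add_sum_filter_not (Finset.range M) (fun i => d x ∣ i + 1)]
  have z1 : ∑ j ∈ (Finset.Icc 1 M).filter (fun j => ¬ j * d x ≤ M),
      (if j * d x ≤ M then A d (M - j * d x) else 0) * d x = 0 := by
    refine Finset.sum_eq_zero fun j hj => ?_
    rw [if_neg (Finset.mem_filter.mp hj).2, zero_mul]
  have z2 : ∑ i ∈ (Finset.range M).filter (fun i => ¬ d x ∣ i + 1),
      (if d x ∣ i + 1 then d x else 0) * A d (M - (i + 1)) = 0 := by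
    refine Finset.sum_eq_zero fun i hi => ?_
    rw [if_neg (Finset.mem_filter.mp hi).2, zero_mul]
  rw [z1, z2, add_zero, add_zero]
  refine Finset.sum_nbij' (fun j => j * d x - 1) (fun i => (i + 1) / d x) ?_ ?_ ?_ ?_ ?_
  · intro j hj
    rw [Finset.mem_filter, Finset.mem_Icc] at hj
    rw [Finset.mem_filter, Finset.mem_range]
    have h1 : 1 ≤ j * d x := Nat.mul_pos (by omega) he
    refine ⟨by omega, ?_⟩
    have : j * d x - 1 + 1 = j * d x := by omega
    rw [this]
    exact Dvd.intro_left j rfl
  · intro i hi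
    rw [Finset.mem_filter, Finset.mem_range] at hi
    rw [Finset.mem_filter, Finset.mem_Icc]
    have h1 : (i + 1) / d x * d x = i + 1 := Nat.div_mul_cancel hi.2
    have h2 : 1 ≤ (i + 1) / d x := by
      rw [Nat.one_le_div_iff he]
      exact Nat.le_of_dvd (by omega) hi.2
    refine ⟨⟨h2, ?_⟩, by omega⟩
    calc (i + 1) / d x ≤ i + 1 := Nat.div_le_self _ _
      _ ≤ M := by omega
  · intro j hj
    rw [Finset.mem_filter, Finset.mem_Icc] at hj
    have h1 : 1 ≤ j * d x := Nat.mul_pos (by omega) he
    show (j * d x - 1 + 1) / d x = j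
    have : j * d x - 1 + 1 = j * d x := by omega
    rw [this, Nat.mul_div_cancel _ he]
  · intro i hi
    rw [Finset.mem_filter, Finset.mem_range] at hi
    show (i + 1) / d x * d x - 1 = i
    rw [Nat.div_mul_cancel hi.2]
    omega
  · intro j hj
    rw [Finset.mem_filter, Finset.mem_Icc] at hj
    have h1 : 1 ≤ j * d x := Nat.mul_pos (by omega) he
    have h2 : j * d x - 1 + 1 = j * d x := by omega
    rw [if_pos hj.2, h2, if_pos (Dvd.intro_left j rfl), mul_comm]

end rec

end Groth.Agent.Lib.Helper18.Zeta.CycleCount
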