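import Groth.Agent.Lib.Helper18.Zeta.Galois
import Mathlib.FieldTheory.Galois.Basic
import Mathlib.RingTheory.TensorProduct.Maps

/-! # Automorphisms of a constant field extension -/

set_option autoImplicit false
set_option linter.style.haveILetI false

namespace Groth.Agent.Lib.Helper18.Zeta

open scoped TensorProduct

universe u u' v v'

section ext

variable {k : Type u} {k' : Type u'} {E : Type v} {E' : Type v'} [Field k] [Field k'] [Field E]
  [Field E'] [Algebra k k'] [Algebra k E] [Algebra E E'] [Algebra k' E'] [Algebra k E']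
  [IsScalarTower k k' E'] [IsScalarTower k E E']

/-- The isomorphism `k' ⊗ E ≃ E'`. -/
noncomputable def tensorIso
    (h : Function.Bijective (Algebra.TensorProduct.productMap
      (IsScalarTower.toAlgHom k k' E') (IsScalarTower.toAlgHom k E E'))) :
    k' ⊗[k] E ≃ₐ[k] E' := AlgEquiv.ofBijective _ h

theorem tensorIso_tmul
    (h : Function.Bijective (Algebra.TensorProduct.productMap
      (IsScalarTower.toAlgHom k k' E') (IsScalarTower.toAlgHom k E E'))) (c : k') (z : E) :
    tensorIso h (c ⊗ₜ z) = algebraMap k' E' c * algebraMap E E' z := by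
  simp [tensorIso]

/-- The automorphism `φ ⊗ σ` of `E' = k' ⊗ E`. -/
noncomputable def extAut
    (h : Function.Bijective (Algebra.TensorProduct.productMap
      (IsScalarTower.toAlgHom k k' E') (IsScalarTower.toAlgHom k E E')))
    (φ : k' ≃ₐ[k] k') (σ : E ≃ₐ[k] E) : E' ≃ₐ[k] E' :=
  (tensorIso h).symm.trans ((Algebra.TensorProduct.congr φ σ).trans (tensorIso h))

theorem extAut_const
    (h : Function.Bijective (Algebra.TensorProduct.productMap
      (IsScalarTower.toAlgHom k k' E') (IsScalarTower.toAlgHom k E E')))
    (φ : k' ≃ₐ[k] k') (σ : E ≃ₐ[k] E) (c : k') :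
    extAut h φ σ (algebraMap k' E' c) = algebraMap k' E' (φ c) := by
  have h1 : algebraMap k' E' c = tensorIso h (c ⊗ₜ 1) := by rw [tensorIso_tmul, map_one, mul_one]
  unfold extAut
  rw [h1, AlgEquiv.trans_apply, AlgEquiv.symm_apply_apply, AlgEquiv.trans_apply,
    Algebra.TensorProduct.congr_apply, Algebra.TensorProduct.map_tmul, tensorIso_tmul]
  simp

theorem extAut_base
    (h : Function.Bijective (Algebra.TensorProduct.productMap
      (IsScalarTower.toAlgHom k k' E') (IsScalarTower.toAlgHom k E E')))
    (φ : k' ≃ₐ[k] k') (σ : E ≃ₐ[k] E) (z : E) :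
    extAut h φ σ (algebraMap E E' z) = algebraMap E E' (σ z) := by
  have h1 : algebraMap E E' z = tensorIso h (1 ⊗ₜ z) := by rw [tensorIso_tmul, map_one, one_mul]
  unfold extAut
  rw [h1, AlgEquiv.trans_apply, AlgEquiv.symm_apply_apply, AlgEquiv.trans_apply,
    Algebra.TensorProduct.congr_apply, Algebra.TensorProduct.map_tmul, tensorIso_tmul]
  simp

/-- Ring homomorphisms out of `E' = k' E` are determined by their values on `k'` and `E`. -/
theorem ringHom_ext_of_tensor {R : Type*} [Semiring R]
    (h : Function.Bijective (Algebra.TensorProduct.productMap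
      (IsScalarTower.toAlgHom k k' E') (IsScalarTower.toAlgHom k E E')))
    (f g : E' →+* R) (hc : ∀ c : k', f (algebraMap k' E' c) = g (algebraMap k' E' c))
    (hb : ∀ z : E, f (algebraMap E E' z) = g (algebraMap E E' z)) : f = g := by
  ext x
  obtain ⟨w, rfl⟩ := h.2 x
  induction w using TensorProduct.induction_on with
  | zero => simp
  | tmul a b =>
    simp only [Algebra.TensorProduct.productMap_apply_tmul, IsScalarTower.coe_toAlgHom', map_mul,
      hc, hb]
  | add x y hx hy => rw [map_add, map_add, map_add, hx, hy]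

end ext

end Groth.Agent.Lib.Helper18.Zeta
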