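import Groth.Agent.Lib.Helper18.Zeta.ExtAut
import Groth.Agent.Lib.Helper18.Zeta.ConstExt1

/-! # The Galois group of `E' = k' E` over a subfield `F` of `E` -/

set_option autoImplicit false
set_option linter.style.haveILetI false

namespace Groth.Agent.Lib.Helper18.Zeta

open scoped TensorProduct

universe u u' v v' w

variable {k : Type u} {k' : Type u'} {E : Type v} {E' : Type v'} {F : Type w} [Field k] [Field k']
  [Field E] [Field E'] [Field F] [Algebra k k'] [Algebra k E] [Algebra E E'] [Algebra k' E']
  [Algebra k E'] [IsScalarTower k k' E'] [IsScalarTower k E E']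
  [Algebra k F] [Algebra F E] [IsScalarTower k F E] [Algebra F E'] [IsScalarTower F E E']

/-- The automorphism `φ ⊗ σ` of `E'` over `F`. -/
noncomputable def extAutF
    (h : Function.Bijective (Algebra.TensorProduct.productMap
      (IsScalarTower.toAlgHom k k' E') (IsScalarTower.toAlgHom k E E')))
    (φ : k' ≃ₐ[k] k') (σ : E ≃ₐ[F] E) : E' ≃ₐ[F] E' :=
  AlgEquiv.ofRingEquiv (f := (extAut h φ (σ.restrictScalars k)).toRingEquiv) (by
    intro x
    rw [IsScalarTower.algebraMap_apply F E E']
    show extAut h φ (σ.restrictScalars k) (algebraMap E E' (algebraMap F E x)) = _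
    rw [extAut_base]
    simp)

theorem extAutF_const
    (h : Function.Bijective (Algebra.TensorProduct.productMap
      (IsScalarTower.toAlgHom k k' E') (IsScalarTower.toAlgHom k E E')))
    (φ : k' ≃ₐ[k] k') (σ : E ≃ₐ[F] E) (c : k') :
    extAutF h φ σ (algebraMap k' E' c) = algebraMap k' E' (φ c) :=
  extAut_const h φ (σ.restrictScalars k) c

theorem extAutF_base
    (h : Function.Bijective (Algebra.TensorProduct.productMap
      (IsScalarTower.toAlgHom k k' E') (IsScalarTower.toAlgHom k E E')))
    (φ : k' ≃ₐ[k] k') (σ : E ≃ₐ[F] E) (z : E) :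
    extAutF h φ σ (algebraMap E E' z) = algebraMap E E' (σ z) :=
  extAut_base h φ (σ.restrictScalars k) z

/-- An `F`-automorphism of `E'` is determined by its restrictions to `k'` and `E`. -/
theorem algEquiv_ext_of_tensor
    (h : Function.Bijective (Algebra.TensorProduct.productMap
      (IsScalarTower.toAlgHom k k' E') (IsScalarTower.toAlgHom k E E')))
    (γ₁ γ₂ : E' ≃ₐ[F] E') (hc : ∀ c : k', γ₁ (algebraMap k' E' c) = γ₂ (algebraMap k' E' c))
    (hb : ∀ z : E, γ₁ (algebraMap E E' z) = γ₂ (algebraMap E E' z)) : γ₁ = γ₂ := by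
  have := ringHom_ext_of_tensor h (γ₁ : E' →+* E') (γ₂ : E' →+* E') hc hb
  ext x
  exact RingHom.congr_fun this x

theorem finiteDimensional_tower_tensor [FiniteDimensional k k'] [FiniteDimensional F E]
    (h : Function.Bijective (Algebra.TensorProduct.productMap
      (IsScalarTower.toAlgHom k k' E') (IsScalarTower.toAlgHom k E E'))) :
    FiniteDimensional F E' := by
  haveI : FiniteDimensional E E' := finiteDimensional_of_tensor' h
  exact Module.Finite.trans E E'

/-- `E' = k' E` is Galois over `F` if `E/F` and `k'/k` are. -/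
theorem isGalois_tower_tensor [FiniteDimensional k k'] [IsGalois k k'] [FiniteDimensional F E]
    [IsGalois F E]
    (h : Function.Bijective (Algebra.TensorProduct.productMap
      (IsScalarTower.toAlgHom k k' E') (IsScalarTower.toAlgHom k E E'))) :
    IsGalois F E' := by
  haveI : FiniteDimensional E E' := finiteDimensional_of_tensor' h
  haveI : IsGalois E E' := isGalois_of_tensor h
  haveI : FiniteDimensional F E' := Module.Finite.trans E E'
  apply IsGalois.of_fixedField_eq_bot
  rw [eq_bot_iff]
  intro x hx
  rw [IntermediateField.mem_fixedField_iff] at hx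
  have h1 : ∀ τ : E' ≃ₐ[E] E', τ x = x := fun τ => hx (τ.restrictScalars F) (Subgroup.mem_top _)
  obtain ⟨z, rfl⟩ := (IsGalois.mem_range_algebraMap_iff_fixed x).mpr h1
  have h2 : ∀ σ : E ≃ₐ[F] E, σ z = z := by
    intro σ
    have := hx (extAutF h 1 σ) (Subgroup.mem_top _)
    rw [extAutF_base] at this
    exact (algebraMap E E').injective this
  obtain ⟨y, rfl⟩ := (IsGalois.mem_range_algebraMap_iff_fixed z).mpr h2
  rw [IntermediateField.mem_bot]
  exact ⟨y, IsScalarTower.algebraMap_apply F E E' y⟩

end Groth.Agent.Lib.Helper18.Zeta
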