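import Groth.Agent.Lib.Helper18.Zeta.Finite
import Groth.Agent.Lib.Helper24.FFExt.Inertia
import Mathlib.FieldTheory.Finite.Basic
import Mathlib.RingTheory.Invariant.Basic

/-! # Frobenius elements in the decomposition group (finite constant field) -/

set_option autoImplicit false
set_option linter.style.haveILetI false

namespace Groth.Agent.Lib.Helper18.Zeta

open FunFld WithZero Polynomial Groth.Agent.Lib.Helper18.FF Groth.Agent.Lib.Helper24.FFExt

open scoped Pointwise

variable {k K K' : Type*} [Field k] [Field K] [Field K'] [Algebra k K] [Algebra K K'] [Algebra k K']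
  [IsScalarTower k K K']

/-- Evaluating a polynomial whose coefficients are fixed by the ring endomorphism `f`. -/
theorem eval_map_fixed {R : Type*} [CommRing R] (f : R →+* R) (Φ : R[X])
    (hΦ : ∀ i, f (Φ.coeff i) = Φ.coeff i) (x : R) : Φ.eval (f x) = f (Φ.eval x) := by
  have h1 : Φ.map f = Φ := by
    ext i
    rw [coeff_map, hΦ]
  conv_lhs => rw [← h1, eval_map]
  have := Polynomial.hom_eval₂ Φ (RingHom.id R) f x
  rw [RingHom.comp_id] at this
  rw [← this, eval₂_id]

/-- The Frobenius element: if `deg P ∣ N` there is an element of the decomposition group of `Q | P`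
acting as `w ↦ w^{q^N}` on the residue field. -/
theorem exists_frobenius [Finite k] [FiniteDimensional K K'] [IsGalois K K']
    (hK : IsFunctionField k K) {Q : Place k K'} {P : Place k K} (h : IsOver Q P) (N : ℕ)
    (hN : P.deg ∣ N) :
    ∃ δ : K' ≃ₐ[K] K', placeComap δ Q = Q ∧
      ∀ w : K', Q.1 w ≤ 1 → Q.1 (δ w - w ^ (Nat.card k ^ N)) < 1 := by
  classical
  set L := IsLocalRing.ResidueField Q.O with hL
  set L₀ := IsLocalRing.ResidueField P.O with hL₀
  letI : Algebra L₀ L := (IsLocalRing.ResidueField.map (overRingHom h)).toAlgebra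
  haveI : FiniteDimensional k L := Module.finite_of_finrank_pos (deg_pos_weak hK Q)
  haveI : Finite L := Module.finite_of_finite k
  haveI : Finite L₀ := finite_residueField hK P
  haveI : Fintype L := Fintype.ofFinite L
  haveI : Fintype L₀ := Fintype.ofFinite L₀
  haveI : Fintype k := Fintype.ofFinite k
  -- the `q^N`-Frobenius of `L`
  obtain ⟨p, hp⟩ := CharP.exists k
  haveI := hp
  haveI : Fact p.Prime := ⟨CharP.char_is_prime k p⟩
  obtain ⟨f, hf⟩ : ∃ f : ℕ, Nat.card k = p ^ f := by
    obtain ⟨⟨f, _⟩, hf⟩ := FiniteField.card k p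
    exact ⟨f, by rw [Nat.card_eq_fintype_card]; exact hf.2⟩
  haveI : CharP L p := charP_of_injective_algebraMap (algebraMap k L).injective p
  set frob : L →+* L := iterateFrobenius L p (f * N) with hfrob
  have hfrob_apply : ∀ x : L, frob x = x ^ (Nat.card k ^ N) := by
    intro x
    rw [hfrob, iterateFrobenius_def, hf, ← pow_mul]
  -- elements of `L₀` are fixed
  have hfix₀ : ∀ y : L₀, frob (algebraMap L₀ L y) = algebraMap L₀ L y := by
    intro y
    obtain ⟨r, hr⟩ := hN
    have h1 : y ^ (Nat.card k ^ P.deg) = y := by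
      rw [← natCard_residueField hK P, Nat.card_eq_fintype_card, FiniteField.pow_card]
    have h2 : ∀ j : ℕ, y ^ ((Nat.card k ^ P.deg) ^ j) = y := by
      intro j
      induction j with
      | zero => simp
      | succ j ih => rw [pow_succ, pow_mul, ih, h1]
    rw [hfrob_apply, ← map_pow, hr, pow_mul, h2]
  -- a generator of the multiplicative group
  obtain ⟨ζ, hζ⟩ := IsCyclic.exists_generator (α := Lˣ)
  set D := (Q.O).decompositionSubgroup K with hD
  haveI : Fintype D := Fintype.ofFinite D
  set Φ : L[X] := MulSemiringAction.charpoly D (ζ : L) with hΦ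
  have hcoef : ∀ i, frob (Φ.coeff i) = Φ.coeff i := by
    intro i
    have hmem := fixed_mem_range h (Φ.coeff i) (by
      have hint : IsIntegral L₀ (Φ.coeff i) := Algebra.IsIntegral.isIntegral _
      exact PerfectField.separable_of_irreducible (minpoly.irreducible hint))
      (fun σ => MulSemiringAction.smul_coeff_charpoly (ζ : L) i σ)
    obtain ⟨y, hy⟩ := hmem
    have : algebraMap L₀ L y = Φ.coeff i := hy
    rw [← this, hfix₀]
  have hroot : Φ.eval (frob (ζ : L)) = 0 := by
    rw [eval_map_fixed frob Φ hcoef, hΦ, MulSemiringAction.eval_charpoly, map_zero]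
  rw [hΦ, MulSemiringAction.charpoly_eq, eval_prod, Finset.prod_eq_zero_iff] at hroot
  obtain ⟨σ, -, hσ⟩ := hroot
  rw [eval_sub, eval_X, eval_C, sub_eq_zero] at hσ
  -- `σ` acts as Frobenius on all of `L`
  have hall : ∀ x : L, σ • x = frob x := by
    intro x
    by_cases hx : x = 0
    · rw [hx, smul_zero, map_zero]
    · have hmem : Units.mk0 x hx ∈ Subgroup.zpowers ζ := hζ _
      rw [← mem_powers_iff_mem_zpowers] at hmem
      obtain ⟨j, hj⟩ := hmem
      have hx' : x = (ζ : L) ^ j := by
        have := congrArg Units.val hj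
        simpa using this.symm
      rw [hx', smul_pow', map_pow, hσ]
  refine ⟨σ.1, (mem_decomposition_iff Q σ.1).mp σ.2, fun w hw => ?_⟩
  obtain ⟨hw', hres⟩ := smul_res Q σ w hw
  have hpow : Q.1 (w ^ (Nat.card k ^ N)) ≤ 1 := by
    rw [map_pow]; exact pow_le_one' hw _
  have hle : Q.1 ((σ : K' ≃ₐ[K] K') w - w ^ (Nat.card k ^ N)) ≤ 1 :=
    (Valuation.map_sub _ _ _).trans (max_le hw' hpow)
  rw [← res_eq_zero_iff Q _ hle]
  have h1 : res Q ((σ : K' ≃ₐ[K] K') w - w ^ (Nat.card k ^ N)) hle =
      res Q ((σ : K' ≃ₐ[K] K') w) hw' - (res Q w hw) ^ (Nat.card k ^ N) := by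
    show IsLocalRing.residue Q.O ⟨(σ : K' ≃ₐ[K] K') w - w ^ (Nat.card k ^ N), hle⟩ =
      IsLocalRing.residue Q.O ⟨(σ : K' ≃ₐ[K] K') w, hw'⟩ -
        (IsLocalRing.residue Q.O ⟨w, hw⟩) ^ (Nat.card k ^ N)
    rw [← map_pow, ← map_sub]
    rfl
  rw [h1, ← hres, hall, hfrob_apply, sub_self]

end Groth.Agent.Lib.Helper18.Zeta
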