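import Groth.Agent.Lib.Helper18.Zeta.SchmidtInst
import Mathlib.RingTheory.PowerSeries.Basic

/-! # The functional equation of the zeta function of a function field over a finite field -/

set_option autoImplicit false

namespace Groth.Agent.Lib.Helper18.Zeta

open FunFld WithZero Groth.Agent.Lib.Helper18.FF

universe u v

variable {k : Type u} {K : Type v} [Field k] [Field K] [Algebra k K]

theorem cl0_sub (D E : Divisor k K) (hD : D.deg = 0) (hE : E.deg = 0) :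
    cl0 (D - E) (by rw [deg_sub, hD, hE, sub_self]) = cl0 D hD - cl0 E hE := rfl

theorem ell_eq_zero_of_deg_neg (hK : IsFunctionField k K) (D : Divisor k K) (h : D.deg < 0) :
    ell D = 0 := by
  unfold ell
  rw [L_eq_bot_of_deg_neg hK D h, finrank_bot]

/-- The number of effective divisors of degree `n`, extended by zero to negative `n`. -/
noncomputable def aZ (k : Type u) (K : Type v) [Field k] [Field K] [Algebra k K] (n : ℤ) : ℚ :=
  if 0 ≤ n then (effDivCount k K n.toNat : ℚ) else 0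

theorem aZ_natCast (n : ℕ) : aZ k K (n : ℤ) = effDivCount k K n := by
  unfold aZ
  rw [if_pos (Int.natCast_nonneg n), Int.toNat_natCast]

theorem aZ_of_neg {n : ℤ} (hn : n < 0) : aZ k K n = 0 := by
  unfold aZ
  rw [if_neg (not_le.mpr hn)]

/-- The coefficients of `(1 - t)(1 - q t) Z(t)`, indexed by all integers. -/
noncomputable def cZ (k : Type u) (K : Type v) [Field k] [Field K] [Algebra k K] (n : ℤ) : ℚ :=
  aZ k K n - ((Nat.card k : ℚ) + 1) * aZ k K (n - 1) + (Nat.card k : ℚ) * aZ k K (n - 2)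

theorem cZ_of_neg {n : ℤ} (hn : n < 0) : cZ k K n = 0 := by
  unfold cZ
  rw [aZ_of_neg hn, aZ_of_neg (by omega : n - 1 < 0), aZ_of_neg (by omega : n - 2 < 0)]
  ring

theorem one_lt_card_rat [Finite k] : (1 : ℚ) < (Nat.card k : ℚ) := by
  exact_mod_cast (one_lt_natCard (k := k))

section

variable [Fintype (Cl0 k K)]

/-- The sum of `q ^ ℓ(C)` over the classes `C` of degree `n`. -/
noncomputable def sZ (D₁ : Divisor k K) (n : ℤ) : ℚ :=
  ∑ c : Cl0 k K, (Nat.card k : ℚ) ^ ell (n • D₁ + rep c)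

theorem deg_zsmul_add_rep {D₁ : Divisor k K} (hD₁ : D₁.deg = 1) (n : ℤ) (c : Cl0 k K) :
    (n • D₁ + rep c).deg = n := by
  rw [deg_add, deg_zsmul', hD₁, deg_rep, mul_one, add_zero]

theorem sZ_symm [Finite k] (hK : IsFunctionField k K) {D₁ : Divisor k K} (hD₁ : D₁.deg = 1)
    (n : ℤ) :
    sZ D₁ n = (Nat.card k : ℚ) ^ (n + 1 - genus k K) * sZ D₁ (2 * (genus k K : ℤ) - 2 - n) := by
  obtain ⟨W, hW⟩ := exists_isCanonical hK
  have hq0 : (Nat.card k : ℚ) ≠ 0 := by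
    have : 0 < Nat.card k := Nat.card_pos
    exact_mod_cast this.ne'
  set m : ℤ := 2 * (genus k K : ℤ) - 2 - n with hm
  have hc₀deg : (W - n • D₁ - m • D₁).deg = 0 := by
    rw [deg_sub, deg_sub, deg_canonical hK hW, deg_zsmul', deg_zsmul', hD₁, hm]; ring
  set c₀ : Cl0 k K := cl0 _ hc₀deg with hc₀
  have hterm : ∀ c : Cl0 k K, (Nat.card k : ℚ) ^ ell (n • D₁ + rep c) =
      (Nat.card k : ℚ) ^ (n + 1 - genus k K) *
        (Nat.card k : ℚ) ^ ell (m • D₁ + rep (Equiv.subLeft c₀ c)) := by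
    intro c
    have hrr := riemann_roch hK hW (n • D₁ + rep c)
    rw [deg_zsmul_add_rep hD₁] at hrr
    have hdeg0 : (W - n • D₁ - m • D₁ - rep c).deg = 0 := by
      rw [deg_sub, hc₀deg, deg_rep, sub_zero]
    have h1 : cl0 (W - n • D₁ - m • D₁ - rep c) hdeg0 = c₀ - c := by
      rw [cl0_sub _ _ hc₀deg (deg_rep c), cl0_rep]
    have h2 : cl0 (rep (c₀ - c)) (deg_rep _) = cl0 (W - n • D₁ - m • D₁ - rep c) hdeg0 := by
      rw [cl0_rep, h1]
    obtain ⟨x, hx0, hx⟩ := (cl0_eq_iff hK _ _).mp h2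
    have h3 : W - (n • D₁ + rep c) = m • D₁ + rep (c₀ - c) + FunFld.div k x := by
      have : W - (n • D₁ + rep c) = m • D₁ + (W - n • D₁ - m • D₁ - rep c) := by abel
      rw [this, hx]; abel
    have h4 : ell (W - (n • D₁ + rep c)) = ell (m • D₁ + rep (c₀ - c)) := by
      rw [h3, ell_add_div hK _ hx0]
    rw [Equiv.subLeft_apply, ← h4, ← zpow_natCast, ← zpow_natCast, ← zpow_add₀ hq0, hrr]
  unfold sZ
  rw [Finset.sum_congr rfl fun c _ => hterm c, ← Finset.mul_sum]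
  congr 1
  exact Equiv.sum_comp (Equiv.subLeft c₀) fun c' => (Nat.card k : ℚ) ^ ell (m • D₁ + rep c')

theorem sZ_of_neg (hK : IsFunctionField k K) {D₁ : Divisor k K} (hD₁ : D₁.deg = 1) {n : ℤ}
    (hn : n < 0) : sZ D₁ n = Fintype.card (Cl0 k K) := by
  unfold sZ
  rw [Finset.sum_congr rfl fun c _ => by
    rw [ell_eq_zero_of_deg_neg hK _ (by rw [deg_zsmul_add_rep hD₁]; exact hn), pow_zero]]
  simp

theorem effDivCount_eq_sZ [Finite k] (hK : IsFunctionField k K) {D₁ : Divisor k K}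
    (hD₁ : D₁.deg = 1) (n : ℕ) :
    ((Nat.card k : ℚ) - 1) * (effDivCount k K n : ℚ) = sZ D₁ n - Fintype.card (Cl0 k K) := by
  have h1 := effDivCount_eq_sum hK n ((n : ℤ) • D₁) (by rw [deg_zsmul', hD₁, mul_one])
  have h2 : (((((Nat.card k : ℤ) - 1) * (effDivCount k K n : ℤ) : ℤ)) : ℚ) =
      ((∑ c : Cl0 k K, ((Nat.card k : ℤ) ^ ell ((n : ℤ) • D₁ + rep c) - 1) : ℤ) : ℚ) := by
    rw [h1]
  push_cast at h2
  rw [h2, Finset.sum_sub_distrib]
  unfold sZ
  simp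

theorem aZ_eq_sZ [Finite k] (hK : IsFunctionField k K) {D₁ : Divisor k K}
    (hD₁ : D₁.deg = 1) (n : ℤ) :
    ((Nat.card k : ℚ) - 1) * aZ k K n = sZ D₁ n - Fintype.card (Cl0 k K) := by
  rcases lt_or_ge n 0 with hn | hn
  · rw [aZ_of_neg hn, sZ_of_neg hK hD₁ hn, mul_zero, sub_self]
  · obtain ⟨m, rfl⟩ := Int.eq_ofNat_of_zero_le hn
    rw [aZ_natCast, effDivCount_eq_sZ hK hD₁]

theorem cZ_eq_sZ [Finite k] (hK : IsFunctionField k K) {D₁ : Divisor k K}
    (hD₁ : D₁.deg = 1) (n : ℤ) :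
    ((Nat.card k : ℚ) - 1) * cZ k K n =
      sZ D₁ n - ((Nat.card k : ℚ) + 1) * sZ D₁ (n - 1) + (Nat.card k : ℚ) * sZ D₁ (n - 2) := by
  unfold cZ
  have h0 := aZ_eq_sZ hK hD₁ n
  have h1 := aZ_eq_sZ hK hD₁ (n - 1)
  have h2 := aZ_eq_sZ hK hD₁ (n - 2)
  linear_combination h0 - ((Nat.card k : ℚ) + 1) * h1 + (Nat.card k : ℚ) * h2

/-- The functional equation for the coefficients. -/
theorem cZ_symm [Finite k] (hK : IsFunctionField k K) {D₁ : Divisor k K}
    (hD₁ : D₁.deg = 1) (i : ℤ) :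
    cZ k K (2 * (genus k K : ℤ) - i) = (Nat.card k : ℚ) ^ ((genus k K : ℤ) - i) * cZ k K i := by
  have hq1 : ((Nat.card k : ℚ) - 1) ≠ 0 := by
    have := one_lt_card_rat (k := k); linarith
  have hq0 : (Nat.card k : ℚ) ≠ 0 := by
    have := one_lt_card_rat (k := k); linarith
  apply mul_left_cancel₀ hq1
  set g : ℤ := (genus k K : ℤ) with hg
  set q : ℚ := (Nat.card k : ℚ) with hq
  rw [cZ_eq_sZ hK hD₁]
  have e0 := sZ_symm hK hD₁ (2 * g - i)
  have e1 := sZ_symm hK hD₁ (2 * g - i - 1)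
  have e2 := sZ_symm hK hD₁ (2 * g - i - 2)
  rw [← hg, ← hq] at e0 e1 e2
  have a0 : 2 * g - 2 - (2 * g - i) = i - 2 := by ring
  have a1 : 2 * g - 2 - (2 * g - i - 1) = i - 1 := by ring
  have a2 : 2 * g - 2 - (2 * g - i - 2) = i := by ring
  rw [a0] at e0
  rw [a1] at e1
  rw [a2] at e2
  have p0 : q ^ (2 * g - i + 1 - g) = q ^ (g - i) * q := by
    rw [← zpow_add_one₀ hq0]; congr 1; ring
  have p1 : q ^ (2 * g - i - 1 + 1 - g) = q ^ (g - i) := by congr 1; ring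
  have p2 : q ^ (2 * g - i - 2 + 1 - g) = q ^ (g - i) * q⁻¹ := by
    rw [← zpow_sub_one₀ hq0]; congr 1; ring
  rw [p0] at e0
  rw [p1] at e1
  rw [p2] at e2
  rw [e0, e1, e2]
  have h3 := cZ_eq_sZ hK hD₁ i
  have : q ^ (g - i) * q⁻¹ * sZ D₁ i * q = q ^ (g - i) * sZ D₁ i := by
    field_simp
  calc q ^ (g - i) * q * sZ D₁ (i - 2) - (q + 1) * (q ^ (g - i) * sZ D₁ (i - 1)) +
        q * (q ^ (g - i) * q⁻¹ * sZ D₁ i)
      = q ^ (g - i) * (sZ D₁ i - (q + 1) * sZ D₁ (i - 1) + q * sZ D₁ (i - 2)) := by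
        have : q * (q ^ (g - i) * q⁻¹ * sZ D₁ i) = q ^ (g - i) * sZ D₁ i := by
          field_simp
        rw [this]; ring
    _ = (q - 1) * (q ^ (g - i) * cZ k K i) := by rw [← h3]; ring

end

end Groth.Agent.Lib.Helper18.Zeta
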