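import Groth.Agent.Lib.Helper18.Zeta.Split
import Mathlib.FieldTheory.PrimitiveElement

/-! # A constant field extension by a Galois extension of the constants is Galois -/

set_option autoImplicit false

namespace Groth.Agent.Lib.Helper18.Zeta

open FunFld Groth.Agent.Lib.Helper18.FF Groth.Agent.Lib.Helper24.FFExt

open scoped TensorProduct

universe u u' v v'

variable {k : Type u} {k' : Type u'} {K : Type v} {K' : Type v'} [Field k] [Field k'] [Field K]
  [Field K']
  [Algebra k k'] [Algebra k K] [Algebra K K'] [Algebra k' K'] [Algebra k K']
  [IsScalarTower k k' K'] [IsScalarTower k K K']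

theorem isGalois_of_tensor [FiniteDimensional k k'] [IsGalois k k']
    (h : Function.Bijective (Algebra.TensorProduct.productMap
      (IsScalarTower.toAlgHom k k' K') (IsScalarTower.toAlgHom k K K'))) : IsGalois K K' := by
  obtain ⟨α, hα⟩ := Field.exists_primitive_element k k'
  set g := minpoly k α with hg
  have hint : IsIntegral k α := Algebra.IsIntegral.isIntegral α
  have hg0 : g ≠ 0 := minpoly.ne_zero hint
  have hsep : g.Separable := Algebra.IsSeparable.isSeparable k α
  set α' : K' := algebraMap k' K' α with hα'
  have hmap : (g.map (algebraMap k K)).map (algebraMap K K') =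
      (g.map (algebraMap k k')).map (algebraMap k' K') := by
    rw [Polynomial.map_map, Polynomial.map_map, ← IsScalarTower.algebraMap_eq,
      ← IsScalarTower.algebraMap_eq]
  have hroot : Polynomial.aeval α' (g.map (algebraMap k K)) = 0 := by
    rw [Polynomial.aeval_map_algebraMap, hα', Polynomial.aeval_algebraMap_apply, hg, minpoly.aeval,
      map_zero]
  have hsplit : ((g.map (algebraMap k K)).map (algebraMap K K')).Splits := by
    rw [hmap]
    exact (Normal.splits inferInstance α).map _
  have hmem : α' ∈ (g.map (algebraMap k K)).rootSet K' := by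
    rw [Polynomial.mem_rootSet]
    exact ⟨(Polynomial.map_ne_zero_iff (algebraMap k K).injective).mpr hg0, hroot⟩
  have hk' : ∀ a : k', algebraMap k' K' a ∈ Algebra.adjoin K ({α'} : Set K') := by
    intro a
    have ha : a ∈ (⊤ : IntermediateField k k') := IntermediateField.mem_top
    rw [← hα, ← IntermediateField.mem_toSubalgebra,
      IntermediateField.adjoin_simple_toSubalgebra_of_isAlgebraic hint.isAlgebraic,
      Algebra.adjoin_singleton_eq_range_aeval] at ha
    obtain ⟨p, rfl⟩ := ha
    have : algebraMap k' K' (Polynomial.aeval α p) =
        Polynomial.aeval α' (p.map (algebraMap k K)) := by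
      rw [Polynomial.aeval_map_algebraMap, hα', Polynomial.aeval_algebraMap_apply]
    show algebraMap k' K' (Polynomial.aeval α p) ∈ _
    rw [this]
    exact Polynomial.aeval_mem_adjoin_singleton K α'
  have hadj : Algebra.adjoin K ((g.map (algebraMap k K)).rootSet K') = ⊤ := by
    rw [eq_top_iff]
    rintro z -
    have hle : Algebra.adjoin K ({α'} : Set K') ≤
        Algebra.adjoin K ((g.map (algebraMap k K)).rootSet K') :=
      Algebra.adjoin_mono (Set.singleton_subset_iff.mpr hmem)
    apply hle
    obtain ⟨w, rfl⟩ := h.2 z
    induction w using TensorProduct.induction_on with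
    | zero => simp
    | tmul a b =>
      rw [Algebra.TensorProduct.productMap_apply_tmul]
      exact Subalgebra.mul_mem _ (hk' a) (Subalgebra.algebraMap_mem _ b)
    | add x y hx hy => rw [map_add]; exact Subalgebra.add_mem _ hx hy
  haveI : Polynomial.IsSplittingField K K' (g.map (algebraMap k K)) := ⟨hsplit, hadj⟩
  exact IsGalois.of_separable_splitting_field (p := g.map (algebraMap k K)) hsep.map

end Groth.Agent.Lib.Helper18.Zeta
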