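import Mathlib.FieldTheory.Galois.Basic
import Mathlib.FieldTheory.PrimitiveElement
import Mathlib.FieldTheory.SplittingField.Construction

/-! # A Galois closure of a finite separable extension -/

set_option autoImplicit false
set_option linter.style.haveILetI false

namespace Groth.Agent.Lib.Helper18.Zeta

open Polynomial

universe u v

/-- A finite separable extension `K/F₀` embeds in a finite Galois extension `E/F₀`. -/
theorem exists_galois_closure (F₀ : Type u) (K : Type v) [Field F₀] [Field K] [Algebra F₀ K]
    [FiniteDimensional F₀ K] [Algebra.IsSeparable F₀ K] :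
    ∃ (E : Type v) (_ : Field E) (_ : Algebra K E) (_ : Algebra F₀ E) (_ : IsScalarTower F₀ K E),
      FiniteDimensional K E ∧ FiniteDimensional F₀ E ∧ IsGalois F₀ E := by
  obtain ⟨θ, hθ⟩ := Field.exists_primitive_element F₀ K
  have hint : IsIntegral F₀ θ := Algebra.IsIntegral.isIntegral θ
  have hsep : (minpoly F₀ θ).Separable := Algebra.IsSeparable.isSeparable F₀ θ
  have hne : minpoly F₀ θ ≠ 0 := minpoly.ne_zero hint
  refine ⟨((minpoly F₀ θ).map (algebraMap F₀ K)).SplittingField, inferInstance, inferInstance,
    inferInstance, inferInstance, inferInstance,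
    Module.Finite.trans K ((minpoly F₀ θ).map (algebraMap F₀ K)).SplittingField, ?_⟩
  haveI : IsSplittingField F₀ ((minpoly F₀ θ).map (algebraMap F₀ K)).SplittingField
      (minpoly F₀ θ) := by
    refine ⟨?_, ?_⟩
    · have : (minpoly F₀ θ).map
          (algebraMap F₀ ((minpoly F₀ θ).map (algebraMap F₀ K)).SplittingField) =
          ((minpoly F₀ θ).map (algebraMap F₀ K)).map
            (algebraMap K ((minpoly F₀ θ).map (algebraMap F₀ K)).SplittingField) := by
        rw [Polynomial.map_map, ← IsScalarTower.algebraMap_eq]
      rw [this]
      exact SplittingField.splits _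
    · have hroot : (minpoly F₀ θ).rootSet ((minpoly F₀ θ).map (algebraMap F₀ K)).SplittingField =
          ((minpoly F₀ θ).map (algebraMap F₀ K)).rootSet
            ((minpoly F₀ θ).map (algebraMap F₀ K)).SplittingField := by
        ext x
        rw [Polynomial.mem_rootSet, Polynomial.mem_rootSet, Polynomial.aeval_map_algebraMap]
        constructor
        · rintro ⟨_, h2⟩
          exact ⟨(Polynomial.map_ne_zero_iff (algebraMap F₀ K).injective).mpr hne, h2⟩
        · rintro ⟨_, h2⟩
          exact ⟨hne, h2⟩
      have hadj := SplittingField.adjoin_rootSet ((minpoly F₀ θ).map (algebraMap F₀ K))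
      rw [eq_top_iff]
      rintro z -
      have hz : z ∈ Algebra.adjoin K (((minpoly F₀ θ).map (algebraMap F₀ K)).rootSet
            ((minpoly F₀ θ).map (algebraMap F₀ K)).SplittingField) := by rw [hadj]; trivial
      -- the image of `θ` is a root
      have hθroot : algebraMap K ((minpoly F₀ θ).map (algebraMap F₀ K)).SplittingField θ ∈
          (minpoly F₀ θ).rootSet ((minpoly F₀ θ).map (algebraMap F₀ K)).SplittingField := by
        rw [Polynomial.mem_rootSet]
        refine ⟨hne, ?_⟩
        rw [Polynomial.aeval_algebraMap_apply, minpoly.aeval, map_zero]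
      -- the image of `K` lies in the `F₀`-algebra generated by the roots
      have hK : ∀ x : K, algebraMap K ((minpoly F₀ θ).map (algebraMap F₀ K)).SplittingField x ∈
          Algebra.adjoin F₀
            ((minpoly F₀ θ).rootSet ((minpoly F₀ θ).map (algebraMap F₀ K)).SplittingField) := by
        intro x
        have hx : x ∈ (⊤ : IntermediateField F₀ K) := IntermediateField.mem_top
        rw [← hθ, ← IntermediateField.mem_toSubalgebra,
          IntermediateField.adjoin_simple_toSubalgebra_of_isAlgebraic hint.isAlgebraic,
          Algebra.adjoin_singleton_eq_range_aeval] at hx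
        obtain ⟨P, rfl⟩ := hx
        show algebraMap K _ (Polynomial.aeval θ P) ∈ _
        rw [← Polynomial.aeval_algebraMap_apply]
        exact Algebra.adjoin_mono (Set.singleton_subset_iff.mpr hθroot)
          (Polynomial.aeval_mem_adjoin_singleton F₀ _)
      induction hz using Algebra.adjoin_induction with
      | mem x hx => rw [← hroot] at hx; exact Algebra.subset_adjoin hx
      | algebraMap r => exact hK r
      | add x y _ _ hx hy => exact add_mem hx hy
      | mul x y _ _ hx hy => exact mul_mem hx hy
  exact IsGalois.of_separable_splitting_field hsep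

end Groth.Agent.Lib.Helper18.Zeta
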