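import Groth.Agent.Lib.Helper18.Zeta.Count

/-! # Pairs of effective divisors of `K` as effective divisors of an extension with two
sections of the restriction of places -/

set_option autoImplicit false

namespace Groth.Agent.Lib.Helper18.Zeta

open FunFld WithZero Groth.Agent.Lib.Helper18.FF

universe u v u' v'

variable {k : Type u} {K : Type v} {k' : Type u'} {K' : Type v'} [Field k] [Field K] [Algebra k K]
  [Field k'] [Field K'] [Algebra k' K']

/-- The divisor of `K'` built from two divisors of `K` through two maps on places. -/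
noncomputable def pairDiv (r₁ r₂ : Place k K → Place k' K') (D₁ D₂ : Divisor k K) :
    Divisor k' K' :=
  D₁.mapDomain r₁ + D₂.mapDomain r₂

variable {r₁ r₂ : Place k K → Place k' K'}

theorem pairDiv_apply_left (hr₁ : Function.Injective r₁) (hdisj : ∀ P P', r₁ P ≠ r₂ P')
    (D₁ D₂ : Divisor k K) (P : Place k K) : pairDiv r₁ r₂ D₁ D₂ (r₁ P) = D₁ P := by
  unfold pairDiv
  rw [Finsupp.add_apply, Finsupp.mapDomain_apply hr₁, Finsupp.mapDomain_of_notMem_range _ _
    (by rintro ⟨P', hP'⟩; exact hdisj P P' hP'.symm), add_zero]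

theorem pairDiv_apply_right (hr₂ : Function.Injective r₂) (hdisj : ∀ P P', r₁ P ≠ r₂ P')
    (D₁ D₂ : Divisor k K) (P : Place k K) : pairDiv r₁ r₂ D₁ D₂ (r₂ P) = D₂ P := by
  unfold pairDiv
  rw [Finsupp.add_apply, Finsupp.mapDomain_apply hr₂, Finsupp.mapDomain_of_notMem_range _ _
    (by rintro ⟨P', hP'⟩; exact hdisj P' P hP'), zero_add]

theorem mapDomain_nonneg (r : Place k K → Place k' K') {D : Divisor k K} (hD : 0 ≤ D) :
    0 ≤ D.mapDomain r := by
  unfold Finsupp.mapDomain Finsupp.sum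
  exact Finset.sum_nonneg fun P _ => Finsupp.single_nonneg.mpr (hD P)

theorem pairDiv_nonneg {D₁ D₂ : Divisor k K} (h₁ : 0 ≤ D₁) (h₂ : 0 ≤ D₂) :
    0 ≤ pairDiv r₁ r₂ D₁ D₂ :=
  add_nonneg (mapDomain_nonneg r₁ h₁) (mapDomain_nonneg r₂ h₂)

theorem deg_mapDomain (r : Place k K → Place k' K') (d : ℕ) (hr : ∀ P, d * (r P).deg = P.deg)
    (D : Divisor k K) :
    (d : ℤ) * Divisor.deg (D.mapDomain r : Divisor k' K') = D.deg := by
  unfold Divisor.deg
  rw [Finsupp.sum_mapDomain_index (by intro; simp) (by intro _ _ _; ring), Finsupp.mul_sum]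
  refine Finsupp.sum_congr fun P _ => ?_
  rw [← hr P]; push_cast; ring

theorem deg_pairDiv (d : ℕ) (h₁ : ∀ P, d * (r₁ P).deg = P.deg) (h₂ : ∀ P, d * (r₂ P).deg = P.deg)
    (D₁ D₂ : Divisor k K) : (d : ℤ) * (pairDiv r₁ r₂ D₁ D₂).deg = D₁.deg + D₂.deg := by
  unfold pairDiv
  rw [deg_add, mul_add, deg_mapDomain r₁ d h₁, deg_mapDomain r₂ d h₂]

theorem pairDiv_injective (hr₁ : Function.Injective r₁) (hr₂ : Function.Injective r₂)
    (hdisj : ∀ P P', r₁ P ≠ r₂ P') :
    Function.Injective (fun p : Divisor k K × Divisor k K => pairDiv r₁ r₂ p.1 p.2) := by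
  rintro ⟨D₁, D₂⟩ ⟨D₁', D₂'⟩ hp
  simp only at hp
  refine Prod.ext (Finsupp.ext fun P => ?_) (Finsupp.ext fun P => ?_)
  · show D₁ P = D₁' P
    rw [← pairDiv_apply_left hr₁ hdisj D₁ D₂, hp, pairDiv_apply_left hr₁ hdisj]
  · show D₂ P = D₂' P
    rw [← pairDiv_apply_right hr₂ hdisj D₁ D₂, hp, pairDiv_apply_right hr₂ hdisj]

theorem card_toFinset_effDiv [Finite k] (hK : IsFunctionField k K) (m : ℕ) :
    (finite_effDiv hK m).toFinset.card = effDivCount k K m := by
  rw [effDivCount_eq, ← Set.ncard_eq_toFinset_card _ (finite_effDiv hK m),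
    ← Nat.card_coe_set_eq]
  rfl

/-- With two disjoint injective maps on places dividing degrees by `d`, pairs of effective
divisors of `K` give effective divisors of `K'`. -/
theorem sum_le_effDivCount [Finite k] [Finite k'] (hK : IsFunctionField k K)
    (hK' : IsFunctionField k' K') (d : ℕ) (hd : 0 < d)
    (hr₁ : Function.Injective r₁) (hr₂ : Function.Injective r₂)
    (hdisj : ∀ P P', r₁ P ≠ r₂ P')
    (h₁ : ∀ P, d * (r₁ P).deg = P.deg) (h₂ : ∀ P, d * (r₂ P).deg = P.deg) (n : ℕ) :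
    ∑ j ∈ Finset.range (n + 1), effDivCount k K (d * j) * effDivCount k K (d * (n - j)) ≤
      effDivCount k' K' n := by
  classical
  set E : ℕ → Finset (Divisor k K) := fun m => (finite_effDiv hK m).toFinset with hE
  set E' : Finset (Divisor k' K') := (finite_effDiv hK' n).toFinset with hE'
  have hEmem : ∀ m D, D ∈ E m ↔ 0 ≤ D ∧ D.deg = m := fun m D => by
    rw [hE, Set.Finite.mem_toFinset]; rfl
  have hE'mem : ∀ D, D ∈ E' ↔ 0 ≤ D ∧ D.deg = n := fun D => by
    rw [hE', Set.Finite.mem_toFinset]; rfl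
  have hinj := pairDiv_injective hr₁ hr₂ hdisj
  set I : ℕ → Finset (Divisor k' K') := fun j =>
    ((E (d * j)) ×ˢ (E (d * (n - j)))).image (fun p => pairDiv r₁ r₂ p.1 p.2) with hI
  have hIcard : ∀ j, (I j).card = effDivCount k K (d * j) * effDivCount k K (d * (n - j)) := by
    intro j
    rw [hI, Finset.card_image_of_injective _ hinj, Finset.card_product, hE]
    show (finite_effDiv hK _).toFinset.card * (finite_effDiv hK _).toFinset.card = _
    rw [card_toFinset_effDiv hK, card_toFinset_effDiv hK]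
  have hdisjI : ∀ j ∈ Finset.range (n + 1), ∀ j' ∈ Finset.range (n + 1), j ≠ j' →
      Disjoint (I j) (I j') := by
    intro j _ j' _ hjj'
    rw [Finset.disjoint_left]
    intro D hD hD'
    obtain ⟨p, hp, rfl⟩ := Finset.mem_image.mp hD
    obtain ⟨p', hp', hpp'⟩ := Finset.mem_image.mp hD'
    have hpe := hinj hpp'
    subst hpe
    rw [Finset.mem_product] at hp hp'
    have e1 := ((hEmem _ _).mp hp.1).2
    have e2 := ((hEmem _ _).mp hp'.1).2
    apply hjj'
    have e3 : ((d * j : ℕ) : ℤ) = ((d * j' : ℕ) : ℤ) := e1.symm.trans e2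
    exact Nat.eq_of_mul_eq_mul_left hd (by exact_mod_cast e3)
  have hsub : (Finset.range (n + 1)).biUnion I ⊆ E' := by
    intro D hD
    obtain ⟨j, hj, hDj⟩ := Finset.mem_biUnion.mp hD
    obtain ⟨p, hp, rfl⟩ := Finset.mem_image.mp hDj
    rw [Finset.mem_product] at hp
    obtain ⟨a1, a2⟩ := (hEmem _ _).mp hp.1
    obtain ⟨b1, b2⟩ := (hEmem _ _).mp hp.2
    rw [hE'mem]
    refine ⟨pairDiv_nonneg a1 b1, ?_⟩
    have e := deg_pairDiv d h₁ h₂ p.1 p.2
    rw [a2, b2] at e
    have hjn : j ≤ n := Nat.lt_succ_iff.mp (Finset.mem_range.mp hj)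
    have e' : (d : ℤ) * (pairDiv r₁ r₂ p.1 p.2).deg = (d : ℤ) * n := by
      rw [e]; push_cast [Nat.cast_sub hjn]; ring
    have hd' : (d : ℤ) ≠ 0 := by exact_mod_cast hd.ne'
    exact mul_left_cancel₀ hd' e'
  calc ∑ j ∈ Finset.range (n + 1), effDivCount k K (d * j) * effDivCount k K (d * (n - j))
      = ∑ j ∈ Finset.range (n + 1), (I j).card := Finset.sum_congr rfl fun j _ => (hIcard j).symm
    _ = ((Finset.range (n + 1)).biUnion I).card := (Finset.card_biUnion hdisjI).symm
    _ ≤ E'.card := Finset.card_le_card hsub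
    _ = effDivCount k' K' n := card_toFinset_effDiv hK' n

end Groth.Agent.Lib.Helper18.Zeta
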