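import Groth.Agent.Lib.Helper18.Zeta.ConstExt4

/-! # The `L`-polynomial of a constant field extension -/

set_option autoImplicit false
set_option linter.style.haveILetI false

namespace Groth.Agent.Lib.Helper18.Zeta

open FunFld Groth.Agent.Lib.Helper18.FF

universe u u' v v'

section series

open PowerSeries

theorem theta_sub (f g : ℂ⟦X⟧) : theta (f - g) = theta f - theta g := by
  unfold theta
  rw [map_sub, mul_sub]

/-- A solution of `X Z' = N Z` with `N(0) = 0` is determined by its constant term. -/
theorem eq_of_theta_eq (Z₁ Z₂ N : ℂ⟦X⟧) (h1 : theta Z₁ = N * Z₁) (h2 : theta Z₂ = N * Z₂)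
    (h0 : constantCoeff Z₁ = constantCoeff Z₂) (hN : constantCoeff N = 0) : Z₁ = Z₂ := by
  have hD : theta (Z₁ - Z₂) = N * (Z₁ - Z₂) := by rw [theta_sub, h1, h2, mul_sub]
  have key : ∀ m, coeff m (Z₁ - Z₂) = 0 := by
    intro m
    induction m using Nat.strong_induction_on with
    | _ m ih =>
      rcases Nat.eq_zero_or_pos m with rfl | hm
      · rw [coeff_zero_eq_constantCoeff_apply, map_sub, h0, sub_self]
      · have h := congrArg (coeff m) hD
        rw [coeff_theta, coeff_mul] at h
        have hsum : ∑ p ∈ Finset.antidiagonal m, coeff p.1 N * coeff p.2 (Z₁ - Z₂) = 0 := by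
          refine Finset.sum_eq_zero fun p hp => ?_
          rw [Finset.mem_antidiagonal] at hp
          by_cases hp1 : p.1 = 0
          · rw [hp1, coeff_zero_eq_constantCoeff_apply, hN, zero_mul]
          · rw [ih p.2 (by omega), mul_zero]
        rw [hsum] at h
        exact (mul_eq_zero.mp h).resolve_left (Nat.cast_ne_zero.mpr hm.ne')
  ext m
  have := key m
  rwa [map_sub, sub_eq_zero] at this

theorem theta_quad (q : ℂ) : theta ((1 - C 1 * X) * (1 - C q * X)) =
    -((1 - C 1 * X) * (1 - C q * X) * (geo 1 + geo q)) := by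
  rw [theta_mul, theta_one_sub, theta_one_sub]
  ring

theorem coe_prod_one_sub {ι : Type*} [Fintype ι] (α : ι → ℂ) :
    ((∏ i, (1 - Polynomial.C (α i) * Polynomial.X) : Polynomial ℂ) : PowerSeries ℂ) =
      ∏ i, (1 - C (α i) * X) := by
  rw [← Polynomial.coeToPowerSeries.ringHom_apply, map_prod]
  refine Finset.prod_congr rfl fun i _ => ?_
  rw [Polynomial.coeToPowerSeries.ringHom_apply, Polynomial.coe_sub, Polynomial.coe_one,
    Polynomial.coe_mul, Polynomial.coe_C, Polynomial.coe_X]

end series

theorem map_numerZ (k : Type u) (K : Type v) [Field k] [Field K] [Algebra k K] :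
    PowerSeries.map (Int.castRingHom ℂ) (numerZ k K) =
      (1 - PowerSeries.C (1 : ℂ) * PowerSeries.X) *
        (1 - PowerSeries.C (Nat.card k : ℂ) * PowerSeries.X) * zetaC k K := by
  unfold numerZ zetaC
  simp

/-- `L_{K'}(t) = ∏ (1 - αᵢⁿ t)` for the constant field extension of degree `n`. -/
theorem numerZ_constExt {k : Type u} {K : Type v} {k' : Type u'} {K' : Type v'} [Field k]
    [Finite k] [Field K] [Algebra k K] [Field k'] [Finite k'] [Field K'] [Algebra k k']
    [Algebra K K'] [Algebra k' K']
    (hK : IsFunctionField k K) (hK' : IsFunctionField k' K') (hce : IsConstExt k K k' K')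
    {ι : Type*} [Fintype ι] (α : ι → ℂ)
    (hα : PowerSeries.map (Int.castRingHom ℂ) (numerZ k K) =
      ((∏ i, (1 - Polynomial.C (α i) * Polynomial.X) : Polynomial ℂ) : PowerSeries ℂ)) :
    PowerSeries.map (Int.castRingHom ℂ) (numerZ k' K') =
      ((∏ i, (1 - Polynomial.C (α i ^ Module.finrank k k') * Polynomial.X) : Polynomial ℂ) :
        PowerSeries ℂ) := by
  haveI : FiniteDimensional k k' := Module.Finite.of_finite
  set n := Module.finrank k k' with hn
  have hnpos : 0 < n := Module.finrank_pos
  have hQ : (Nat.card k' : ℂ) = (Nat.card k : ℂ) ^ n := by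
    rw [Module.natCard_eq_pow_finrank (K := k) (V := k')]
    push_cast
    rfl
  rw [coe_prod_one_sub, map_numerZ]
  set A : PowerSeries ℂ := (1 - PowerSeries.C (1 : ℂ) * PowerSeries.X) *
        (1 - PowerSeries.C (Nat.card k' : ℂ) * PowerSeries.X) with hA
  -- the logarithmic derivative
  have hM : NNser hK' - (geo 1 + geo (Nat.card k' : ℂ)) = -∑ i, geo (α i ^ n) := by
    ext r
    rw [map_sub, map_add, map_neg, map_sum, coeff_geo, coeff_geo]
    unfold NNser
    rw [PowerSeries.coeff_mk]
    rcases Nat.eq_zero_or_pos r with rfl | hr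
    · simp [coeff_geo]
    · rw [if_neg hr.ne', if_neg hr.ne', if_neg hr.ne', NN_constExt hK hK' hce r hr,
        NN_eq_of_factorization hK α hα (n * r) (Nat.mul_pos hnpos hr), hQ, one_pow]
      have : ∑ i, PowerSeries.coeff r (geo (α i ^ n)) = ∑ i, α i ^ (n * r) := by
        refine Finset.sum_congr rfl fun i _ => ?_
        rw [coeff_geo, if_neg hr.ne', pow_mul]
      rw [this, ← pow_mul]
      ring
  have h1 : theta (A * zetaC k' K') = (-∑ i, geo (α i ^ n)) * (A * zetaC k' K') := by
    rw [theta_mul, hA, theta_quad, theta_zetaC hK', ← hM]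
    ring
  have h2 : theta (∏ i, (1 - PowerSeries.C (α i ^ n) * PowerSeries.X)) =
      (-∑ i, geo (α i ^ n)) * ∏ i, (1 - PowerSeries.C (α i ^ n) * PowerSeries.X) := by
    rw [theta_prod]
    ring
  refine eq_of_theta_eq _ _ _ h1 h2 ?_ ?_
  · have hz : PowerSeries.constantCoeff (zetaC k' K') = 1 := by
      rw [← PowerSeries.coeff_zero_eq_constantCoeff_apply, coeff_zetaC, effDivCount_zero hK']
      simp
    rw [map_mul, hz, hA, map_prod]
    simp
  · rw [map_neg, map_sum]
    simp [← PowerSeries.coeff_zero_eq_constantCoeff_apply, coeff_geo]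

end Groth.Agent.Lib.Helper18.Zeta
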