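import Mathlib.Analysis.Complex.Basic
import Mathlib.Analysis.SpecificLimits.Basic
import Mathlib.Topology.MetricSpace.ProperSpace
import Mathlib.Topology.Algebra.InfiniteSum.Basic
import Mathlib.Topology.Sequences

/-! # Bounds on power sums bound the summands -/

set_option autoImplicit false

namespace Groth.Agent.Lib.Helper18.Zeta

open Filter Topology

/-- Simultaneous recurrence of finitely many unit complex numbers. -/
theorem exists_pow_near_one {ι : Type*} [Fintype ι] (u : ι → ℂ) (hu : ∀ i, ‖u i‖ = 1)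
    {ε : ℝ} (hε : 0 < ε) (M : ℕ) (hM : 0 < M) :
    ∃ m, M ≤ m ∧ ∀ i, ‖u i ^ m - 1‖ < ε := by
  classical
  set x : ℕ → (ι → ℂ) := fun j i => u i ^ (M * j) with hx
  have hcomp : IsCompact (Set.univ.pi fun _ : ι => Metric.closedBall (0 : ℂ) 1) :=
    isCompact_univ_pi fun _ => isCompact_closedBall _ _
  have hmem : ∀ j, x j ∈ Set.univ.pi fun _ : ι => Metric.closedBall (0 : ℂ) 1 := by
    intro j i _
    rw [mem_closedBall_zero_iff, hx, norm_pow, hu, one_pow]
  obtain ⟨a, -, φ, hφ, hlim⟩ := hcomp.tendsto_subseq hmem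
  have hcau : CauchySeq (x ∘ φ) := hlim.cauchySeq
  rw [Metric.cauchySeq_iff] at hcau
  obtain ⟨N, hN⟩ := hcau ε hε
  have hd := hN (N + 1) (Nat.le_succ N) N le_rfl
  have hlt : φ N < φ (N + 1) := hφ (Nat.lt_succ_self N)
  refine ⟨M * (φ (N + 1) - φ N), Nat.le_mul_of_pos_right _ (Nat.sub_pos_of_lt hlt), fun i => ?_⟩
  have h1 : dist ((x ∘ φ) (N + 1) i) ((x ∘ φ) N i) < ε :=
    lt_of_le_of_lt (dist_le_pi_dist _ _ i) hd
  simp only [Function.comp_apply, hx] at h1
  have h2 : u i ^ (M * φ (N + 1)) - u i ^ (M * φ N) =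
      u i ^ (M * φ N) * (u i ^ (M * (φ (N + 1) - φ N)) - 1) := by
    rw [mul_sub, mul_one, ← pow_add]
    congr 2
    rw [← Nat.mul_add]
    congr 1
    omega
  rw [dist_eq_norm, h2, norm_mul, norm_pow, hu, one_pow, one_mul] at h1
  exact h1

/-- If the power sums `∑ λᵢᵐ` are `O(ρᵐ)` then every `λᵢ` has absolute value at most `ρ`. -/
theorem norm_le_of_powerSum_le {ι : Type*} [Fintype ι] (l : ι → ℂ) (C ρ : ℝ) (hρ : 0 < ρ)
    (h : ∀ m : ℕ, 0 < m → ‖∑ i, l i ^ m‖ ≤ C * ρ ^ m) (i₀ : ι) : ‖l i₀‖ ≤ ρ := by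
  classical
  by_contra hlt
  push Not at hlt
  set R := ‖l i₀‖ with hR
  have hRpos : 0 < R := hρ.trans hlt
  set u : ι → ℂ := fun i => if l i = 0 then 1 else l i / (‖l i‖ : ℂ) with hu
  have hu1 : ∀ i, ‖u i‖ = 1 := by
    intro i
    simp only [hu]
    split_ifs with h0
    · exact norm_one
    · rw [norm_div, Complex.norm_real, norm_norm, div_self (norm_ne_zero_iff.mpr h0)]
  have hratio : 1 < R / ρ := (one_lt_div hρ).mpr hlt
  have htend := tendsto_pow_atTop_atTop_of_one_lt hratio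
  obtain ⟨M, hM⟩ := Filter.eventually_atTop.mp (htend.eventually_gt_atTop (2 * C))
  obtain ⟨m, hmM, hm⟩ := exists_pow_near_one u hu1 (by norm_num : (0 : ℝ) < 1 / 2) (M + 1)
    (Nat.succ_pos M)
  have hmpos : 0 < m := by omega
  have hre : ∀ i, ‖l i‖ ^ m / 2 ≤ (l i ^ m).re := by
    intro i
    by_cases h0 : l i = 0
    · rw [h0, norm_zero, zero_pow hmpos.ne', zero_pow hmpos.ne']; simp
    · have hui : u i = l i / (‖l i‖ : ℂ) := by simp only [hu, if_neg h0]
      have hli : l i = (‖l i‖ : ℂ) * u i := by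
        rw [hui, mul_div_cancel₀]
        exact_mod_cast norm_ne_zero_iff.mpr h0
      have h3 : l i ^ m = ((‖l i‖ ^ m : ℝ) : ℂ) * u i ^ m := by
        conv_lhs => rw [hli, mul_pow]
        push_cast
        rfl
      rw [h3, Complex.re_ofReal_mul]
      have h4 : 1 / 2 ≤ (u i ^ m).re := by
        have h5 := hm i
        have h6 : |(u i ^ m - 1).re| ≤ ‖u i ^ m - 1‖ := Complex.abs_re_le_norm _
        rw [Complex.sub_re, Complex.one_re] at h6
        have := abs_lt.mp (lt_of_le_of_lt h6 h5)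
        linarith [this.1]
      have h7 : 0 ≤ ‖l i‖ ^ m := pow_nonneg (norm_nonneg _) _
      nlinarith
  have hsum : R ^ m / 2 ≤ (∑ i, l i ^ m).re := by
    rw [Complex.re_sum]
    calc R ^ m / 2 = ‖l i₀‖ ^ m / 2 := by rw [hR]
      _ ≤ ∑ i, ‖l i‖ ^ m / 2 :=
        Finset.single_le_sum (f := fun i => ‖l i‖ ^ m / 2)
          (fun i _ => div_nonneg (pow_nonneg (norm_nonneg _) _) (by norm_num)) (Finset.mem_univ i₀)
      _ ≤ ∑ i, (l i ^ m).re := Finset.sum_le_sum fun i _ => hre i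
  have h8 : (∑ i, l i ^ m).re ≤ C * ρ ^ m :=
    (Complex.re_le_norm _).trans (h m hmpos)
  have h9 : 2 * C < (R / ρ) ^ m := hM m (by omega)
  rw [div_pow] at h9
  have hρm : 0 < ρ ^ m := pow_pos hρ m
  rw [lt_div_iff₀ hρm] at h9
  linarith

end Groth.Agent.Lib.Helper18.Zeta
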