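import Mathlib.Algebra.Polynomial.Reverse
import Mathlib.Analysis.Complex.Polynomial.Basic
import Mathlib.Algebra.Polynomial.Roots
import Mathlib.Logic.Equiv.Fin.Basic

/-! # Factorization of a complex polynomial satisfying the functional equation
`P(x) = q^m x^(2m) P(1/(q x))` into pairs of reciprocal linear factors -/

set_option autoImplicit false
set_option linter.style.haveILetI false

namespace Groth.Agent.Lib.Helper18.Zeta

open Polynomial

/-- `x ↦ xⁿ P(1/(q x))` as a polynomial. -/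
noncomputable def U (q : ℂ) (n : ℕ) (P : ℂ[X]) : ℂ[X] := (P.comp (C q⁻¹ * X)).reflect n

theorem natDegree_comp_C_mul_X_le (P : ℂ[X]) (c : ℂ) :
    (P.comp (C c * X)).natDegree ≤ P.natDegree := by
  refine natDegree_comp_le.trans ?_
  calc P.natDegree * (C c * X).natDegree ≤ P.natDegree * 1 :=
        Nat.mul_le_mul_left _ ((natDegree_C_mul_le c X).trans natDegree_X_le)
    _ = _ := mul_one _

theorem eval_U {q : ℂ} {n : ℕ} {P : ℂ[X]} (hP : P.natDegree ≤ n) {x : ℂ} (hx : x ≠ 0) :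
    (U q n P).eval x = x ^ n * P.eval (q⁻¹ * x⁻¹) := by
  unfold U
  haveI : Invertible x⁻¹ := invertibleOfNonzero (inv_ne_zero hx)
  have h := eval₂_reflect_mul_pow (RingHom.id ℂ) x⁻¹ n (P.comp (C q⁻¹ * X))
    ((natDegree_comp_C_mul_X_le P _).trans hP)
  rw [invOf_eq_inv, inv_inv, eval₂_id, eval₂_id, eval_comp] at h
  simp only [eval_mul, eval_C, eval_X] at h
  rw [← h, inv_pow]
  field_simp

/-- An identity `G(x) = c xⁿ G(1/(q x))` valid on an infinite set is valid for all `x ≠ 0`. -/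
theorem ef_of_infinite {q c : ℂ} {n : ℕ} {G : ℂ[X]} (hG : G.natDegree ≤ n) (S : Set ℂ)
    (hS : S.Infinite)
    (h : ∀ x ∈ S, x ≠ 0 ∧ G.eval x = c * x ^ n * G.eval (q⁻¹ * x⁻¹)) :
    G = C c * U q n G ∧ ∀ x : ℂ, x ≠ 0 → G.eval x = c * x ^ n * G.eval (q⁻¹ * x⁻¹) := by
  have h1 : G = C c * U q n G := by
    apply eq_of_infinite_eval_eq
    refine hS.mono ?_
    intro x hx
    obtain ⟨hx0, hx1⟩ := h x hx
    show G.eval x = (C c * U q n G).eval x
    rw [eval_mul, eval_C, eval_U hG hx0, hx1, mul_assoc]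
  refine ⟨h1, fun x hx => ?_⟩
  conv_lhs => rw [h1]
  rw [eval_mul, eval_C, eval_U hG hx, mul_assoc]

/-- The functional equation `P(x) = q^m x^(2m) P(1/(q x))`. -/
def EF (q : ℂ) (m : ℕ) (P : ℂ[X]) : Prop :=
  P.natDegree ≤ 2 * m ∧ ∀ x : ℂ, x ≠ 0 → P.eval x = q ^ m * x ^ (2 * m) * P.eval (q⁻¹ * x⁻¹)

/-- The quadratic factor `(1 - a X)(1 - b X)`. -/
noncomputable def quad (a b : ℂ) : ℂ[X] := (1 - C a * X) * (1 - C b * X)

theorem eval_quad (a b x : ℂ) : (quad a b).eval x = (1 - a * x) * (1 - b * x) := by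
  simp [quad]

theorem quad_ne_zero (a b : ℂ) : quad a b ≠ 0 := by
  intro h
  have := eval_quad a b 0
  rw [h] at this
  simp at this

theorem natDegree_quad {a b : ℂ} (ha : a ≠ 0) (hb : b ≠ 0) : (quad a b).natDegree = 2 := by
  have h1 : (1 - C a * X : ℂ[X]).natDegree = 1 := by
    have : (1 - C a * X : ℂ[X]) = C (-a) * X + C 1 := by simp; ring
    rw [this]
    exact natDegree_linear (neg_ne_zero.mpr ha)
  have h2 : (1 - C b * X : ℂ[X]).natDegree = 1 := by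
    have : (1 - C b * X : ℂ[X]) = C (-b) * X + C 1 := by simp; ring
    rw [this]
    exact natDegree_linear (neg_ne_zero.mpr hb)
  have n1 : (1 - C a * X : ℂ[X]) ≠ 0 := fun h => by rw [h] at h1; simp at h1
  have n2 : (1 - C b * X : ℂ[X]) ≠ 0 := fun h => by rw [h] at h2; simp at h2
  rw [quad, natDegree_mul n1 n2, h1, h2]

theorem quad_ef {a b q : ℂ} (hab : a * b = q) (hq : q ≠ 0) {x : ℂ} (hx : x ≠ 0) :
    (quad a b).eval x = q * x ^ 2 * (quad a b).eval (q⁻¹ * x⁻¹) := by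
  rw [eval_quad, eval_quad]
  subst hab
  have ha : a ≠ 0 := left_ne_zero_of_mul hq
  have hb : b ≠ 0 := right_ne_zero_of_mul hq
  field_simp
  ring

theorem infinite_ne_and_eval_ne (E : ℂ[X]) (hE : E ≠ 0) :
    {x : ℂ | x ≠ 0 ∧ E.eval x ≠ 0}.Infinite := by
  have hfin : {x : ℂ | x = 0 ∨ E.eval x = 0}.Finite := by
    refine Set.Finite.union (Set.finite_singleton 0) ?_
    refine (E.roots.toFinset.finite_toSet).subset ?_
    intro x hx
    rw [Finset.mem_coe, Multiset.mem_toFinset, mem_roots hE]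
    exact hx
  have : {x : ℂ | x ≠ 0 ∧ E.eval x ≠ 0} = {x : ℂ | x = 0 ∨ E.eval x = 0}ᶜ := by
    ext x
    simp only [Set.mem_setOf_eq, Set.mem_compl_iff, not_or]
  rw [this]
  exact hfin.infinite_compl

theorem ef_div {q a b : ℂ} (hq : q ≠ 0) (hab : a * b = q) {m : ℕ} {G : ℂ[X]}
    (h : EF q (m + 1) (quad a b * G)) : EF q m G := by
  have ha : a ≠ 0 := by rintro rfl; exact hq (by rw [← hab, zero_mul])
  have hb : b ≠ 0 := by rintro rfl; exact hq (by rw [← hab, mul_zero])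
  rcases eq_or_ne G 0 with rfl | hG0
  · exact ⟨by simp, fun x _ => by simp⟩
  have hdeg : G.natDegree ≤ 2 * m := by
    have := h.1
    rw [natDegree_mul (quad_ne_zero a b) hG0, natDegree_quad ha hb] at this
    omega
  refine ⟨hdeg, (ef_of_infinite hdeg _ (infinite_ne_and_eval_ne (quad a b) (quad_ne_zero a b))
    ?_).2⟩
  rintro x ⟨hx0, hxE⟩
  refine ⟨hx0, ?_⟩
  have h1 := h.2 x hx0
  rw [eval_mul, eval_mul, quad_ef hab hq hx0] at h1
  rw [quad_ef hab hq hx0] at hxE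
  have hE' : (quad a b).eval (q⁻¹ * x⁻¹) ≠ 0 := right_ne_zero_of_mul hxE
  have hqx : q * x ^ 2 ≠ 0 := left_ne_zero_of_mul hxE
  have h2 : q * x ^ 2 * (quad a b).eval (q⁻¹ * x⁻¹) * G.eval x =
      q * x ^ 2 * (quad a b).eval (q⁻¹ * x⁻¹) * (q ^ m * x ^ (2 * m) * G.eval (q⁻¹ * x⁻¹)) := by
    rw [h1]; ring
  exact mul_left_cancel₀ hxE h2

theorem ef_root {q ρ : ℂ} (hq : q ≠ 0) {m : ℕ} {P : ℂ[X]} (h : EF q m P) (hρ0 : ρ ≠ 0)
    (hρ : P.eval ρ = 0) : P.eval (q⁻¹ * ρ⁻¹) = 0 := by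
  have h1 := h.2 ρ hρ0
  rw [hρ] at h1
  have hne : q ^ m * ρ ^ (2 * m) ≠ 0 := mul_ne_zero (pow_ne_zero _ hq) (pow_ne_zero _ hρ0)
  exact (mul_eq_zero.mp h1.symm).resolve_left hne

theorem ef_double_root {q ρ : ℂ} (hq : q ≠ 0) (hρ : q * ρ ^ 2 = 1) {m : ℕ} {G₁ : ℂ[X]}
    (h : EF q (m + 1) ((X - C ρ) * G₁)) : G₁.eval ρ = 0 := by
  have hρ0 : ρ ≠ 0 := by
    rintro rfl
    simp at hρ
  rcases eq_or_ne G₁ 0 with rfl | hG0
  · simp
  have hXρ : (X - C ρ : ℂ[X]) ≠ 0 := X_sub_C_ne_zero ρ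
  have hdeg : G₁.natDegree ≤ 2 * m + 1 := by
    have := h.1
    rw [natDegree_mul hXρ hG0, natDegree_X_sub_C] at this
    omega
  have hqinv : q⁻¹ = ρ ^ 2 := by
    rw [inv_eq_iff_eq_inv]
    exact eq_inv_of_mul_eq_one_left hρ
  have key := ef_of_infinite (q := q) (c := -ρ * q ^ (m + 1)) hdeg _
    (infinite_ne_and_eval_ne (X - C ρ) hXρ) (by
      rintro x ⟨hx0, hxρ⟩
      refine ⟨hx0, ?_⟩
      rw [eval_sub, eval_X, eval_C] at hxρ
      have h1 := h.2 x hx0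
      rw [eval_mul, eval_mul, eval_sub, eval_X, eval_C, eval_sub, eval_X, eval_C] at h1
      have h2 : q⁻¹ * x⁻¹ - ρ = -ρ * (x - ρ) * x⁻¹ := by
        rw [hqinv]
        field_simp
        ring
      rw [h2] at h1
      have h3 : (x - ρ) * G₁.eval x =
          (x - ρ) * (-ρ * q ^ (m + 1) * x ^ (2 * m + 1) * G₁.eval (q⁻¹ * x⁻¹)) := by
        rw [h1]
        have : x ^ (2 * (m + 1)) = x ^ (2 * m + 1) * x := by ring
        rw [this]
        field_simp
      exact mul_left_cancel₀ hxρ h3)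
  have h4 := key.2 ρ hρ0
  have h5 : q⁻¹ * ρ⁻¹ = ρ := by
    rw [hqinv]
    field_simp
  rw [h5] at h4
  have h6 : -ρ * q ^ (m + 1) * ρ ^ (2 * m + 1) = -1 := by
    have : -ρ * q ^ (m + 1) * ρ ^ (2 * m + 1) = -(q * ρ ^ 2) ^ (m + 1) := by ring
    rw [this, hρ, one_pow]
  rw [h6] at h4
  have h7 : (2 : ℂ) * G₁.eval ρ = 0 := by linear_combination h4
  exact (mul_eq_zero.mp h7).resolve_left two_ne_zero

theorem quad_eq (q ρ : ℂ) (hq : q ≠ 0) (hρ : ρ ≠ 0) :
    quad ρ⁻¹ (q * ρ) = C q * ((X - C ρ) * (X - C (q⁻¹ * ρ⁻¹))) := by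
  apply Polynomial.funext
  intro x
  rw [eval_quad]
  simp only [eval_mul, eval_C, eval_sub, eval_X]
  field_simp
  ring

/-- A polynomial with constant term `1` satisfying the functional equation is a product of
quadratic factors `(1 - a X)(1 - b X)` with `a b = q`. -/
theorem exists_pairs {q : ℂ} (hq : q ≠ 0) : ∀ (m : ℕ) (P : ℂ[X]), EF q m P → P.eval 0 = 1 →
    ∃ β : Fin m → ℂ × ℂ, (∀ j, (β j).1 * (β j).2 = q) ∧ P = ∏ j, quad (β j).1 (β j).2 := by
  intro m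
  induction m with
  | zero =>
    intro P hP h0
    refine ⟨fun j => j.elim0, fun j => j.elim0, ?_⟩
    have h1 : P.natDegree ≤ 0 := hP.1
    rw [eq_C_of_natDegree_le_zero h1] at h0 ⊢
    rw [eval_C] at h0
    rw [h0]
    simp
  | succ m ih =>
    intro P hP h0
    have hP0 : P ≠ 0 := by rintro rfl; simp at h0
    have hdeg : P.degree ≠ 0 := by
      intro hd
      have h1 : P = C (P.coeff 0) := eq_C_of_degree_eq_zero hd
      rw [h1, eval_C] at h0
      rw [h0] at h1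
      have e1 := hP.2 1 one_ne_zero
      have e2 := hP.2 2 two_ne_zero
      rw [h1] at e1 e2
      simp only [eval_C, one_pow, mul_one, map_one, eval_one] at e1 e2
      rw [← e1, one_mul] at e2
      have : ((2 ^ (2 * (m + 1)) : ℕ) : ℂ) = ((1 : ℕ) : ℂ) := by push_cast; exact e2.symm
      have h2 : 2 ^ (2 * (m + 1)) = 1 := by exact_mod_cast this
      have h3 : 1 < 2 ^ (2 * (m + 1)) := Nat.one_lt_two_pow (by omega)
      omega
    obtain ⟨ρ, hρ⟩ := IsAlgClosed.exists_root P hdeg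
    have hρr : P.eval ρ = 0 := hρ
    have hρ0 : ρ ≠ 0 := by
      rintro rfl
      rw [hρr] at h0
      exact zero_ne_one h0
    have hρ' : P.eval (q⁻¹ * ρ⁻¹) = 0 := ef_root hq hP hρ0 hρr
    have hdvd : (X - C ρ) * (X - C (q⁻¹ * ρ⁻¹)) ∣ P := by
      by_cases hne : ρ = q⁻¹ * ρ⁻¹
      · rw [← hne]
        obtain ⟨G₁, hG₁⟩ := dvd_iff_isRoot.mpr hρ
        have hq2 : q * ρ ^ 2 = 1 := by
          have : q * ρ ^ 2 = q * ρ * ρ := by ring
          rw [this]
          nth_rewrite 2 [hne]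
          field_simp
        have h1 : G₁.eval ρ = 0 := ef_double_root hq hq2 (hG₁ ▸ hP)
        obtain ⟨G₂, hG₂⟩ := dvd_iff_isRoot.mpr h1
        exact ⟨G₂, by rw [hG₁, hG₂]; ring⟩
      · have hcop : IsCoprime (X - C ρ) (X - C (q⁻¹ * ρ⁻¹)) :=
          isCoprime_X_sub_C_of_isUnit_sub (sub_ne_zero.mpr hne).isUnit
        exact hcop.mul_dvd (dvd_iff_isRoot.mpr hρ) (dvd_iff_isRoot.mpr hρ')
    have hquad : quad ρ⁻¹ (q * ρ) ∣ P := by
      rw [quad_eq q ρ hq hρ0]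
      exact (IsUnit.mul_left_dvd (isUnit_C.mpr hq.isUnit)).mpr hdvd
    obtain ⟨G, hG⟩ := hquad
    have hab : ρ⁻¹ * (q * ρ) = q := by field_simp
    have hGef : EF q m G := ef_div hq hab (hG ▸ hP)
    have hG0 : G.eval 0 = 1 := by
      rw [hG, eval_mul, eval_quad] at h0
      simpa using h0
    obtain ⟨β', hβ', hGprod⟩ := ih G hGef hG0
    refine ⟨Fin.cons (ρ⁻¹, q * ρ) β', ?_, ?_⟩
    · intro j
      refine Fin.cases ?_ (fun i => ?_) j
      · rw [Fin.cons_zero]; exact hab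
      · rw [Fin.cons_succ]; exact hβ' i
    · rw [Fin.prod_univ_succ, Fin.cons_zero, hG, hGprod]
      simp only [Fin.cons_succ]

/-- The enumeration of `Fin m ⊕ Fin m` by `Fin (2 m)`: first the left copy in order, then the right
copy in reverse order. -/
def pairEquiv (m : ℕ) : Fin m ⊕ Fin m ≃ Fin (2 * m) :=
  ((Equiv.sumCongr (Equiv.refl _) Fin.revPerm).trans finSumFinEquiv).trans
    (finCongr (two_mul m).symm)

theorem pairEquiv_inl_val (m : ℕ) (j : Fin m) : (pairEquiv m (Sum.inl j) : ℕ) = j := by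
  simp [pairEquiv]

theorem pairEquiv_inr_val (m : ℕ) (j : Fin m) : (pairEquiv m (Sum.inr j) : ℕ) = 2 * m - 1 - j := by
  simp [pairEquiv]
  omega

theorem rev_pairEquiv (m : ℕ) (s : Fin m ⊕ Fin m) :
    Fin.rev (pairEquiv m s) = pairEquiv m s.swap := by
  apply Fin.ext
  rw [Fin.val_rev]
  rcases s with j | j
  · rw [Sum.swap_inl, pairEquiv_inl_val, pairEquiv_inr_val]; omega
  · rw [Sum.swap_inr, pairEquiv_inl_val, pairEquiv_inr_val]; omega

theorem exists_recip_roots {q : ℂ} (hq : q ≠ 0) (m : ℕ) (P : ℂ[X]) (hP : EF q m P)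
    (h0 : P.eval 0 = 1) :
    ∃ α : Fin (2 * m) → ℂ, P = ∏ i, (1 - C (α i) * X) ∧ ∀ i, α i * α (Fin.rev i) = q := by
  obtain ⟨β, hβ, hprod⟩ := exists_pairs hq m P hP h0
  set γ : Fin m ⊕ Fin m → ℂ := Sum.elim (fun j => (β j).1) (fun j => (β j).2) with hγ
  refine ⟨fun i => γ ((pairEquiv m).symm i), ?_, ?_⟩
  · rw [hprod]
    have h1 : ∏ i : Fin (2 * m), (1 - C (γ ((pairEquiv m).symm i)) * X) =
        ∏ s : Fin m ⊕ Fin m, (1 - C (γ s) * X) :=
      Equiv.prod_comp (pairEquiv m).symm fun s => (1 - C (γ s) * X : ℂ[X])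
    rw [h1, Fintype.prod_sum_type, ← Finset.prod_mul_distrib]
    rfl
  · intro i
    obtain ⟨s, rfl⟩ := (pairEquiv m).surjective i
    rw [rev_pairEquiv]
    show γ ((pairEquiv m).symm (pairEquiv m s)) * γ ((pairEquiv m).symm (pairEquiv m s.swap)) = q
    rw [Equiv.symm_apply_apply, Equiv.symm_apply_apply]
    rcases s with j | j
    · exact hβ j
    · show (β j).2 * (β j).1 = q
      rw [mul_comm]; exact hβ j
end Groth.Agent.Lib.Helper18.Zeta
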