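import Groth.Agent.Lib.Helper18.Zeta.RecipRoots
import Groth.Agent.Lib.Helper18.Zeta.Numer

/-! # The reciprocal roots of the numerator of the zeta function -/

set_option autoImplicit false
set_option linter.style.haveILetI false

namespace Groth.Agent.Lib.Helper18.Zeta

open FunFld Polynomial Groth.Agent.Lib.Helper18.FF

universe u v

variable {k : Type u} {K : Type v} [Field k] [Field K] [Algebra k K]

theorem coeff_numerPoly (i : ℕ) (hi : i ≤ 2 * genus k K) :
    (numerPoly k K).coeff i = PowerSeries.coeff i (numerZ k K) := by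
  unfold numerPoly
  rw [PowerSeries.coeff_trunc, if_pos (by omega)]

theorem natDegree_numerPoly_lt : (numerPoly k K).natDegree < 2 * genus k K + 1 :=
  PowerSeries.natDegree_trunc_lt _ _

/-- The numerator over `ℂ`. -/
noncomputable def numerC (k : Type u) (K : Type v) [Field k] [Field K] [Algebra k K] : ℂ[X] :=
  (numerPoly k K).map (Int.castRingHom ℂ)

theorem natDegree_numerC_lt : (numerC k K).natDegree < 2 * genus k K + 1 :=
  lt_of_le_of_lt natDegree_map_le natDegree_numerPoly_lt

theorem eval_numerC (x : ℂ) : (numerC k K).eval x =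
    ∑ i ∈ Finset.range (2 * genus k K + 1),
      ((PowerSeries.coeff i (numerZ k K) : ℤ) : ℂ) * x ^ i := by
  rw [eval_eq_sum_range' natDegree_numerC_lt]
  refine Finset.sum_congr rfl fun i hi => ?_
  rw [Finset.mem_range] at hi
  rw [numerC, coeff_map, coeff_numerPoly i (by omega)]
  rfl

theorem numerC_ef [Finite k] (hK : IsFunctionField k K) :
    EF (Nat.card k : ℂ) (genus k K) (numerC k K) := by
  set g := genus k K with hg
  set q : ℂ := (Nat.card k : ℂ) with hq
  have hq0 : q ≠ 0 := by
    have : 0 < Nat.card k := Nat.card_pos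
    rw [hq]; exact_mod_cast this.ne'
  refine ⟨by have := natDegree_numerC_lt (k := k) (K := K); omega, fun x hx => ?_⟩
  rw [eval_numerC, eval_numerC, Finset.mul_sum, ← Finset.sum_range_reflect]
  refine Finset.sum_congr rfl fun i hi => ?_
  rw [Finset.mem_range] at hi
  have hi' : i ≤ 2 * g := by omega
  have e1 : 2 * g + 1 - 1 - i = 2 * g - i := by omega
  rw [e1]
  have hsym := congrArg (Rat.cast : ℚ → ℂ) (coeff_numerZ_symm hK i hi')
  push_cast at hsym
  rw [← hg, ← hq] at hsym
  rw [hsym]
  have e2 : x ^ (2 * g) = x ^ (2 * g - i) * x ^ i := by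
    rw [← pow_add]; congr 1; omega
  have e3 : q ^ ((g : ℤ) - i) = q ^ g * (q ^ i)⁻¹ := by
    rw [zpow_sub₀ hq0, zpow_natCast, zpow_natCast, div_eq_mul_inv]
  rw [e2, e3, mul_pow, inv_pow, inv_pow]
  field_simp

theorem eval_zero_numerC (hK : IsFunctionField k K) : (numerC k K).eval 0 = 1 := by
  rw [← coeff_zero_eq_eval_zero, numerC, coeff_map, coeff_numerPoly 0 (Nat.zero_le _),
    coeff_numerZ_zero, effDivCount_zero hK]
  simp

theorem coe_numerC [Finite k] (hK : IsFunctionField k K) :
    ((numerC k K : ℂ[X]) : PowerSeries ℂ) =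
      PowerSeries.map (Int.castRingHom ℂ) (numerZ k K) := by
  rw [numerC, Polynomial.polynomial_map_coe, coe_numerPoly hK]

/-- The reciprocal roots of the numerator of the zeta function. -/
theorem exists_reciprocal_roots [Finite k] (hK : IsFunctionField k K) :
    ∃ α : Fin (2 * genus k K) → ℂ, (∀ i, IsIntegral ℤ (α i)) ∧
      PowerSeries.map (Int.castRingHom ℂ) (numerZ k K) =
        ((∏ i, (1 - Polynomial.C (α i) * Polynomial.X) : Polynomial ℂ) : PowerSeries ℂ) ∧
      ∀ i, α i * α (Fin.rev i) = (Nat.card k : ℂ) := by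
  have hq0 : (Nat.card k : ℂ) ≠ 0 := by
    have : 0 < Nat.card k := Nat.card_pos
    exact_mod_cast this.ne'
  obtain ⟨α, hprod, hpair⟩ := exists_recip_roots hq0 (genus k K) (numerC k K) (numerC_ef hK)
    (eval_zero_numerC hK)
  refine ⟨α, fun i => ?_, by rw [← coe_numerC hK, hprod], hpair⟩
  have hαi : α i ≠ 0 := left_ne_zero_of_mul (by rw [hpair i]; exact hq0)
  have hroot : (numerC k K).eval (α i)⁻¹ = 0 := by
    rw [hprod, eval_prod]
    refine Finset.prod_eq_zero (Finset.mem_univ i) ?_
    simp [mul_inv_cancel₀ hαi]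
  have h1 : eval₂ (Int.castRingHom ℂ) (α i)⁻¹ (numerPoly k K) = 0 := by
    rw [← eval_map]; exact hroot
  haveI : Invertible (α i)⁻¹ := invertibleOfNonzero (inv_ne_zero hαi)
  have h2 := (eval₂_reverse_eq_zero_iff (Int.castRingHom ℂ) (α i)⁻¹ (numerPoly k K)).mpr h1
  rw [invOf_eq_inv, inv_inv] at h2
  have hc0 : (numerPoly k K).coeff 0 = 1 := by
    rw [coeff_numerPoly 0 (Nat.zero_le _), coeff_numerZ_zero, effDivCount_zero hK]; rfl
  have hmonic : (numerPoly k K).reverse.Monic := by
    rw [Monic, reverse_leadingCoeff, trailingCoeff_eq_coeff_zero (by rw [hc0]; exact one_ne_zero),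
      hc0]
  exact ⟨(numerPoly k K).reverse, hmonic, h2⟩

end Groth.Agent.Lib.Helper18.Zeta
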