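import Groth.Agent.Lib.Helper18.Zeta.ConstExt2
import Groth.Agent.Lib.Helper18.Zeta.Inject

/-! # The recursion `m a(m) = ∑_{j=1}^m N_j a(m - j)` between the numbers of effective divisors and
the numbers `N_j = ∑_{deg P ∣ j} deg P` -/

set_option autoImplicit false
set_option linter.style.haveILetI false

namespace Groth.Agent.Lib.Helper18.Zeta

open FunFld WithZero Groth.Agent.Lib.Helper18.FF

universe u v

theorem sum_range_ite_lt (m : ℕ) (d : ℤ) (h0 : 0 ≤ d) (hm : d ≤ m) :
    (∑ i ∈ Finset.range m, if (i : ℤ) < d then (1 : ℤ) else 0) = d := by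
  obtain ⟨e, rfl⟩ := Int.eq_ofNat_of_zero_le h0
  have hem : e ≤ m := by exact_mod_cast hm
  rw [Finset.sum_boole]
  have : (Finset.range m).filter (fun i : ℕ => (i : ℤ) < (e : ℤ)) = Finset.range e := by
    ext i
    simp only [Finset.mem_filter, Finset.mem_range, Nat.cast_lt]
    omega
  rw [this, Finset.card_range]

/-- Regrouping multiples of `d`. -/
theorem sum_range_mul_eq {M : Type*} [AddCommMonoid M] (m d : ℕ) (hd : 0 < d) (f : ℕ → M) :
    (∑ i ∈ Finset.range m, if (i + 1) * d ≤ m then f ((i + 1) * d) else 0) =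
      ∑ j ∈ Finset.Icc 1 m, if d ∣ j then f j else 0 := by
  rw [← Finset.sum_filter, ← Finset.sum_filter]
  refine Finset.sum_nbij' (fun i => (i + 1) * d) (fun j => j / d - 1) ?_ ?_ ?_ ?_ ?_
  · intro i hi
    rw [Finset.mem_filter, Finset.mem_range] at hi
    rw [Finset.mem_filter, Finset.mem_Icc]
    refine ⟨⟨Nat.mul_pos (Nat.succ_pos i) hd, hi.2⟩, Dvd.intro_left _ rfl⟩
  · intro j hj
    rw [Finset.mem_filter, Finset.mem_Icc] at hj
    obtain ⟨⟨hj1, hjm⟩, c, rfl⟩ := hj
    rw [Finset.mem_filter, Finset.mem_range, Nat.mul_div_cancel_left _ hd]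
    have hc : 0 < c := Nat.pos_of_ne_zero (by rintro rfl; simp at hj1)
    have e : c - 1 + 1 = c := by omega
    rw [e, mul_comm]
    refine ⟨?_, hjm⟩
    have : c ≤ d * c := Nat.le_mul_of_pos_left c hd
    omega
  · intro i _
    show (i + 1) * d / d - 1 = i
    rw [Nat.mul_div_cancel _ hd]; rfl
  · intro j hj
    rw [Finset.mem_filter, Finset.mem_Icc] at hj
    obtain ⟨⟨hj1, -⟩, c, rfl⟩ := hj
    show (d * c / d - 1 + 1) * d = d * c
    rw [Nat.mul_div_cancel_left _ hd]
    have hc : 0 < c := Nat.pos_of_ne_zero (by rintro rfl; simp at hj1)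
    have e : c - 1 + 1 = c := by omega
    rw [e, mul_comm]
  · intro i _
    rfl

variable {k : Type u} {K : Type v} [Field k] [Field K] [Algebra k K] [Finite k]

theorem support_subset_of_effDiv (hK : IsFunctionField k K) {m : ℕ} {D : Divisor k K}
    (hD : 0 ≤ D) (hdeg : D.deg = m) : D.support ⊆ (finite_places_deg_le hK m).toFinset := by
  intro P hP
  rw [Set.Finite.mem_toFinset]
  show P.deg ≤ m
  have h0 : D P ≠ 0 := Finsupp.mem_support_iff.mp hP
  have h1 : 1 ≤ D P := by
    have := hD P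
    simp only [Finsupp.coe_zero, Pi.zero_apply] at this
    omega
  have h2 := mul_deg_le_deg hD P
  rw [hdeg] at h2
  have h3 : (P.deg : ℤ) ≤ m := by nlinarith [Int.natCast_nonneg P.deg]
  exact_mod_cast h3

theorem card_filter_lt (hK : IsFunctionField k K) (m : ℕ) (P : Place k K) (i : ℕ) :
    ((finite_effDiv hK m).toFinset.filter (fun D => (i : ℤ) < D P)).card =
      if (i + 1) * P.deg ≤ m then effDivCount k K (m - (i + 1) * P.deg) else 0 := by
  classical
  split_ifs with h
  · rw [← card_toFinset_effDiv hK (m - (i + 1) * P.deg)]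
    refine Finset.card_nbij' (fun D => D - Finsupp.single P ((i : ℤ) + 1))
      (fun D => D + Finsupp.single P ((i : ℤ) + 1)) ?_ ?_ ?_ ?_
    · intro D hD
      rw [Finset.mem_coe, Finset.mem_filter, Set.Finite.mem_toFinset] at hD
      obtain ⟨⟨hD0, hDdeg⟩, hDP⟩ := hD
      rw [Finset.mem_coe, Set.Finite.mem_toFinset]
      refine ⟨?_, ?_⟩
      · intro Q
        rw [Finsupp.coe_zero, Pi.zero_apply, Finsupp.sub_apply]
        by_cases hQ : Q = P
        · subst hQ; rw [Finsupp.single_eq_same]; omega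
        · rw [Finsupp.single_eq_of_ne hQ, sub_zero]; exact hD0 Q
      · rw [deg_sub, deg_single, hDdeg, Nat.cast_sub h]; push_cast; ring
    · intro D hD
      rw [Finset.mem_coe, Set.Finite.mem_toFinset] at hD
      obtain ⟨hD0, hDdeg⟩ := hD
      rw [Finset.mem_coe, Finset.mem_filter, Set.Finite.mem_toFinset]
      refine ⟨⟨add_nonneg hD0 (Finsupp.single_nonneg.mpr (by omega)), ?_⟩, ?_⟩
      · rw [deg_add, deg_single, hDdeg, Nat.cast_sub h]; push_cast; ring
      · rw [Finsupp.add_apply, Finsupp.single_eq_same]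
        have := hD0 P
        simp only [Finsupp.coe_zero, Pi.zero_apply] at this
        omega
    · intro D _
      exact sub_add_cancel _ _
    · intro D _
      exact add_sub_cancel_right _ _
  · rw [Finset.card_eq_zero, Finset.filter_eq_empty_iff]
    intro D hD hlt
    rw [Set.Finite.mem_toFinset] at hD
    obtain ⟨hD0, hDdeg⟩ := hD
    have h2 := mul_deg_le_deg hD0 P
    rw [hDdeg] at h2
    apply h
    have h3 : ((i : ℤ) + 1) * P.deg ≤ m := by
      have : ((i : ℤ) + 1) * P.deg ≤ D P * P.deg :=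
        mul_le_mul_of_nonneg_right (by omega) (Int.natCast_nonneg _)
      omega
    exact_mod_cast h3

theorem NN_eq (hK : IsFunctionField k K) {m j : ℕ} (hj : j ∈ Finset.Icc 1 m) :
    NN hK j = ∑ P ∈ (finite_places_deg_le hK m).toFinset, if P.deg ∣ j then P.deg else 0 := by
  classical
  rw [Finset.mem_Icc] at hj
  unfold NN
  rw [← Finset.sum_filter]
  refine Finset.sum_congr ?_ fun _ _ => rfl
  ext P
  simp only [Finset.mem_filter, Set.Finite.mem_toFinset, Set.mem_setOf_eq]
  constructor
  · rintro ⟨h1, h2⟩; exact ⟨by omega, h2⟩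
  · rintro ⟨_, h2⟩; exact ⟨Nat.le_of_dvd (by omega) h2, h2⟩

/-- `m a(m) = ∑_{j=1}^m N_j a(m - j)`. -/
theorem recursion (hK : IsFunctionField k K) (m : ℕ) :
    m * effDivCount k K m = ∑ j ∈ Finset.Icc 1 m, NN hK j * effDivCount k K (m - j) := by
  classical
  set E := (finite_effDiv hK m).toFinset with hE
  set S := (finite_places_deg_le hK m).toFinset with hS
  have hEmem : ∀ D, D ∈ E ↔ 0 ≤ D ∧ D.deg = m := fun D => by
    rw [hE, Set.Finite.mem_toFinset]; rfl
  -- first claim, over the integers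
  have claim1 : (m : ℤ) * (E.card : ℤ) =
      ∑ P ∈ S, ∑ i ∈ Finset.range m,
        ((E.filter (fun D => (i : ℤ) < D P)).card : ℤ) * (P.deg : ℤ) := by
    have h1 : (m : ℤ) * (E.card : ℤ) = ∑ D ∈ E, (m : ℤ) := by
      rw [Finset.sum_const, nsmul_eq_mul, mul_comm]
    have h2 : ∀ D ∈ E, (m : ℤ) = ∑ P ∈ S, ∑ i ∈ Finset.range m,
        if (i : ℤ) < D P then (P.deg : ℤ) else 0 := by
      intro D hD
      obtain ⟨hD0, hDdeg⟩ := (hEmem D).mp hD
      rw [← hDdeg, deg_eq_sum_of_support_subset D S (support_subset_of_effDiv hK hD0 hDdeg)]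
      refine Finset.sum_congr rfl fun P _ => ?_
      have hP0 : 0 ≤ D P := by simpa using hD0 P
      have hPm : D P ≤ m := by
        have h3 := mul_deg_le_deg hD0 P
        rw [hDdeg] at h3
        have : (1 : ℤ) ≤ P.deg := by exact_mod_cast deg_pos hK P
        nlinarith
      conv_lhs => rw [← sum_range_ite_lt m (D P) hP0 hPm, Finset.sum_mul]
      refine Finset.sum_congr rfl fun i _ => ?_
      split_ifs <;> simp
    rw [h1, Finset.sum_congr rfl h2, Finset.sum_comm]
    refine Finset.sum_congr rfl fun P _ => ?_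
    rw [Finset.sum_comm]
    refine Finset.sum_congr rfl fun i _ => ?_
    rw [← Finset.sum_filter, Finset.sum_const, nsmul_eq_mul]
  -- second claim, over the naturals
  have claim2 : ∑ P ∈ S, ∑ i ∈ Finset.range m,
      (E.filter (fun D => (i : ℤ) < D P)).card * P.deg =
      ∑ j ∈ Finset.Icc 1 m, NN hK j * effDivCount k K (m - j) := by
    have h1 : ∀ P ∈ S, ∑ i ∈ Finset.range m,
        (E.filter (fun D => (i : ℤ) < D P)).card * P.deg =
        ∑ j ∈ Finset.Icc 1 m, if P.deg ∣ j then effDivCount k K (m - j) * P.deg else 0 := by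
      intro P _
      rw [← sum_range_mul_eq m P.deg (deg_pos hK P) (fun j => effDivCount k K (m - j) * P.deg)]
      refine Finset.sum_congr rfl fun i _ => ?_
      rw [card_filter_lt hK m P i]
      split_ifs <;> simp
    rw [Finset.sum_congr rfl h1, Finset.sum_comm]
    refine Finset.sum_congr rfl fun j hj => ?_
    rw [NN_eq hK hj, Finset.sum_mul]
    refine Finset.sum_congr rfl fun P _ => ?_
    split_ifs
    · rw [mul_comm]
    · rw [zero_mul]
  have h3 : ((m * effDivCount k K m : ℕ) : ℤ) =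
      ((∑ j ∈ Finset.Icc 1 m, NN hK j * effDivCount k K (m - j) : ℕ) : ℤ) := by
    rw [← claim2, ← card_toFinset_effDiv hK m]
    push_cast
    exact claim1
  exact_mod_cast h3

end Groth.Agent.Lib.Helper18.Zeta
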