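import Groth.Agent.Lib.Helper18.Zeta.Galois
import Groth.Agent.Lib.Helper18.Zeta.Inject
import Groth.Agent.Lib.Helper18.FF.Degree2

/-! # F. K. Schmidt's theorem: the core contradiction -/

set_option autoImplicit false

namespace Groth.Agent.Lib.Helper18.Zeta

open FunFld WithZero Groth.Agent.Lib.Helper18.FF Groth.Agent.Lib.Helper24.FFExt

open scoped TensorProduct

universe u v

section bounds

variable {k : Type u} {K : Type v} [Field k] [Field K] [Algebra k K]

theorem classNum_pos [Finite k] (hK : IsFunctionField k K) : 0 < classNum k K := by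
  haveI := finite_Cl0 hK
  unfold classNum
  exact Nat.card_pos

theorem le_effDivCount [Finite k] (hK : IsFunctionField k K) (m : ℕ)
    (hm : 2 * genus k K ≤ m) (B : Divisor k K) (hB : B.deg = m) :
    Nat.card k ^ (m - genus k K) ≤ effDivCount k K m := by
  have h1 := effDivCount_of_large hK m (by omega) B hB
  have hq : (2 : ℤ) ≤ (Nat.card k : ℤ) := by exact_mod_cast (one_lt_natCard (k := k))
  have hh : (1 : ℤ) ≤ (classNum k K : ℤ) := by exact_mod_cast classNum_pos hK
  have he : m + 1 - genus k K = (m - genus k K) + 1 := by omega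
  rw [he, pow_succ] at h1
  set A : ℤ := (Nat.card k : ℤ) ^ (m - genus k K) with hA
  have hA1 : (1 : ℤ) ≤ A := one_le_pow₀ (by linarith)
  have h2 : ((Nat.card k : ℤ) - 1) * A ≤ ((Nat.card k : ℤ) - 1) * (effDivCount k K m : ℤ) := by
    rw [h1]
    have : (0 : ℤ) ≤ A * (Nat.card k : ℤ) - 1 := by nlinarith
    nlinarith
  have h3 : A ≤ (effDivCount k K m : ℤ) := le_of_mul_le_mul_left h2 (by linarith)
  rw [hA] at h3
  exact_mod_cast h3

theorem effDivCount_le [Finite k] (hK : IsFunctionField k K) (n : ℕ)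
    (hn : 2 * genus k K ≤ n + 1) :
    effDivCount k K n ≤ classNum k K * Nat.card k ^ (n + 1) := by
  by_cases hex : ∃ B : Divisor k K, B.deg = n
  · obtain ⟨B, hB⟩ := hex
    have h1 := effDivCount_of_large hK n hn B hB
    have hq : (2 : ℤ) ≤ (Nat.card k : ℤ) := by exact_mod_cast (one_lt_natCard (k := k))
    have hh : (0 : ℤ) ≤ (classNum k K : ℤ) := Int.natCast_nonneg _
    have ha : (0 : ℤ) ≤ (effDivCount k K n : ℤ) := Int.natCast_nonneg _
    have hpow : (Nat.card k : ℤ) ^ (n + 1 - genus k K) ≤ (Nat.card k : ℤ) ^ (n + 1) :=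
      pow_le_pow_right₀ (by linarith) (Nat.sub_le _ _)
    have h2 : (effDivCount k K n : ℤ) ≤ (classNum k K : ℤ) * (Nat.card k : ℤ) ^ (n + 1) := by
      have h3 : (effDivCount k K n : ℤ) ≤ ((Nat.card k : ℤ) - 1) * (effDivCount k K n : ℤ) := by
        nlinarith
      have h4 : (classNum k K : ℤ) * ((Nat.card k : ℤ) ^ (n + 1 - genus k K) - 1) ≤
          (classNum k K : ℤ) * (Nat.card k : ℤ) ^ (n + 1) := by
        apply mul_le_mul_of_nonneg_left _ hh
        linarith
      linarith
    exact_mod_cast h2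
  · rw [effDivCount_eq_zero n hex]
    exact Nat.zero_le _

end bounds

variable {k k' : Type u} {K K' : Type v} [Field k] [Field k'] [Field K] [Field K']
  [Algebra k k'] [Algebra k K] [Algebra K K'] [Algebra k' K'] [Algebra k K']
  [IsScalarTower k k' K'] [IsScalarTower k K K']

/-- If every place of `K` has degree divisible by `d = [k' : k] ≥ 2`, the constant field extension
`K' = k' K` has too many effective divisors. -/
theorem schmidt_core [Finite k] [Finite k'] [FiniteDimensional k k']
    (h : Function.Bijective (Algebra.TensorProduct.productMap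
      (IsScalarTower.toAlgHom k k' K') (IsScalarTower.toAlgHom k K K')))
    (hK : IsFunctionField k K) (hK' : IsFunctionField k' K')
    (hd2 : 2 ≤ Module.finrank k k') (hdvd : ∀ P : Place k K, Module.finrank k k' ∣ P.deg)
    (hex : ∃ D : Divisor k K, D.deg = Module.finrank k k') : False := by
  classical
  haveI : IsGalois k k' := inferInstance
  haveI : Algebra.IsAlgebraic k k' := Algebra.IsAlgebraic.of_finite k k'
  haveI := finiteDimensional_of_tensor h
  haveI := isGalois_of_tensor h
  set d := Module.finrank k k' with hd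
  have hfr : Module.finrank K K' = d := finrank_of_tensor h
  have hpair : ∀ P : Place k K, ∃ Q₁ Q₂ : Place k K', IsOver Q₁ P ∧ IsOver Q₂ P ∧ Q₁ ≠ Q₂ := by
    intro P
    obtain ⟨hc, -⟩ := card_isOver_of_dvd h hK P (hdvd P)
    haveI : Finite {Q : Place k K' // IsOver Q P} := (finite_isOver (K' := K') hK P).to_subtype
    have h1 : 1 < Nat.card {Q : Place k K' // IsOver Q P} := by rw [hc, hfr]; omega
    haveI := Finite.one_lt_card_iff_nontrivial.mp h1
    obtain ⟨Q₁, Q₂, hne⟩ := exists_pair_ne {Q : Place k K' // IsOver Q P}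
    exact ⟨Q₁.1, Q₂.1, Q₁.2, Q₂.2, fun h => hne (Subtype.ext h)⟩
  choose q₁ q₂ ho₁ ho₂ hne using hpair
  set r₁ : Place k K → Place k' K' := fun P => toAlg k' (q₁ P) with hr₁
  set r₂ : Place k K → Place k' K' := fun P => toAlg k' (q₂ P) with hr₂
  have hinj₁ : Function.Injective r₁ := by
    intro P P' hPP'
    have h1 : q₁ P = q₁ P' := toAlg_injective k' hPP'
    have h2 := ho₁ P'
    rw [← h1] at h2
    exact isOver_unique (ho₁ P) h2
  have hinj₂ : Function.Injective r₂ := by
    intro P P' hPP'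
    have h1 : q₂ P = q₂ P' := toAlg_injective k' hPP'
    have h2 := ho₂ P'
    rw [← h1] at h2
    exact isOver_unique (ho₂ P) h2
  have hdisj : ∀ P P', r₁ P ≠ r₂ P' := by
    intro P P' hPP'
    have h1 : q₁ P = q₂ P' := toAlg_injective k' hPP'
    have h2 := ho₂ P'
    rw [← h1] at h2
    have h3 : P = P' := isOver_unique (ho₁ P) h2
    subst h3
    exact hne P h1
  have hdeg₁ : ∀ P, d * (r₁ P).deg = P.deg := by
    intro P
    rw [← (card_isOver_of_dvd h hK P (hdvd P)).2 _ (ho₁ P), deg_eq_mul_deg_toAlg k' (q₁ P)]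
  have hdeg₂ : ∀ P, d * (r₂ P).deg = P.deg := by
    intro P
    rw [← (card_isOver_of_dvd h hK P (hdvd P)).2 _ (ho₂ P), deg_eq_mul_deg_toAlg k' (q₂ P)]
  have hdpos : 0 < d := by omega
  have key := sum_le_effDivCount hK hK' d hdpos hinj₁ hinj₂ hdisj hdeg₁ hdeg₂
  -- growth
  obtain ⟨D₀, hD₀⟩ := hex
  set g := genus k K with hg
  set g' := genus k' K' with hg'
  set q := Nat.card k with hq
  have hq1 : 1 ≤ q := Nat.card_pos
  have hQ : Nat.card k' = q ^ d := Module.natCard_eq_pow_finrank (K := k) (V := k')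
  set M := classNum k' K' * q ^ (d + 2 * g) with hM
  set n := 4 * g + M + 2 * g' with hn
  have hlow : ∀ j, 2 * g ≤ j → q ^ (d * j - g) ≤ effDivCount k K (d * j) := by
    intro j hj
    have hdj : j ≤ d * j := Nat.le_mul_of_pos_left j hdpos
    refine le_effDivCount hK (d * j) (by omega) (j • D₀) ?_
    rw [deg_nsmul, hD₀]; push_cast; ring
  have h1 := key n
  have h2 : effDivCount k' K' n ≤ classNum k' K' * (q ^ d) ^ (n + 1) := by
    rw [← hQ]
    exact effDivCount_le hK' n (by omega)
  have h3 : (n + 1 - 4 * g) * q ^ (d * n - 2 * g) ≤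
      ∑ j ∈ Finset.range (n + 1), effDivCount k K (d * j) * effDivCount k K (d * (n - j)) := by
    have hsub : Finset.Icc (2 * g) (n - 2 * g) ⊆ Finset.range (n + 1) := by
      intro j hj
      rw [Finset.mem_Icc] at hj
      rw [Finset.mem_range]
      omega
    refine le_trans ?_ (Finset.sum_le_sum_of_subset hsub)
    have hcard : (Finset.Icc (2 * g) (n - 2 * g)).card = n + 1 - 4 * g := by
      rw [Nat.card_Icc]; omega
    rw [← hcard, ← smul_eq_mul]
    refine Finset.card_nsmul_le_sum _ _ _ fun j hj => ?_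
    rw [Finset.mem_Icc] at hj
    have e1 := hlow j hj.1
    have e2 := hlow (n - j) (by omega)
    have e3 : d * j + d * (n - j) = d * n := by
      rw [← Nat.mul_add, Nat.add_sub_cancel' (by omega)]
    have e4 : j ≤ d * j := Nat.le_mul_of_pos_left j hdpos
    have e5 : n - j ≤ d * (n - j) := Nat.le_mul_of_pos_left _ hdpos
    have e6 : d * n - 2 * g = (d * j - g) + (d * (n - j) - g) := by omega
    rw [e6, pow_add]
    exact Nat.mul_le_mul e1 e2
  have h4 : (n + 1 - 4 * g) * q ^ (d * n - 2 * g) ≤ classNum k' K' * (q ^ d) ^ (n + 1) :=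
    h3.trans (h1.trans h2)
  have e7 : n ≤ d * n := Nat.le_mul_of_pos_left n hdpos
  have h5 : (n + 1 - 4 * g) * q ^ (d * n) ≤ M * q ^ (d * n) := by
    have e8 : d * n = (d * n - 2 * g) + 2 * g := by omega
    have e9 : (q ^ d) ^ (n + 1) * q ^ (2 * g) = q ^ (d + 2 * g) * q ^ (d * n) := by
      rw [← pow_mul, ← pow_add, ← pow_add]
      congr 1
      ring
    calc (n + 1 - 4 * g) * q ^ (d * n)
        = (n + 1 - 4 * g) * q ^ (d * n - 2 * g) * q ^ (2 * g) := by
          conv_lhs => rw [e8, pow_add]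
          ring
      _ ≤ classNum k' K' * (q ^ d) ^ (n + 1) * q ^ (2 * g) := Nat.mul_le_mul_right _ h4
      _ = M * q ^ (d * n) := by rw [hM, mul_assoc, e9]; ring
  have h6 : n + 1 - 4 * g ≤ M := Nat.le_of_mul_le_mul_right h5 (Nat.pow_pos hq1)
  omega

end Groth.Agent.Lib.Helper18.Zeta
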