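import Groth.Agent.Lib.Helper24.FFExt.Weak3
import Groth.Agent.Lib.Helper24.FFExt.Geometric
import Groth.Agent.Lib.Helper24.FFExt.SepPlace
import Groth.Agent.Lib.Helper18.Zeta.Finite
import Mathlib.FieldTheory.Finite.GaloisField

/-! # Places that split completely in a constant field extension of a function field over a
finite field -/

set_option autoImplicit false

namespace Groth.Agent.Lib.Helper18.Zeta

section
open Polynomial
/-- Two ring homomorphisms from a finite field to a field have the same image. -/
theorem exists_eq_of_ringHom {F Ω : Type*} [Field F] [Finite F] [Field Ω] (φ₁ φ₂ : F →+* Ω)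
    (c : F) : ∃ c' : F, φ₂ c' = φ₁ c := by
  have := Fintype.ofFinite F
  have hs : (X ^ Fintype.card F - X : Polynomial F).Splits := by
    have := Polynomial.splits_X_pow_nat_card_sub_X (K := F)
    rwa [Nat.card_eq_fintype_card] at this
  have h1 := hs.roots_map φ₂
  rw [FiniteField.roots_X_pow_card_sub_X] at h1
  have h0 : (X ^ Fintype.card F - X : Polynomial Ω) ≠ 0 :=
    FiniteField.X_pow_card_sub_X_ne_zero Ω Fintype.one_lt_card
  have h2 : φ₁ c ∈ ((X ^ Fintype.card F - X : Polynomial F).map φ₂).roots := by
    rw [mem_roots (by simpa using h0)]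
    simp [← map_pow, FiniteField.pow_card]
  rw [h1] at h2
  simpa using h2

end

open FunFld WithZero Polynomial Groth.Agent.Lib.Helper18.FF Groth.Agent.Lib.Helper24.FFExt

open scoped TensorProduct Pointwise

universe u u' v v'

variable {k : Type u} {k' : Type u'} {K : Type v} {K' : Type v'} [Field k] [Field k'] [Field K]
  [Field K']
  [Algebra k k'] [Algebra k K] [Algebra K K'] [Algebra k' K'] [Algebra k K']
  [IsScalarTower k k' K'] [IsScalarTower k K K']

/-- An automorphism of `K' = k' K` over `K` fixing `k'` is the identity. -/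
theorem aut_eq_one_of_fixes
    (h : Function.Bijective (Algebra.TensorProduct.productMap
      (IsScalarTower.toAlgHom k k' K') (IsScalarTower.toAlgHom k K K')))
    (σ : K' ≃ₐ[K] K') (hσ : ∀ c : k', σ (algebraMap k' K' c) = algebraMap k' K' c) : σ = 1 := by
  ext z
  rw [AlgEquiv.one_apply]
  obtain ⟨w, rfl⟩ := h.2 z
  induction w using TensorProduct.induction_on with
  | zero => simp
  | tmul a b =>
    simp only [Algebra.TensorProduct.productMap_apply_tmul, IsScalarTower.coe_toAlgHom', map_mul,
      hσ, σ.commutes]
  | add x y hx hy => rw [map_add, map_add, hx, hy]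

theorem finrank_of_tensor [FiniteDimensional k k']
    (h : Function.Bijective (Algebra.TensorProduct.productMap
      (IsScalarTower.toAlgHom k k' K') (IsScalarTower.toAlgHom k K K'))) :
    Module.finrank K K' = Module.finrank k k' := by
  let μ : K ⊗[k] k' →ₐ[K] K' :=
    Algebra.TensorProduct.productLeftAlgHom (Algebra.ofId K K') (IsScalarTower.toAlgHom k k' K')
  have hμ : ∀ w : k' ⊗[k] K, μ (Algebra.TensorProduct.comm k k' K w) =
      Algebra.TensorProduct.productMap (IsScalarTower.toAlgHom k k' K')
        (IsScalarTower.toAlgHom k K K') w := by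
    intro w
    induction w using TensorProduct.induction_on with
    | zero => simp
    | tmul a b => simp [μ, mul_comm]
    | add x y hx hy => rw [map_add, map_add, hx, hy, map_add]
  have hbij : Function.Bijective μ := by
    have : (μ : K ⊗[k] k' → K') = (Algebra.TensorProduct.productMap
        (IsScalarTower.toAlgHom k k' K') (IsScalarTower.toAlgHom k K K')) ∘
          (Algebra.TensorProduct.comm k k' K).symm := by
      funext w
      rw [Function.comp_apply, ← hμ, AlgEquiv.apply_symm_apply]
    rw [this]
    exact h.comp (Algebra.TensorProduct.comm k k' K).symm.bijective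
  rw [← (LinearEquiv.ofBijective μ.toLinearMap hbij).finrank_eq, Module.finrank_baseChange]

/-- A nonzero element algebraic over the constants is a unit at every place. -/
theorem val_eq_one_of_isIntegral (Q : Place k K') {z : K'} (hz : IsIntegral k z) (h0 : z ≠ 0) :
    Q.1 z = 1 := by
  have h1 : Q.1 z ≤ 1 := val_le_one_of_isIntegral (K := k) Q.1 Q.2.1 hz
  have h2 : Q.1 z⁻¹ ≤ 1 := val_le_one_of_isIntegral (K := k) Q.1 Q.2.1 hz.inv
  rw [map_inv₀] at h2
  have h3 : Q.1 z ≠ 0 := (Valuation.ne_zero_iff _).mpr h0
  have h4 : 1 ≤ Q.1 z := by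
    by_contra hlt
    push Not at hlt
    have : 1 < (Q.1 z)⁻¹ := (one_lt_inv₀ (zero_lt_iff.mpr h3)).mpr hlt
    exact absurd h2 (not_le.mpr this)
  exact le_antisymm h1 h4

section split

variable [Finite k] [Finite k']

theorem val_const_le_one [FiniteDimensional k k'] (Q : Place k K') (c : k') :
    Q.1 (algebraMap k' K' c) ≤ 1 :=
  val_le_one_of_isIntegral (K := k) Q.1 Q.2.1
    ((Algebra.IsIntegral.isIntegral (R := k) c).algebraMap)

/-- If `[k' : k]` divides `deg P`, every constant of `k'` is congruent modulo `Q` to a function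
of `K` regular at `P`. -/
theorem exists_approx_const [FiniteDimensional k k'] (hK : IsFunctionField k K) {P : Place k K}
    {Q : Place k K'} (hQP : IsOver Q P) (hdvd : Module.finrank k k' ∣ P.deg) (c : k') :
    ∃ a : K, P.1 a ≤ 1 ∧ Q.1 (algebraMap k' K' c - algebraMap K K' a) < 1 := by
  haveI := finite_residueField hK P
  obtain ⟨ι⟩ := @FiniteField.nonempty_algHom_of_finrank_dvd k k' (IsLocalRing.ResidueField P.O)
    _ _ _ _ (Place.algRes P) _ hdvd
  have hk' : ∀ c : k', Q.1 (algebraMap k' K' c) ≤ 1 := val_const_le_one Q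
  let φ₁ : k' →+* IsLocalRing.ResidueField Q.O :=
    (IsLocalRing.residue Q.O).comp ((algebraMap k' K').codRestrict Q.O.toSubring hk')
  let φ₂ : k' →+* IsLocalRing.ResidueField Q.O :=
    (IsLocalRing.ResidueField.map (overRingHom hQP)).comp ι.toRingHom
  obtain ⟨c', hc'⟩ := exists_eq_of_ringHom φ₁ φ₂ c
  obtain ⟨a, ha⟩ := IsLocalRing.residue_surjective (ι c')
  refine ⟨a.1, a.2, ?_⟩
  have h1 : IsLocalRing.residue Q.O
      ((algebraMap k' K').codRestrict Q.O.toSubring hk' c - overRingHom hQP a) = 0 := by
    rw [map_sub, sub_eq_zero]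
    have h2 : IsLocalRing.residue Q.O (overRingHom hQP a) =
        IsLocalRing.ResidueField.map (overRingHom hQP) (IsLocalRing.residue P.O a) :=
      (IsLocalRing.ResidueField.map_residue _ _).symm
    rw [h2, ha]
    exact hc'.symm
  rw [IsLocalRing.residue_eq_zero_iff] at h1
  exact (Valuation.mem_maximalIdeal_iff (v := Q.1)).mp h1

/-- If `[k' : k]` divides `deg P`, the decomposition group of a place above `P` is trivial. -/
theorem decomposition_eq_bot [FiniteDimensional k k']
    (h : Function.Bijective (Algebra.TensorProduct.productMap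
      (IsScalarTower.toAlgHom k k' K') (IsScalarTower.toAlgHom k K K')))
    (hK : IsFunctionField k K) {P : Place k K} {Q : Place k K'} (hQP : IsOver Q P)
    (hdvd : Module.finrank k k' ∣ P.deg) : (Q.O).decompositionSubgroup K = ⊥ := by
  rw [Subgroup.eq_bot_iff_forall]
  intro σ hσ
  have hσ' := (mem_decomposition_iff Q σ).mp hσ
  have hval : ∀ x : K', Q.1 (σ x) = Q.1 x := fun x => by rw [← placeComap_val, hσ']
  apply aut_eq_one_of_fixes h
  intro c
  obtain ⟨a, -, hca⟩ := exists_approx_const hK hQP hdvd c
  have h1 : Q.1 (σ (algebraMap k' K' c) - algebraMap K K' a) < 1 := by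
    rw [← σ.commutes a, ← map_sub, hval]; exact hca
  have h2 : Q.1 (σ (algebraMap k' K' c) - algebraMap k' K' c) < 1 := by
    have : σ (algebraMap k' K' c) - algebraMap k' K' c =
        (σ (algebraMap k' K' c) - algebraMap K K' a) -
          (algebraMap k' K' c - algebraMap K K' a) := by ring
    rw [this]
    exact lt_of_le_of_lt (Valuation.map_sub _ _ _) (max_lt h1 hca)
  by_contra hne
  have h0 : σ (algebraMap k' K' c) - algebraMap k' K' c ≠ 0 := sub_ne_zero.mpr hne
  have hc_int : IsIntegral k (algebraMap k' K' c) :=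
    (Algebra.IsIntegral.isIntegral (R := k) c).algebraMap
  have hσc_int : IsIntegral k (σ (algebraMap k' K' c)) := hc_int.map σ
  have := val_eq_one_of_isIntegral Q (hσc_int.sub hc_int) h0
  rw [this] at h2
  exact lt_irrefl _ h2

/-- If `[k' : k]` divides `deg P`, there are exactly `[K' : K]` places above `P`, all of the same
degree over `k` as `P`. -/
theorem card_isOver_of_dvd [FiniteDimensional k k'] [FiniteDimensional K K'] [IsGalois K K']
    (h : Function.Bijective (Algebra.TensorProduct.productMap
      (IsScalarTower.toAlgHom k k' K') (IsScalarTower.toAlgHom k K K')))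
    (hK : IsFunctionField k K) (P : Place k K) (hdvd : Module.finrank k k' ∣ P.deg) :
    Nat.card {Q : Place k K' // IsOver Q P} = Module.finrank K K' ∧
      ∀ Q : Place k K', IsOver Q P → Q.deg = P.deg := by
  constructor
  · obtain ⟨Q₀, hQ₀⟩ := exists_place_over (K' := K') hK P
    have h1 := card_isOver_mul_card_decomposition hQ₀
    rw [decomposition_eq_bot h hK hQ₀ hdvd, Subgroup.card_bot, mul_one] at h1
    exact h1
  · intro Q hQP
    obtain ⟨e, he⟩ := id hQP
    have h1 := WeakFF.card_decomposition_mul_deg (IsFunctionField.weakFF hK) he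
    rw [decomposition_eq_bot h hK hQP hdvd, Subgroup.card_bot, one_mul] at h1
    have h2 := deg_dvd_deg hQP
    have h3 := deg_pos_weak hK Q
    have h4 : 0 < e := isOverWith_pos he
    have h5 : Q.deg ≤ P.deg := by rw [h1]; exact Nat.le_mul_of_pos_left _ h4
    exact le_antisymm h5 (Nat.le_of_dvd h3 h2)

end split

end Groth.Agent.Lib.Helper18.Zeta
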