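import Groth.Agent.Lib.Helper18.Zeta.ConstExt2
import Groth.Agent.Lib.Helper24.FFExt.NormFormula

/-! # Counting the places of a constant field extension `E'/E` above a place of a subfield of `E` -/

set_option autoImplicit false
set_option linter.style.haveILetI false

namespace Groth.Agent.Lib.Helper18.Zeta

open FunFld WithZero Groth.Agent.Lib.Helper18.FF Groth.Agent.Lib.Helper24.FFExt

open scoped TensorProduct

universe u u' v v' w

variable {k : Type u} {k' : Type u'} {E : Type v} {E' : Type v'} {M : Type w} [Field k] [Field k']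
  [Field E] [Field E'] [Field M] [Algebra k k'] [Algebra k E] [Algebra E E'] [Algebra k' E']
  [Algebra k E'] [IsScalarTower k k' E'] [IsScalarTower k E E']
  [Algebra k M] [Algebra M E] [IsScalarTower k M E] [Algebra M E'] [IsScalarTower M E E']
  [Finite k] [Finite k'] [FiniteDimensional k k'] [FiniteDimensional E E'] [IsGalois E E']
  [FiniteDimensional M E]

/-- The places of degree `[k' : k]` of `E'` above a place `p` of `M ⊆ E`. -/
theorem card_filter_isOver
    (h : Function.Bijective (Algebra.TensorProduct.productMap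
      (IsScalarTower.toAlgHom k k' E') (IsScalarTower.toAlgHom k E E')))
    (hE : IsFunctionField k E) (hE' : IsFunctionField k' E')
    (X : Finset (Place k E')) (hX : ∀ Q, Q ∈ X ↔ Q.deg = Module.finrank k k') (p : Place k M)
    (Ps : Finset (Place k E)) (hPs : ∀ P, P ∈ Ps ↔ IsOver P p) [DecidablePred fun Q : Place k E' => IsOver Q p] :
    (X.filter (fun Q => IsOver Q p)).card =
      ∑ P ∈ Ps.filter (fun P => P.deg ∣ Module.finrank k k'), P.deg := by
  classical
  haveI : Algebra.IsAlgebraic E E' := Algebra.IsAlgebraic.of_finite E E'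
  set XP : Place k E → Finset (Place k E') := fun P => (finite_isOver (K' := E') hE P).toFinset
    with hXP
  have hXPmem : ∀ P Q, Q ∈ XP P ↔ IsOver Q P := fun P Q => by
    rw [hXP, Set.Finite.mem_toFinset]; rfl
  have hunion : X.filter (fun Q => IsOver Q p) =
      (Ps.filter (fun P => P.deg ∣ Module.finrank k k')).biUnion XP := by
    ext Q
    rw [Finset.mem_filter, hX, Finset.mem_biUnion]
    constructor
    · rintro ⟨hQdeg, hQp⟩
      obtain ⟨P, hP⟩ := exists_isOver hE Q
      refine ⟨P, Finset.mem_filter.mpr ⟨(hPs P).mpr (isOver_of_isOver_of_isOver hQp hP), ?_⟩,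
        (hXPmem P Q).mpr hP⟩
      rw [← hQdeg]
      exact deg_dvd_deg hP
    · rintro ⟨P, hP, hQ⟩
      obtain ⟨hPp, hPdvd⟩ := Finset.mem_filter.mp hP
      have hQP := (hXPmem P Q).mp hQ
      exact ⟨(card_isOver_of_deg_dvd h hE hE' P hPdvd).2 Q hQP,
        isOver_trans hQP ((hPs P).mp hPp)⟩
  have hdisj : ∀ P ∈ Ps.filter (fun P => P.deg ∣ Module.finrank k k'),
      ∀ P' ∈ Ps.filter (fun P => P.deg ∣ Module.finrank k k'), P ≠ P' →
      Disjoint (XP P) (XP P') := by
    intro P _ P' _ hne
    rw [Finset.disjoint_left]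
    intro Q hQ hQ'
    exact hne (isOver_unique ((hXPmem P Q).mp hQ) ((hXPmem P' Q).mp hQ'))
  have hcard : ∀ P ∈ Ps.filter (fun P => P.deg ∣ Module.finrank k k'), (XP P).card = P.deg := by
    intro P hP
    rw [← (card_isOver_of_deg_dvd h hE hE' P (Finset.mem_filter.mp hP).2).1,
      ← Set.ncard_eq_toFinset_card _ (finite_isOver (K' := E') hE P), ← Nat.card_coe_set_eq]
    rfl
  rw [hunion, Finset.card_biUnion hdisj, Finset.sum_congr rfl hcard]

theorem card_filter_isOver_le
    (h : Function.Bijective (Algebra.TensorProduct.productMap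
      (IsScalarTower.toAlgHom k k' E') (IsScalarTower.toAlgHom k E E')))
    (hM : IsFunctionField k M) (hE : IsFunctionField k E) (hE' : IsFunctionField k' E')
    (X : Finset (Place k E')) (hX : ∀ Q, Q ∈ X ↔ Q.deg = Module.finrank k k') (p : Place k M)
    [DecidablePred fun Q : Place k E' => IsOver Q p] :
    (X.filter (fun Q => IsOver Q p)).card ≤ Module.finrank M E * p.deg := by
  classical
  set Ps := (finite_isOver (K' := E) hM p).toFinset with hPsdef
  have hPs : ∀ P, P ∈ Ps ↔ IsOver P p := fun P => by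
    rw [hPsdef, Set.Finite.mem_toFinset]; rfl
  rw [card_filter_isOver h hE hE' X hX p Ps hPs, ← sum_ramIdx_mul_deg hM p Ps hPs]
  calc ∑ P ∈ Ps.filter (fun P => P.deg ∣ Module.finrank k k'), P.deg
      ≤ ∑ P ∈ Ps, P.deg := Finset.sum_le_sum_of_subset (Finset.filter_subset _ _)
    _ ≤ ∑ P ∈ Ps, ramIdx P p * P.deg := Finset.sum_le_sum fun P hP =>
        Nat.le_mul_of_pos_left _ (isOver_ramIdx_pos ((hPs P).mp hP))

theorem card_filter_isOver_eq
    (h : Function.Bijective (Algebra.TensorProduct.productMap
      (IsScalarTower.toAlgHom k k' E') (IsScalarTower.toAlgHom k E E')))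
    (hM : IsFunctionField k M) (hE : IsFunctionField k E) (hE' : IsFunctionField k' E')
    (X : Finset (Place k E')) (hX : ∀ Q, Q ∈ X ↔ Q.deg = Module.finrank k k') (p : Place k M)
    [DecidablePred fun Q : Place k E' => IsOver Q p]
    (hunr : ∀ P : Place k E, IsOver P p → IsOverWith P p 1)
    (hdvd : ∀ P : Place k E, IsOver P p → P.deg ∣ Module.finrank k k') :
    (X.filter (fun Q => IsOver Q p)).card = Module.finrank M E * p.deg := by
  classical
  set Ps := (finite_isOver (K' := E) hM p).toFinset with hPsdef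
  have hPs : ∀ P, P ∈ Ps ↔ IsOver P p := fun P => by
    rw [hPsdef, Set.Finite.mem_toFinset]; rfl
  rw [card_filter_isOver h hE hE' X hX p Ps hPs, ← sum_ramIdx_mul_deg hM p Ps hPs]
  have hfil : Ps.filter (fun P => P.deg ∣ Module.finrank k k') = Ps :=
    Finset.filter_true_of_mem fun P hP => hdvd P ((hPs P).mp hP)
  rw [hfil]
  refine Finset.sum_congr rfl fun P hP => ?_
  rw [isOverWith_ramIdx_eq (hunr P ((hPs P).mp hP)), one_mul]

end Groth.Agent.Lib.Helper18.Zeta
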