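import Groth.Agent.Lib.Helper18.Zeta.ExtAut2
import Groth.Agent.Lib.Helper18.Zeta.Frobenius
import Groth.Agent.Lib.Helper18.Zeta.WeilCount

/-! # Twisted Frobenius automorphisms of `E' = k' E` and the places they fix -/

set_option autoImplicit false
set_option linter.style.haveILetI false

namespace Groth.Agent.Lib.Helper18.Zeta

open FunFld WithZero Groth.Agent.Lib.Helper18.FF Groth.Agent.Lib.Helper24.FFExt

open scoped TensorProduct

universe u u' v v' w

/-- The `n`-th power of the Frobenius of `k'/k`. -/
noncomputable def frobPow (k : Type u) (k' : Type u') [Field k] [Finite k] [Field k'] [Finite k']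
    [Algebra k k'] (n : ℕ) : k' ≃ₐ[k] k' :=
  letI := Fintype.ofFinite k
  haveI : Algebra.IsAlgebraic k k' := Algebra.IsAlgebraic.of_finite k k'
  (FiniteField.frobeniusAlgEquivOfAlgebraic k k') ^ n

theorem frobPow_apply {k : Type u} {k' : Type u'} [Field k] [Finite k] [Field k'] [Finite k']
    [Algebra k k'] (n : ℕ) (c : k') : frobPow k k' n c = c ^ (Nat.card k ^ n) := by
  letI := Fintype.ofFinite k
  haveI : Algebra.IsAlgebraic k k' := Algebra.IsAlgebraic.of_finite k k'
  unfold frobPow
  rw [AlgEquiv.coe_pow, FiniteField.coe_frobeniusAlgEquivOfAlgebraic_iterate, Nat.card_eq_fintype_card]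

section a

variable {k : Type u} {k' : Type u'} {E : Type v} {E' : Type v'} {F : Type w} [Field k] [Field k']
  [Field E] [Field E'] [Field F] [Algebra k k'] [Algebra k E] [Algebra E E'] [Algebra k' E']
  [Algebra k E'] [IsScalarTower k k' E'] [IsScalarTower k E E']
  [Algebra k F] [Algebra F E] [IsScalarTower k F E] [Algebra F E'] [IsScalarTower F E E']
  [IsScalarTower k F E']
  [Finite k] [Finite k'] [FiniteDimensional F E] [IsGalois F E]

/-- The automorphism `Frobⁿ ⊗ σ` of `E'`. -/
noncomputable def gam
    (h : Function.Bijective (Algebra.TensorProduct.productMap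
      (IsScalarTower.toAlgHom k k' E') (IsScalarTower.toAlgHom k E E')))
    (n : ℕ) (σ : E ≃ₐ[F] E) : E' ≃ₐ[F] E' := extAutF h (frobPow k k' n) σ

theorem gam_const
    (h : Function.Bijective (Algebra.TensorProduct.productMap
      (IsScalarTower.toAlgHom k k' E') (IsScalarTower.toAlgHom k E E')))
    (n : ℕ) (σ : E ≃ₐ[F] E) (c : k') :
    gam h n σ (algebraMap k' E' c) = algebraMap k' E' (c ^ (Nat.card k ^ n)) := by
  unfold gam
  rw [extAutF_const, frobPow_apply]

theorem gam_base
    (h : Function.Bijective (Algebra.TensorProduct.productMap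
      (IsScalarTower.toAlgHom k k' E') (IsScalarTower.toAlgHom k E E')))
    (n : ℕ) (σ : E ≃ₐ[F] E) (z : E) :
    gam h n σ (algebraMap E E' z) = algebraMap E E' (σ z) := extAutF_base h _ σ z

/-- Every place of `E'` of degree one over `k'` lying over a place of `F` of degree dividing `n`
is fixed by some twisted Frobenius. -/
theorem exists_gam_fix
    (h : Function.Bijective (Algebra.TensorProduct.productMap
      (IsScalarTower.toAlgHom k k' E') (IsScalarTower.toAlgHom k E E')))
    (hF : IsFunctionField k F) (hE' : IsFunctionField k' E') (n : ℕ) {Q : Place k E'}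
    {p : Place k F} (hQp : IsOver Q p) (hdvd : p.deg ∣ n) :
    ∃ σ : E ≃ₐ[F] E, placeComap (gam h n σ) Q = Q := by
  haveI : FiniteDimensional k k' := Module.Finite.of_finite
  haveI : IsGalois k k' := inferInstance
  haveI : FiniteDimensional F E' := finiteDimensional_tower_tensor h
  haveI : IsGalois F E' := isGalois_tower_tensor h
  obtain ⟨δ, hδQ, hδ⟩ := exists_frobenius hF hQp n hdvd
  have hconst : ∀ c : k', δ (algebraMap k' E' c) = algebraMap k' E' (c ^ (Nat.card k ^ n)) := by
    intro c
    have hint : IsIntegral k (algebraMap k' E' c) :=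
      (Algebra.IsIntegral.isIntegral (R := k) c).map (IsScalarTower.toAlgHom k k' E')
    have hint' : IsIntegral k (δ (algebraMap k' E' c)) := by
      have := hint.map ((δ.restrictScalars k : E' ≃ₐ[k] E') : E' →ₐ[k] E')
      exact this
    obtain ⟨c', hc'⟩ := hE'.2 _ (hint'.isAlgebraic.extendScalars (algebraMap k k').injective)
    have h1 := hδ (algebraMap k' E' c) (val_le_one_of_isIntegral (K := k) Q.1 Q.2.1 hint)
    rw [← hc', ← map_pow, ← map_sub] at h1
    rw [← hc']
    congr 1
    by_contra hne
    have hne' : c' - c ^ (Nat.card k ^ n) ≠ 0 := sub_ne_zero.mpr hne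
    have hint2 : IsIntegral k (algebraMap k' E' (c' - c ^ (Nat.card k ^ n))) :=
      (Algebra.IsIntegral.isIntegral (R := k) _).map (IsScalarTower.toAlgHom k k' E')
    have h2 := val_eq_one_of_isIntegral Q hint2
      ((map_ne_zero_iff _ (algebraMap k' E').injective).mpr hne')
    rw [h2] at h1
    exact lt_irrefl _ h1
  haveI : Normal F E := inferInstance
  refine ⟨δ.restrictNormal E, ?_⟩
  have heq : δ = gam h n (δ.restrictNormal E) := by
    apply algEquiv_ext_of_tensor h
    · intro c
      rw [hconst, gam_const]
    · intro z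
      rw [gam_base, AlgEquiv.restrictNormal_commutes]
  rw [← heq]
  exact hδQ

end a

end Groth.Agent.Lib.Helper18.Zeta
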