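import Groth.Agent.Lib.Helper18.Zeta.WeilA
import Groth.Agent.Lib.Helper18.Zeta.Bombieri4

/-! # Bombieri's bound for the places fixed by a twisted Frobenius -/

set_option autoImplicit false
set_option linter.style.haveILetI false

namespace Groth.Agent.Lib.Helper18.Zeta

open FunFld WithZero Groth.Agent.Lib.Helper18.FF Groth.Agent.Lib.Helper24.FFExt

open scoped TensorProduct

universe u u' v v' w

variable {k : Type u} {k' : Type u'} {E : Type v} {E' : Type v'} {F : Type w} [Field k] [Field k']
  [Field E] [Field E'] [Field F] [Algebra k k'] [Algebra k E] [Algebra E E'] [Algebra k' E']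
  [Algebra k E'] [IsScalarTower k k' E'] [IsScalarTower k E E']
  [Algebra k F] [Algebra F E] [IsScalarTower k F E] [Algebra F E'] [IsScalarTower F E E']
  [IsScalarTower k F E']
  [Finite k] [Finite k'] [FiniteDimensional F E] [IsGalois F E]

theorem card_fix_le
    (h : Function.Bijective (Algebra.TensorProduct.productMap
      (IsScalarTower.toAlgHom k k' E') (IsScalarTower.toAlgHom k E E')))
    (hE' : IsFunctionField k' E') (n : ℕ) (σ : E ≃ₐ[F] E) (p : ℕ) [Fact p.Prime] [CharP k' p]
    (e : ℕ) (hpe : Nat.card k ^ n = p ^ e * p ^ e) (g : ℕ) (hg : genus k' E' ≤ g)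
    (hq : g ^ 2 + 3 * g + 1 < p ^ e)
    (X : Finset (Place k E')) (hX : ∀ Q ∈ X, Q.deg = Module.finrank k k')
    [DecidablePred fun Q : Place k E' => placeComap (gam h n σ) Q = Q] :
    (X.filter (fun Q => placeComap (gam h n σ) Q = Q)).card ≤
      p ^ e * p ^ e + (2 * g + 1) * p ^ e := by
  classical
  haveI : FiniteDimensional k k' := Module.Finite.of_finite
  haveI : Algebra.IsAlgebraic k k' := Algebra.IsAlgebraic.of_finite k k'
  set T := (X.filter (fun Q => placeComap (gam h n σ) Q = Q)).image (toAlg k') with hT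
  have hcard : T.card = (X.filter (fun Q => placeComap (gam h n σ) Q = Q)).card :=
    Finset.card_image_of_injective _ (toAlg_injective k')
  rw [← hcard]
  refine bombieri hE' (gam h n σ).toRingEquiv p e ?_ g hg hq T ?_
  · intro c
    show gam h n σ (algebraMap k' E' c) = _
    rw [gam_const, hpe]
  · intro P hP
    obtain ⟨Q, hQ, rfl⟩ := Finset.mem_image.mp hP
    obtain ⟨hQX, hQfix⟩ := Finset.mem_filter.mp hQ
    refine ⟨?_, fun x => ?_⟩
    · have h3 := deg_eq_mul_deg_toAlg k' Q
      rw [hX Q hQX] at h3
      have hpos : 0 < Module.finrank k k' := Module.finrank_pos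
      exact (Nat.eq_of_mul_eq_mul_left hpos (by rw [mul_one]; exact h3.symm))
    · show Q.1 (gam h n σ x) = Q.1 x
      rw [← placeComap_val, hQfix]

end Groth.Agent.Lib.Helper18.Zeta
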