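import Groth.Agent.Lib.Helper18.Zeta.WeilB
import Groth.Agent.Lib.Helper24.FFExt.InertiaField
import Groth.Agent.Lib.Helper24.FFExt.Inertia2

/-! # Places fixed by twisted Frobenius automorphisms: restriction to the subfields -/

set_option autoImplicit false
set_option linter.style.haveILetI false

namespace Groth.Agent.Lib.Helper18.Zeta

open FunFld WithZero Groth.Agent.Lib.Helper18.FF Groth.Agent.Lib.Helper24.FFExt

open scoped TensorProduct

universe u u' v v' w w'

variable {k : Type u} {k' : Type u'} {E : Type v} {E' : Type v'} {F : Type w} [Field k] [Field k']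
  [Field E] [Field E'] [Field F] [Algebra k k'] [Algebra k E] [Algebra E E'] [Algebra k' E']
  [Algebra k E'] [IsScalarTower k k' E'] [IsScalarTower k E E']
  [Algebra k F] [Algebra F E] [IsScalarTower k F E] [Algebra F E'] [IsScalarTower F E E']
  [IsScalarTower k F E']
  [Finite k] [Finite k'] [FiniteDimensional F E] [IsGalois F E]

section b1

variable {K : Type w'} [Field K] [Algebra k K] [Algebra F K] [Algebra K E] [IsScalarTower k K E]
  [IsScalarTower F K E] [Algebra K E'] [IsScalarTower K E E']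

/-- A finite field all of whose elements satisfy `y^{qⁿ} = y` has degree dividing `n`. -/
theorem finrank_dvd_of_pow_eq {L : Type*} [Field L] [Algebra k L] [Finite L] (n : ℕ)
    (hL : ∀ y : L, y ^ (Nat.card k ^ n) = y) : Module.finrank k L ∣ n := by
  letI := Fintype.ofFinite k
  rw [← FiniteField.orderOf_frobeniusAlgHom k L]
  apply orderOf_dvd_of_pow_eq_one
  ext y
  rw [AlgHom.coe_pow, FiniteField.coe_frobeniusAlgHom, pow_iterate, AlgHom.one_apply,
    ← Nat.card_eq_fintype_card]
  exact hL y

/-- A place fixed by a twisted Frobenius `Frobⁿ ⊗ τ` with `τ` trivial on `K` restricts to a place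
of `K` of degree dividing `n`. -/
theorem deg_dvd_of_fix
    (h : Function.Bijective (Algebra.TensorProduct.productMap
      (IsScalarTower.toAlgHom k k' E') (IsScalarTower.toAlgHom k E E')))
    (hK : IsFunctionField k K) (hE' : IsFunctionField k' E') (n : ℕ) (τ : E ≃ₐ[K] E)
    {Q : Place k E'} (hQdeg : Q.deg = Module.finrank k k')
    (hfix : placeComap (gam h n (τ.restrictScalars F)) Q = Q) {pK : Place k K}
    (hQp : IsOver Q pK) : pK.deg ∣ n := by
  classical
  haveI : FiniteDimensional k k' := Module.Finite.of_finite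
  haveI : Algebra.IsAlgebraic k k' := Algebra.IsAlgebraic.of_finite k k'
  obtain ⟨p, hp⟩ := CharP.exists k
  haveI := hp
  haveI : Fact p.Prime := ⟨CharP.char_is_prime k p⟩
  haveI : Fintype k := Fintype.ofFinite k
  obtain ⟨f, hf⟩ : ∃ f : ℕ, Nat.card k = p ^ f := by
    obtain ⟨⟨f, _⟩, hf⟩ := FiniteField.card k p
    exact ⟨f, by rw [Nat.card_eq_fintype_card]; exact hf.2⟩
  haveI : CharP E' p := charP_of_injective_algebraMap (algebraMap k E').injective p
  set P' : Place k' E' := toAlg k' Q with hP'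
  have hP'deg : P'.deg = 1 := by
    have h3 := deg_eq_mul_deg_toAlg k' Q
    rw [hQdeg] at h3
    have hpos : 0 < Module.finrank k k' := Module.finrank_pos
    exact (Nat.eq_of_mul_eq_mul_left hpos (by rw [mul_one]; exact h3.symm))
  set γ := gam h n (τ.restrictScalars F) with hγ
  have hγQ : ∀ x, Q.1 (γ x) = Q.1 x := fun x => by rw [← placeComap_val, hfix]
  have hγK : ∀ z : K, γ (algebraMap K E' z) = algebraMap K E' z := by
    intro z
    rw [IsScalarTower.algebraMap_apply K E E', hγ, gam_base]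
    congr 1
    exact τ.commutes z
  -- every residue class of `pK` is fixed by `y ↦ y^{qⁿ}`
  have hkey : ∀ z : K, pK.1 z ≤ 1 → pK.1 (z ^ (Nat.card k ^ n) - z) < 1 := by
    intro z hz
    have hzQ : P'.1 (algebraMap K E' z) ≤ 1 := (isOver_le_one_iff hQp z).mpr hz
    obtain ⟨c, hc⟩ := exists_const_sub_lt_one hE' hP'deg hzQ
    have hc1 : Cong P' (algebraMap K E' z) (algebraMap k' E' c) := hc
    have hc2 : Cong P' (algebraMap K E' z) (algebraMap k' E' (c ^ (Nat.card k ^ n))) := by
      unfold Cong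
      have : algebraMap K E' z - algebraMap k' E' (c ^ (Nat.card k ^ n)) =
          γ (algebraMap K E' z - algebraMap k' E' c) := by
        rw [map_sub, hγK, hγ, gam_const]
      rw [this]
      show Q.1 (γ _) < 1
      rw [hγQ]
      exact hc
    have hc3 : Cong P' (algebraMap K E' z ^ (Nat.card k ^ n))
        (algebraMap k' E' c ^ (Nat.card k ^ n)) := by
      rw [hf, ← pow_mul]
      exact Cong.pow_char_pow hc1 p (f * n)
    have hc3' : Cong P' (algebraMap K E' z ^ (Nat.card k ^ n))
        (algebraMap k' E' (c ^ (Nat.card k ^ n))) := by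
      rw [map_pow (algebraMap k' E')]; exact hc3
    have hc4 : Cong P' (algebraMap K E' z ^ (Nat.card k ^ n)) (algebraMap K E' z) :=
      hc3'.trans hc2.symm
    unfold Cong at hc4
    rw [← map_pow, ← map_sub] at hc4
    exact (isOver_lt_one_iff hQp _).mp hc4
  haveI : Finite (IsLocalRing.ResidueField pK.O) := finite_residueField hK pK
  refine finrank_dvd_of_pow_eq (L := IsLocalRing.ResidueField pK.O) n fun y => ?_
  obtain ⟨z, hz, rfl⟩ := res_surjective pK y
  have h1 := hkey z hz
  have hpow : pK.1 (z ^ (Nat.card k ^ n)) ≤ 1 := by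
    rw [map_pow]; exact pow_le_one' hz _
  have hle : pK.1 (z ^ (Nat.card k ^ n) - z) ≤ 1 := h1.le
  rw [← res_eq_zero_iff pK _ hle] at h1
  have h2 : res pK (z ^ (Nat.card k ^ n) - z) hle =
      (res pK z hz) ^ (Nat.card k ^ n) - res pK z hz := by
    show IsLocalRing.residue pK.O ⟨z ^ (Nat.card k ^ n) - z, hle⟩ =
      (IsLocalRing.residue pK.O ⟨z, hz⟩) ^ (Nat.card k ^ n) - IsLocalRing.residue pK.O ⟨z, hz⟩
    rw [← map_pow, ← map_sub]
    rfl
  rw [h2] at h1
  exact sub_eq_zero.mp h1

end b1

section b3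

/-- At a place lying over an unramified place of `F`, at most one twisted Frobenius fixes it. -/
theorem eq_of_fix_fix
    (h : Function.Bijective (Algebra.TensorProduct.productMap
      (IsScalarTower.toAlgHom k k' E') (IsScalarTower.toAlgHom k E E')))
    (hF : IsFunctionField k F) (hE : IsFunctionField k E) (hE' : IsFunctionField k' E') (n : ℕ)
    {Q : Place k E'} (hQdeg : Q.deg = Module.finrank k k') {P : Place k E} (hQP : IsOver Q P)
    {p : Place k F} (hPp : IsOverWith P p 1) (σ₁ σ₂ : E ≃ₐ[F] E)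
    (h1 : placeComap (gam h n σ₁) Q = Q) (h2 : placeComap (gam h n σ₂) Q = Q) : σ₁ = σ₂ := by
  classical
  haveI : FiniteDimensional k k' := Module.Finite.of_finite
  haveI : Algebra.IsAlgebraic k k' := Algebra.IsAlgebraic.of_finite k k'
  set P' : Place k' E' := toAlg k' Q with hP'
  have hP'deg : P'.deg = 1 := by
    have h3 := deg_eq_mul_deg_toAlg k' Q
    rw [hQdeg] at h3
    have hpos : 0 < Module.finrank k k' := Module.finrank_pos
    exact (Nat.eq_of_mul_eq_mul_left hpos (by rw [mul_one]; exact h3.symm))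
  set γ₁ := gam h n σ₁ with hγ₁
  set γ₂ := gam h n σ₂ with hγ₂
  set ρ' : E' ≃ₐ[F] E' := γ₁⁻¹ * γ₂ with hρ'
  set ρ : E ≃ₐ[F] E := σ₁⁻¹ * σ₂ with hρ
  have hfix : placeComap ρ' Q = Q := by
    rw [hρ', placeComap_mul]
    have : placeComap γ₁⁻¹ Q = Q := by
      have := placeComap_inv_placeComap γ₁ Q
      rwa [h1] at this
    rw [this, h2]
  have hρQ : ∀ x, Q.1 (ρ' x) = Q.1 x := fun x => by rw [← placeComap_val, hfix]
  have hρc : ∀ c : k', ρ' (algebraMap k' E' c) = algebraMap k' E' c := by
    intro c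
    rw [hρ', AlgEquiv.mul_apply, hγ₂, gam_const, ← gam_const h n σ₁ c]
    exact γ₁.symm_apply_apply _
  have hρb : ∀ z : E, ρ' (algebraMap E E' z) = algebraMap E E' (ρ z) := by
    intro z
    rw [hρ', AlgEquiv.mul_apply, hγ₂, gam_base, hρ, AlgEquiv.mul_apply]
    have : algebraMap E E' (σ₂ z) = γ₁ (algebraMap E E' (σ₁⁻¹ (σ₂ z))) := by
      rw [hγ₁, gam_base]
      congr 1
      exact (σ₁.apply_symm_apply _).symm
    rw [this]
    exact γ₁.symm_apply_apply _
  -- `ρ` acts trivially on the residue field of `P`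
  have hin : ∀ z : E, P.1 z ≤ 1 → P.1 (ρ z - z) ≤ exp (-(1 : ℤ)) := by
    intro z hz
    rw [← zm0_lt_one_iff]
    have hzQ : P'.1 (algebraMap E E' z) ≤ 1 := (isOver_le_one_iff hQP z).mpr hz
    obtain ⟨c, hc⟩ := exists_const_sub_lt_one hE' hP'deg hzQ
    have hc1 : Cong P' (algebraMap E E' z) (algebraMap k' E' c) := hc
    have hc2 : Cong P' (algebraMap E E' (ρ z)) (algebraMap k' E' c) := by
      unfold Cong
      have : algebraMap E E' (ρ z) - algebraMap k' E' c =
          ρ' (algebraMap E E' z - algebraMap k' E' c) := by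
        rw [map_sub, hρb, hρc]
      rw [this]
      show Q.1 (ρ' _) < 1
      rw [hρQ]
      exact hc
    have hc3 : Cong P' (algebraMap E E' (ρ z)) (algebraMap E E' z) := hc2.trans hc1.symm
    unfold Cong at hc3
    rw [← map_sub] at hc3
    exact (isOver_lt_one_iff hQP _).mp hc3
  have hmem := (mem_inertia_iff P ρ).mpr hin
  haveI : Finite (IsLocalRing.ResidueField P.O) := finite_residueField hE P
  haveI : Module.Finite k (IsLocalRing.ResidueField P.O) := Module.Finite.of_finite
  haveI : Algebra.IsAlgebraic k (IsLocalRing.ResidueField P.O) :=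
    Algebra.IsAlgebraic.of_finite k (IsLocalRing.ResidueField P.O)
  haveI : Algebra.IsSeparable k (IsLocalRing.ResidueField P.O) :=
    Algebra.IsAlgebraic.isSeparable_of_perfectField
  have hcard := card_inertia hF hPp
  obtain ⟨ρ₀, hρ₀, hρ₀eq⟩ := hmem
  have hbot := Subgroup.eq_bot_of_card_eq _ hcard
  rw [hbot] at hρ₀
  have hρ₀' : ρ₀ = 1 := Subgroup.mem_bot.mp hρ₀
  rw [hρ₀'] at hρ₀eq
  have hρ1 : ρ = 1 := by
    rw [← hρ₀eq]
    rfl
  rw [hρ] at hρ1
  exact (inv_mul_eq_one.mp hρ1)

end b3

end Groth.Agent.Lib.Helper18.Zeta
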