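import Groth.Agent.Lib.Helper18.Zeta.WeilC

/-! # The lower bound for the number of places of degree dividing `n` -/

set_option autoImplicit false
set_option linter.style.haveILetI false

namespace Groth.Agent.Lib.Helper18.Zeta

open FunFld WithZero Groth.Agent.Lib.Helper18.FF Groth.Agent.Lib.Helper24.FFExt

open scoped TensorProduct

universe u u' v v' w w'

theorem NN_eq_sum {k : Type u} {K : Type v} [Field k] [Field K] [Algebra k K] [Finite k]
    (hK : IsFunctionField k K) (n : ℕ) (hn : 0 < n) (S : Finset (Place k K))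
    (hS : ∀ P, P ∈ S ↔ P.deg ∣ n) : NN hK n = ∑ P ∈ S, P.deg := by
  classical
  unfold NN
  refine Finset.sum_congr ?_ fun _ _ => rfl
  ext P
  rw [hS, Finset.mem_filter, Set.Finite.mem_toFinset]
  exact ⟨fun h => h.2, fun h => ⟨Nat.le_of_dvd hn h, h⟩⟩

section

variable {k : Type u} {k' : Type u'} {E : Type v} {E' : Type v'} [Field k] [Field k']
  [Field E] [Field E'] [Algebra k k'] [Algebra k E] [Algebra E E'] [Algebra k' E']
  [Algebra k E'] [IsScalarTower k k' E'] [IsScalarTower k E E'] [Finite k] [Finite k']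

/-- The places of `E'` of degree `[k' : k]` over `k` (degree one over `k'`) form a finite set. -/
theorem finite_deg_finrank (hE' : IsFunctionField k' E') :
    {Q : Place k E' | Q.deg = Module.finrank k k'}.Finite := by
  haveI : FiniteDimensional k k' := Module.Finite.of_finite
  haveI : Algebra.IsAlgebraic k k' := Algebra.IsAlgebraic.of_finite k k'
  refine ((finite_places_deg hE' 1).image (ofAlg k')).subset ?_
  intro Q hQ
  refine ⟨toAlg k' Q, ?_, ofAlg_toAlg k' Q⟩
  have h3 := deg_eq_mul_deg_toAlg k' Q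
  rw [(hQ : Q.deg = _)] at h3
  have hpos : 0 < Module.finrank k k' := Module.finrank_pos
  show (toAlg k' Q).deg = 1
  exact (Nat.eq_of_mul_eq_mul_left hpos (by rw [mul_one]; exact h3.symm))

end

variable {k : Type u} {k' : Type u'} {E : Type v} {E' : Type v'} {F : Type w} [Field k] [Field k']
  [Field E] [Field E'] [Field F] [Algebra k k'] [Algebra k E] [Algebra E E'] [Algebra k' E']
  [Algebra k E'] [IsScalarTower k k' E'] [IsScalarTower k E E']
  [Algebra k F] [Algebra F E] [IsScalarTower k F E] [Algebra F E'] [IsScalarTower F E E']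
  [IsScalarTower k F E']
  [Finite k] [Finite k'] [FiniteDimensional F E] [IsGalois F E]
  {K : Type w'} [Field K] [Algebra k K] [Algebra F K] [Algebra K E] [IsScalarTower k K E]
  [IsScalarTower F K E] [Algebra K E'] [IsScalarTower K E E'] [IsScalarTower k K E']

open scoped Classical in
/-- The counting inequality behind the lower bound. -/
theorem lower_bound_aux
    (h : Function.Bijective (Algebra.TensorProduct.productMap
      (IsScalarTower.toAlgHom k k' E') (IsScalarTower.toAlgHom k E E')))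
    (hF : IsFunctionField k F) (hK : IsFunctionField k K) (hE : IsFunctionField k E)
    (hE' : IsFunctionField k' E') (n : ℕ) (hn : 0 < n)
    (hdeg : Module.finrank k k' = n * Module.finrank F E)
    (R : Finset (Place k F))
    (hR : ∀ p : Place k F, p ∉ R → ∀ P : Place k E, IsOver P p → IsOverWith P p 1)
    (B : ℕ)
    (hB : ∀ (σ : E ≃ₐ[F] E) (X : Finset (Place k E')),
      (∀ Q ∈ X, Q.deg = Module.finrank k k') →
        (X.filter (fun Q => placeComap (gam h n σ) Q = Q)).card ≤ B) :
    Module.finrank F E * NN hF n ≤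
      Module.finrank K E * NN hK n + (Module.finrank F E - Module.finrank K E) * B +
        Module.finrank F E * ∑ p ∈ R, p.deg := by
  classical
  haveI : FiniteDimensional k k' := Module.Finite.of_finite
  haveI : IsGalois k k' := inferInstance
  haveI : FiniteDimensional E E' := finiteDimensional_of_tensor' h
  haveI : IsGalois E E' := isGalois_of_tensor h
  haveI : Algebra.IsAlgebraic E E' := Algebra.IsAlgebraic.of_finite E E'
  haveI : FiniteDimensional K E := Module.Finite.of_restrictScalars_finite F K E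
  haveI : IsGalois K E := IsGalois.tower_top_of_isGalois F K E
  haveI : FiniteDimensional K E' := Module.Finite.trans E E'
  haveI : Algebra.IsAlgebraic K E' := Algebra.IsAlgebraic.of_finite K E'
  set d := Module.finrank F E with hd
  set X := (finite_deg_finrank (k := k) hE').toFinset with hXdef
  have hX : ∀ Q, Q ∈ X ↔ Q.deg = Module.finrank k k' := fun Q => by
    rw [hXdef, Set.Finite.mem_toFinset]; rfl
  -- places of `F` of degree dividing `n`
  set Fall := (finite_places_deg_le hF n).toFinset.filter (fun p => p.deg ∣ n) with hFalldef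
  have hFall : ∀ p, p ∈ Fall ↔ p.deg ∣ n := by
    intro p
    rw [hFalldef, Finset.mem_filter, Set.Finite.mem_toFinset]
    exact ⟨fun h => h.2, fun h => ⟨Nat.le_of_dvd hn h, h⟩⟩
  set Fgood := Fall.filter (fun p => p ∉ R) with hFgood
  -- Step 1
  have hover : ∀ p ∈ Fgood, (X.filter (fun Q => IsOver Q p)).card = d * p.deg := by
    intro p hp
    obtain ⟨hpFall, hpR⟩ := Finset.mem_filter.mp hp
    refine card_filter_isOver_eq h hF hE hE' X hX p (hR p hpR) ?_
    intro P hPp
    have he := hR p hpR P hPp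
    have h1 := card_decomposition_mul_deg hF he
    have h2 : Nat.card ((P.O).decompositionSubgroup F) ∣ Nat.card (E ≃ₐ[F] E) :=
      Subgroup.card_subgroup_dvd_card _
    rw [IsGalois.card_aut_eq_finrank] at h2
    rw [one_mul] at h1
    rw [hdeg, ← h1, mul_comm n]
    exact Nat.mul_dvd_mul h2 ((hFall p).mp hpFall)
  set Xgood := Fgood.biUnion (fun p => X.filter (fun Q => IsOver Q p)) with hXgood
  have hXgood_card : Xgood.card = ∑ p ∈ Fgood, d * p.deg := by
    rw [hXgood, Finset.card_biUnion, Finset.sum_congr rfl hover]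
    intro p _ p' _ hne
    rw [Function.onFun, Finset.disjoint_left]
    intro Q hQ hQ'
    exact hne (isOver_unique (Finset.mem_filter.mp hQ).2 (Finset.mem_filter.mp hQ').2)
  have hXgoodX : ∀ Q ∈ Xgood, Q.deg = Module.finrank k k' := by
    intro Q hQ
    obtain ⟨p, _, hQp⟩ := Finset.mem_biUnion.mp hQ
    exact (hX Q).mp (Finset.mem_filter.mp hQp).1
  -- Step 2
  have hstep2 : NN hF n ≤ ∑ p ∈ Fgood, p.deg + ∑ p ∈ R, p.deg := by
    rw [NN_eq_sum hF n hn Fall hFall, ← Finset.sum_filter_add_sum_filter_not Fall (fun p => p ∉ R)]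
    refine Nat.add_le_add_left ?_ _
    refine Finset.sum_le_sum_of_subset ?_
    intro p hp
    have := (Finset.mem_filter.mp hp).2
    exact not_not.mp this
  -- Step 3
  have hcover : ∀ Q ∈ Xgood, ∃ σ : E ≃ₐ[F] E, placeComap (gam h n σ) Q = Q := by
    intro Q hQ
    obtain ⟨p, hp, hQp⟩ := Finset.mem_biUnion.mp hQ
    exact exists_gam_fix h hF hE' n (Finset.mem_filter.mp hQp).2
      ((hFall p).mp (Finset.mem_filter.mp hp).1)
  haveI : Fintype (E ≃ₐ[F] E) := Fintype.ofFinite _
  haveI : Fintype (E ≃ₐ[K] E) := Fintype.ofFinite _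
  set f : (E ≃ₐ[F] E) → ℕ :=
    fun σ => (Xgood.filter (fun Q => placeComap (gam h n σ) Q = Q)).card with hf
  have hstep3 : Xgood.card ≤ ∑ σ : E ≃ₐ[F] E, f σ := by
    calc Xgood.card ≤ (Finset.univ.biUnion (fun σ : E ≃ₐ[F] E =>
          Xgood.filter (fun Q => placeComap (gam h n σ) Q = Q))).card := by
          refine Finset.card_le_card ?_
          intro Q hQ
          obtain ⟨σ, hσ⟩ := hcover Q hQ
          exact Finset.mem_biUnion.mpr ⟨σ, Finset.mem_univ _, Finset.mem_filter.mpr ⟨hQ, hσ⟩⟩
      _ ≤ ∑ σ : E ≃ₐ[F] E, f σ := Finset.card_biUnion_le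
  -- Step 4
  have hfB : ∀ σ, f σ ≤ B := fun σ => hB σ Xgood hXgoodX
  set ι : (E ≃ₐ[K] E) → (E ≃ₐ[F] E) := fun τ => τ.restrictScalars F with hι
  have hιinj : Function.Injective ι := by
    intro τ₁ τ₂ h12
    ext z
    exact AlgEquiv.congr_fun h12 z
  have hcardG : Fintype.card (E ≃ₐ[F] E) = d := by
    rw [← Nat.card_eq_fintype_card, IsGalois.card_aut_eq_finrank]
  have hcardGK : Fintype.card (E ≃ₐ[K] E) = Module.finrank K E := by
    rw [← Nat.card_eq_fintype_card, IsGalois.card_aut_eq_finrank]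
  have hstep4 : ∑ σ : E ≃ₐ[F] E, f σ ≤
      ∑ τ : E ≃ₐ[K] E, f (ι τ) + (d - Module.finrank K E) * B := by
    rw [← Finset.sum_sdiff (Finset.subset_univ (Finset.univ.image ι)),
      Finset.sum_image (fun a _ b _ hab => hιinj hab), add_comm]
    refine Nat.add_le_add_left ?_ _
    calc ∑ σ ∈ Finset.univ \ Finset.univ.image ι, f σ
        ≤ ∑ _σ ∈ Finset.univ \ Finset.univ.image ι, B := Finset.sum_le_sum fun σ _ => hfB σ
      _ = (d - Module.finrank K E) * B := by
        rw [Finset.sum_const, smul_eq_mul, Finset.card_sdiff_of_subset (Finset.subset_univ _),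
          Finset.card_univ, Finset.card_image_of_injective _ hιinj, Finset.card_univ, hcardG,
          hcardGK]
  -- Step 5
  set Kall := (finite_places_deg_le hK n).toFinset.filter (fun p => p.deg ∣ n) with hKalldef
  have hKall : ∀ p, p ∈ Kall ↔ p.deg ∣ n := by
    intro p
    rw [hKalldef, Finset.mem_filter, Set.Finite.mem_toFinset]
    exact ⟨fun h => h.2, fun h => ⟨Nat.le_of_dvd hn h, h⟩⟩
  have hstep5 : ∑ τ : E ≃ₐ[K] E, f (ι τ) ≤ Module.finrank K E * NN hK n := by
    have hdisj : ∀ τ₁ ∈ (Finset.univ : Finset (E ≃ₐ[K] E)), ∀ τ₂ ∈ (Finset.univ : Finset (E ≃ₐ[K] E)),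
        τ₁ ≠ τ₂ → Disjoint (Xgood.filter (fun Q => placeComap (gam h n (ι τ₁)) Q = Q))
          (Xgood.filter (fun Q => placeComap (gam h n (ι τ₂)) Q = Q)) := by
      intro τ₁ _ τ₂ _ hne
      rw [Finset.disjoint_left]
      intro Q hQ₁ hQ₂
      obtain ⟨hQg, hfix₁⟩ := Finset.mem_filter.mp hQ₁
      obtain ⟨_, hfix₂⟩ := Finset.mem_filter.mp hQ₂
      obtain ⟨p, hp, hQp⟩ := Finset.mem_biUnion.mp hQg
      obtain ⟨P, hQP⟩ := exists_isOver hE Q
      have hPp : IsOver P p := isOver_of_isOver_of_isOver (Finset.mem_filter.mp hQp).2 hQP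
      have he := hR p (Finset.mem_filter.mp hp).2 P hPp
      exact hne (hιinj (eq_of_fix_fix h hF hE hE' n (hXgoodX Q hQg) hQP he _ _ hfix₁ hfix₂))
    have h1 : ∑ τ : E ≃ₐ[K] E, f (ι τ) = (Finset.univ.biUnion (fun τ : E ≃ₐ[K] E =>
        Xgood.filter (fun Q => placeComap (gam h n (ι τ)) Q = Q))).card :=
      (Finset.card_biUnion hdisj).symm
    rw [h1]
    calc (Finset.univ.biUnion (fun τ : E ≃ₐ[K] E =>
          Xgood.filter (fun Q => placeComap (gam h n (ι τ)) Q = Q))).card
        ≤ (Kall.biUnion (fun pK => X.filter (fun Q => IsOver Q pK))).card := by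
          refine Finset.card_le_card ?_
          intro Q hQ
          obtain ⟨τ, _, hQτ⟩ := Finset.mem_biUnion.mp hQ
          obtain ⟨hQg, hfix⟩ := Finset.mem_filter.mp hQτ
          obtain ⟨pK, hQpK⟩ := exists_isOver hK Q
          have hdvd := deg_dvd_of_fix h hK hE' n τ (hXgoodX Q hQg) hfix hQpK
          exact Finset.mem_biUnion.mpr ⟨pK, (hKall pK).mpr hdvd,
            Finset.mem_filter.mpr ⟨(hX Q).mpr (hXgoodX Q hQg), hQpK⟩⟩
      _ ≤ ∑ pK ∈ Kall, (X.filter (fun Q => IsOver Q pK)).card := Finset.card_biUnion_le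
      _ ≤ ∑ pK ∈ Kall, Module.finrank K E * pK.deg :=
          Finset.sum_le_sum fun pK _ => card_filter_isOver_le h hK hE hE' X hX pK
      _ = Module.finrank K E * NN hK n := by
          rw [NN_eq_sum hK n hn Kall hKall, Finset.mul_sum]
  -- conclusion
  have hfinal : d * NN hF n ≤ Xgood.card + d * ∑ p ∈ R, p.deg := by
    rw [hXgood_card, ← Finset.mul_sum, ← Nat.mul_add]
    exact Nat.mul_le_mul_left _ hstep2
  calc d * NN hF n ≤ Xgood.card + d * ∑ p ∈ R, p.deg := hfinal
    _ ≤ (Module.finrank K E * NN hK n + (d - Module.finrank K E) * B) + d * ∑ p ∈ R, p.deg :=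
        Nat.add_le_add_right (hstep3.trans (hstep4.trans (Nat.add_le_add_right hstep5 _))) _

end Groth.Agent.Lib.Helper18.Zeta
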