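import Groth.Agent.Lib.Helper18.Zeta.WeilD
import Groth.Agent.Lib.Helper18.Zeta.NumerConstExt
import Groth.Agent.Lib.Helper18.Zeta.RecipRoots2
import Groth.Agent.Lib.Helper24.FFExt.Ramified

/-! # Ingredients for the Weil bound: genus of constant extensions, ramified places, genus zero -/

set_option autoImplicit false
set_option linter.style.haveILetI false

namespace Groth.Agent.Lib.Helper18.Zeta

open FunFld WithZero Groth.Agent.Lib.Helper18.FF Groth.Agent.Lib.Helper24.FFExt

universe u u' v v' w

/-- The genus does not grow in a constant field extension (finite constant fields). -/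
theorem genus_constExt_le {k : Type u} {K : Type v} {k' : Type u'} {K' : Type v'} [Field k]
    [Finite k] [Field K] [Algebra k K] [Field k'] [Finite k'] [Field K'] [Algebra k k']
    [Algebra K K'] [Algebra k' K']
    (hK : IsFunctionField k K) (hK' : IsFunctionField k' K') (hce : IsConstExt k K k' K') :
    genus k' K' ≤ genus k K := by
  obtain ⟨α, -, hα, -⟩ := exists_reciprocal_roots hK
  have hL := numerZ_constExt hK hK' hce α hα
  by_contra hlt
  push Not at hlt
  have h1 := congrArg (PowerSeries.coeff (2 * genus k' K')) hL
  rw [PowerSeries.coeff_map, coeff_numerZ_two_genus hK', Polynomial.coeff_coe] at h1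
  have hdeg : (∏ i, (1 - Polynomial.C (α i ^ Module.finrank k k') * Polynomial.X) :
      Polynomial ℂ).natDegree ≤ 2 * genus k K := by
    refine (Polynomial.natDegree_prod_le _ _).trans ?_
    calc ∑ i : Fin (2 * genus k K),
          (1 - Polynomial.C (α i ^ Module.finrank k k') * Polynomial.X : Polynomial ℂ).natDegree
        ≤ ∑ _i : Fin (2 * genus k K), 1 := by
          refine Finset.sum_le_sum fun i _ => ?_
          refine (Polynomial.natDegree_sub_le _ _).trans ?_
          rw [Polynomial.natDegree_one]
          exact max_le (Nat.zero_le _)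
            ((Polynomial.natDegree_C_mul_le _ _).trans Polynomial.natDegree_X_le)
      _ = 2 * genus k K := by simp
  rw [Polynomial.coeff_eq_zero_of_natDegree_lt (by omega)] at h1
  have hq : (0 : ℤ) < (Nat.card k' : ℤ) := by exact_mod_cast Nat.card_pos
  have : ((Nat.card k' : ℤ) ^ genus k' K' : ℤ) ≠ 0 := pow_ne_zero _ hq.ne'
  rw [eq_intCast] at h1
  exact this (by exact_mod_cast h1)

section ram

variable {k : Type u} {F : Type v} {E : Type w} [Field k] [Field F] [Field E] [Algebra k F]
  [Algebra F E] [Algebra k E] [IsScalarTower k F E]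

/-- All but finitely many places of `F` are unramified in a finite Galois extension `E`. -/
theorem exists_bad_finset [FiniteDimensional F E] [IsGalois F E] (hF : IsFunctionField k F) :
    ∃ R : Finset (Place k F), ∀ p : Place k F, p ∉ R →
      ∀ P : Place k E, IsOver P p → IsOverWith P p 1 := by
  classical
  haveI : Algebra.IsAlgebraic F E := Algebra.IsAlgebraic.of_finite F E
  have hfin := finite_ramified_galois (K' := E) hF
  refine ⟨hfin.toFinset.image (fun P => Classical.choose (exists_isOver hF P)), ?_⟩
  intro p hp P hPp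
  obtain ⟨e, he⟩ := id hPp
  have hsurj : Function.Surjective (P.1.comap (algebraMap F E)) := by
    by_contra hns
    apply hp
    refine Finset.mem_image.mpr ⟨P, (Set.Finite.mem_toFinset hfin).mpr hns, ?_⟩
    exact isOver_unique (Classical.choose_spec (exists_isOver hF P)) hPp
  have h1 := range_comap_eq he
  rw [Set.range_eq_univ.mpr hsurj] at h1
  have h2 : Set.range (fun γ : ℤᵐ⁰ => γ ^ 1) = Set.univ := by
    rw [Set.range_eq_univ]
    intro γ
    exact ⟨γ, pow_one γ⟩
  have h3 : e = 1 := (range_pow_eq_iff (isOverWith_pos he) one_pos).mp (by rw [← h1, h2])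
  rw [← h3]
  exact he

end ram

/-- In genus zero, `N_n = qⁿ + 1`. -/
theorem NN_of_genus_zero {k : Type u} {F : Type v} [Field k] [Field F] [Algebra k F] [Finite k]
    (hF : IsFunctionField k F) (hg : genus k F = 0) (n : ℕ) (hn : 0 < n) :
    NN hF n = Nat.card k ^ n + 1 := by
  obtain ⟨α, -, hα, -⟩ := exists_reciprocal_roots hF
  have h := NN_eq_of_factorization hF α hα n hn
  haveI : IsEmpty (Fin (2 * genus k F)) := by rw [hg, mul_zero]; infer_instance
  rw [Finset.sum_of_isEmpty, sub_zero] at h
  have : ((NN hF n : ℕ) : ℂ) = ((Nat.card k ^ n + 1 : ℕ) : ℂ) := by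
    rw [h]; push_cast; ring
  exact_mod_cast this

end Groth.Agent.Lib.Helper18.Zeta
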