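import Groth.Agent.Lib.Helper18.Zeta.WeilE
import Groth.Agent.Lib.Helper18.Zeta.ConstExt4

/-! # The Weil bound for a subfield of a Galois extension of a genus zero field -/

set_option autoImplicit false
set_option linter.style.haveILetI false

namespace Groth.Agent.Lib.Helper18.Zeta

open FunFld WithZero Groth.Agent.Lib.Helper18.FF Groth.Agent.Lib.Helper24.FFExt

open scoped TensorProduct

universe u v w w'

/-- The upper bound `N_{2m} ≤ q^{2m} + (2g+1) q^m` for `q^m > g² + 3g + 1`. -/
theorem NN_le_of_large {k : Type u} {K : Type v} [Field k] [Field K] [Algebra k K] [Finite k]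
    (hK : IsFunctionField k K) (g : ℕ) (hg : genus k K ≤ g) (n₁ : ℕ) (hn₁ : 0 < n₁)
    (hq : g ^ 2 + 3 * g + 1 < Nat.card k ^ n₁) :
    NN hK (2 * n₁) ≤ Nat.card k ^ (2 * n₁) + (2 * g + 1) * Nat.card k ^ n₁ := by
  classical
  obtain ⟨k', K', i1, i2, i3, i4, i5, hfin, hK', hce, hfr⟩ :=
    exists_constExt hK (2 * n₁) (by omega)
  haveI : Finite k' := hfin
  have hN := card_deg_one_of_isConstExt hK hK' hce
  rw [hfr] at hN
  obtain ⟨p, hp⟩ := CharP.exists k
  haveI := hp
  haveI : Fact p.Prime := ⟨CharP.char_is_prime k p⟩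
  haveI : Fintype k := Fintype.ofFinite k
  haveI : Fintype k' := Fintype.ofFinite k'
  obtain ⟨f, hf⟩ : ∃ f : ℕ, Nat.card k = p ^ f := by
    obtain ⟨⟨f, _⟩, hf⟩ := FiniteField.card k p
    exact ⟨f, by rw [Nat.card_eq_fintype_card]; exact hf.2⟩
  haveI : CharP k' p := charP_of_injective_algebraMap (algebraMap k k').injective p
  haveI : FiniteDimensional k k' := Module.Finite.of_finite
  have hpe : Nat.card k ^ n₁ = p ^ (f * n₁) := by rw [hf, ← pow_mul]
  have hcard' : Nat.card k' = p ^ (f * n₁) * p ^ (f * n₁) := by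
    rw [Module.natCard_eq_pow_finrank (K := k) (V := k'), hfr, hf, ← pow_mul, ← pow_add]
    congr 1
    ring
  set T := (finite_places_deg hK' 1).toFinset with hT
  have hTcard : T.card = Nat.card {P : Place k' K' // P.deg = 1} := by
    rw [hT, ← Set.ncard_eq_toFinset_card _ (finite_places_deg hK' 1), ← Nat.card_coe_set_eq]
    rfl
  have hb := bombieri hK' (RingEquiv.refl K') p (f * n₁) (by
      intro c
      rw [RingEquiv.refl_apply, ← hcard', Nat.card_eq_fintype_card, FiniteField.pow_card])
    g ((genus_constExt_le hK hK' hce).trans hg) (by rw [← hpe]; exact hq) T (by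
      intro P hP
      rw [hT, Set.Finite.mem_toFinset] at hP
      exact ⟨hP, fun x => rfl⟩)
  rw [hTcard, hN, ← hpe] at hb
  calc NN hK (2 * n₁) ≤ Nat.card k ^ n₁ * Nat.card k ^ n₁ + (2 * g + 1) * Nat.card k ^ n₁ := hb
    _ = Nat.card k ^ (2 * n₁) + (2 * g + 1) * Nat.card k ^ n₁ := by
      rw [← pow_add]; congr 2; ring

section lower

variable {k : Type u} {E : Type v} {F : Type w} {K : Type w'} [Field k] [Finite k] [Field E]
  [Field F] [Field K] [Algebra k E] [Algebra k F] [Algebra F E] [IsScalarTower k F E]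
  [FiniteDimensional F E] [IsGalois F E]
  [Algebra k K] [Algebra F K] [Algebra K E] [IsScalarTower k K E] [IsScalarTower F K E]

/-- The lower bound, in the form of a counting inequality. -/
theorem NN_ge_of_large (hF : IsFunctionField k F) (hK : IsFunctionField k K)
    (hE : IsFunctionField k E) (hgF : genus k F = 0) (R : Finset (Place k F))
    (hR : ∀ p : Place k F, p ∉ R → ∀ P : Place k E, IsOver P p → IsOverWith P p 1)
    (g : ℕ) (hg : genus k E ≤ g) (n₁ : ℕ) (hn₁ : 0 < n₁)
    (hq : g ^ 2 + 3 * g + 1 < Nat.card k ^ n₁) :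
    Module.finrank F E * (Nat.card k ^ (2 * n₁) + 1) ≤
      Module.finrank K E * NN hK (2 * n₁) +
        (Module.finrank F E - Module.finrank K E) *
          (Nat.card k ^ (2 * n₁) + (2 * g + 1) * Nat.card k ^ n₁) +
        Module.finrank F E * ∑ p ∈ R, p.deg := by
  classical
  have hdpos : 0 < Module.finrank F E := Module.finrank_pos
  obtain ⟨k', E', i1, i2, i3, i4, i5, hfin, hE', hce, hfr⟩ :=
    exists_constExt hE (2 * n₁ * Module.finrank F E) (Nat.mul_pos (by omega) hdpos)
  haveI : Finite k' := hfin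
  letI : Algebra k E' := ((algebraMap E E').comp (algebraMap k E)).toAlgebra
  haveI : IsScalarTower k E E' := IsScalarTower.of_algebraMap_eq (fun _ => rfl)
  haveI : IsScalarTower k k' E' := IsScalarTower.of_algebraMap_eq (fun c => hce.1 c)
  haveI : FiniteDimensional k k' := Module.Finite.of_finite
  have h := bijective_of_adjoin (k := k) hce.2.1 hce.2.2
  letI : Algebra F E' := ((algebraMap E E').comp (algebraMap F E)).toAlgebra
  haveI : IsScalarTower F E E' := IsScalarTower.of_algebraMap_eq (fun _ => rfl)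
  haveI : IsScalarTower k F E' := IsScalarTower.of_algebraMap_eq (fun c => by
    show algebraMap E E' (algebraMap k E c) = algebraMap E E' (algebraMap F E (algebraMap k F c))
    rw [← IsScalarTower.algebraMap_apply k F E])
  letI : Algebra K E' := ((algebraMap E E').comp (algebraMap K E)).toAlgebra
  haveI : IsScalarTower K E E' := IsScalarTower.of_algebraMap_eq (fun _ => rfl)
  haveI : IsScalarTower k K E' := IsScalarTower.of_algebraMap_eq (fun c => by
    show algebraMap E E' (algebraMap k E c) = algebraMap E E' (algebraMap K E (algebraMap k K c))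
    rw [← IsScalarTower.algebraMap_apply k K E])
  -- characteristic
  obtain ⟨p, hp⟩ := CharP.exists k
  haveI := hp
  haveI : Fact p.Prime := ⟨CharP.char_is_prime k p⟩
  haveI : Fintype k := Fintype.ofFinite k
  obtain ⟨f, hf⟩ : ∃ f : ℕ, Nat.card k = p ^ f := by
    obtain ⟨⟨f, _⟩, hf⟩ := FiniteField.card k p
    exact ⟨f, by rw [Nat.card_eq_fintype_card]; exact hf.2⟩
  haveI : CharP k' p := charP_of_injective_algebraMap (algebraMap k k').injective p
  have hpe : Nat.card k ^ n₁ = p ^ (f * n₁) := by rw [hf, ← pow_mul]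
  have hpe2 : Nat.card k ^ (2 * n₁) = p ^ (f * n₁) * p ^ (f * n₁) := by
    rw [hf, ← pow_mul, ← pow_add]; congr 1; ring
  have hB : ∀ (σ : E ≃ₐ[F] E) (X : Finset (Place k E')),
      (∀ Q ∈ X, Q.deg = Module.finrank k k') →
        (X.filter (fun Q => placeComap (gam h (2 * n₁) σ) Q = Q)).card ≤
          Nat.card k ^ (2 * n₁) + (2 * g + 1) * Nat.card k ^ n₁ := by
    intro σ X hX
    have := card_fix_le h hE' (2 * n₁) σ p (f * n₁) hpe2 g
      ((genus_constExt_le hE hE' hce).trans hg) (by rw [← hpe]; exact hq) X hX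
    rw [hpe2, hpe]
    exact this
  have hmain := lower_bound_aux (K := K) h hF hK hE hE' (2 * n₁) (by omega) hfr R hR _ hB
  rw [NN_of_genus_zero hF hgF (2 * n₁) (by omega)] at hmain
  exact hmain

end lower

end Groth.Agent.Lib.Helper18.Zeta
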