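import Groth.Agent.Lib.Helper18.Zeta.WeilF
import Mathlib.Analysis.SpecialFunctions.Pow.Real

/-! # The Weil bound predicate and its proof for subfields of Galois extensions of genus zero -/

set_option autoImplicit false
set_option linter.style.haveILetI false

namespace Groth.Agent.Lib.Helper18.Zeta

open FunFld WithZero Groth.Agent.Lib.Helper18.FF Groth.Agent.Lib.Helper24.FFExt

universe u v w w'

/-- `|N_n - qⁿ - 1| ≤ C q^{n/2}` along an arithmetic progression of `n`. -/
def WeilBound {k : Type u} {K : Type v} [Field k] [Field K] [Algebra k K] [Finite k]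
    (hK : IsFunctionField k K) : Prop :=
  ∃ (C : ℝ) (n₀ : ℕ), 0 < n₀ ∧ ∀ m : ℕ, 0 < m →
    |(NN hK (n₀ * m) : ℝ) - (Nat.card k : ℝ) ^ (n₀ * m) - 1| ≤
      C * Real.sqrt ((Nat.card k : ℝ) ^ (n₀ * m))

variable {k : Type u} {E : Type v} {F : Type w} {K : Type w'} [Field k] [Finite k] [Field E]
  [Field F] [Field K] [Algebra k E] [Algebra k F] [Algebra F E] [IsScalarTower k F E]
  [FiniteDimensional F E] [IsGalois F E]
  [Algebra k K] [Algebra F K] [Algebra K E] [IsScalarTower k K E] [IsScalarTower F K E]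

theorem weilBound_of_tower (hF : IsFunctionField k F) (hK : IsFunctionField k K)
    (hE : IsFunctionField k E) (hgF : genus k F = 0) : WeilBound hK := by
  classical
  obtain ⟨R, hR⟩ := exists_bad_finset (E := E) hF
  set g := max (genus k E) (genus k K) with hg
  set G := g ^ 2 + 3 * g + 1 with hG
  set d := Module.finrank F E with hd
  set a := Module.finrank K E with ha
  set r := ∑ p ∈ R, p.deg with hr
  haveI : FiniteDimensional K E := Module.Finite.of_restrictScalars_finite F K E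
  have hapos : 0 < a := Module.finrank_pos
  have had : a ≤ d := by
    have h1 := Module.finrank_mul_finrank F K E
    have hdpos : 0 < d := Module.finrank_pos
    exact Nat.le_of_dvd hdpos ⟨Module.finrank F K, by rw [hd, ← h1, mul_comm]⟩
  have hq1 : 1 < Nat.card k := one_lt_natCard
  refine ⟨(d : ℝ) * (2 * g + 1) + d * r + 2 * g + 2, 2 * (G + 1), by omega, fun m hm => ?_⟩
  set n₁ := (G + 1) * m with hn₁
  have hn₁pos : 0 < n₁ := Nat.mul_pos (by omega) hm
  have hnn : 2 * (G + 1) * m = 2 * n₁ := by rw [hn₁]; ring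
  have hq : G < Nat.card k ^ n₁ := by
    have h1 : n₁ < Nat.card k ^ n₁ := Nat.lt_pow_self hq1
    have h2 : G + 1 ≤ n₁ := Nat.le_mul_of_pos_right _ hm
    omega
  have hupper := NN_le_of_large hK g (le_max_right _ _) n₁ hn₁pos hq
  have hlower := NN_ge_of_large (K := K) hF hK hE hgF R hR g (le_max_left _ _) n₁ hn₁pos hq
  rw [hnn]
  set s : ℝ := (Nat.card k : ℝ) ^ n₁ with hs
  have hs1 : 1 ≤ s := one_le_pow₀ (by exact_mod_cast hq1.le)
  have hs2 : (Nat.card k : ℝ) ^ (2 * n₁) = s ^ 2 := by rw [hs, ← pow_mul, mul_comm]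
  have hsqrt : Real.sqrt ((Nat.card k : ℝ) ^ (2 * n₁)) = s := by
    rw [hs2, Real.sqrt_sq (by linarith)]
  rw [hsqrt, hs2]
  set N : ℝ := (NN hK (2 * n₁) : ℝ) with hN
  have hU : N ≤ s ^ 2 + (2 * g + 1) * s := by
    have := (Nat.cast_le (α := ℝ)).mpr hupper
    push_cast at this
    rw [hs2] at this
    exact this
  have hL : (d : ℝ) * (s ^ 2 + 1) ≤
      a * N + ((d : ℝ) - a) * (s ^ 2 + (2 * g + 1) * s) + d * r := by
    have hlower' : d * (Nat.card k ^ (2 * n₁) + 1) ≤
        a * NN hK (2 * n₁) + (d - a) * (Nat.card k ^ (2 * n₁) + (2 * g + 1) * Nat.card k ^ n₁) +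
          d * r := hlower
    have := (Nat.cast_le (α := ℝ)).mpr hlower'
    push_cast [Nat.cast_sub had] at this
    rw [hs2] at this
    exact this
  have hgnn : (0 : ℝ) ≤ g := Nat.cast_nonneg _
  have hrnn : (0 : ℝ) ≤ r := Nat.cast_nonneg _
  have hdnn : (0 : ℝ) ≤ d := Nat.cast_nonneg _
  have ha1 : (1 : ℝ) ≤ a := by exact_mod_cast hapos
  have had' : (a : ℝ) ≤ d := by exact_mod_cast had
  rw [abs_le]
  constructor
  · -- lower bound
    by_cases hx : s ^ 2 + 1 - N ≤ 0
    · have : 0 ≤ ((d : ℝ) * (2 * g + 1) + d * r + 2 * g + 2) * s := by positivity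
      linarith
    · push Not at hx
      have h1 : (a : ℝ) * (s ^ 2 + 1 - N) ≤ ((d : ℝ) - a) * (2 * g + 1) * s + d * r := by
        nlinarith
      have h2 : s ^ 2 + 1 - N ≤ (a : ℝ) * (s ^ 2 + 1 - N) := by nlinarith
      have h3 : ((d : ℝ) - a) * (2 * g + 1) * s ≤ (d : ℝ) * (2 * g + 1) * s := by
        have : 0 ≤ (a : ℝ) * ((2 * g + 1) * s) := by positivity
        nlinarith
      have h4 : (d : ℝ) * r ≤ d * r * s := by
        have : 0 ≤ (d : ℝ) * r := by positivity
        nlinarith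
      have h5 : 0 ≤ (2 * (g : ℝ) + 2) * s := by positivity
      nlinarith
  · have h5 : (2 * (g : ℝ) + 1) * s ≤ ((d : ℝ) * (2 * g + 1) + d * r + 2 * g + 2) * s := by
      have : 0 ≤ (d : ℝ) * (2 * g + 1) + d * r + 1 := by positivity
      nlinarith
    linarith

end Groth.Agent.Lib.Helper18.Zeta
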