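import Groth.Agent.Lib.Helper18.Zeta.WeilG
import Groth.Agent.Lib.Helper18.Zeta.PowerSums

/-! # From the Weil bound to the Riemann hypothesis -/

set_option autoImplicit false
set_option linter.style.haveILetI false

namespace Groth.Agent.Lib.Helper18.Zeta

open FunFld WithZero Groth.Agent.Lib.Helper18.FF

universe u u' v v'

theorem sqrt_pow' (x : ℝ) (hx : 0 ≤ x) (n : ℕ) : Real.sqrt (x ^ n) = Real.sqrt x ^ n := by
  rw [Real.sqrt_eq_iff_mul_self_eq (pow_nonneg hx n) (pow_nonneg (Real.sqrt_nonneg x) n),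
    ← mul_pow, Real.mul_self_sqrt hx]

/-- The Weil bound descends along constant field extensions. -/
theorem weilBound_of_constExt {k : Type u} {K : Type v} {k' : Type u'} {K' : Type v'} [Field k]
    [Finite k] [Field K] [Algebra k K] [Field k'] [Finite k'] [Field K'] [Algebra k k']
    [Algebra K K'] [Algebra k' K']
    (hK : IsFunctionField k K) (hK' : IsFunctionField k' K') (hce : IsConstExt k K k' K')
    (hW : WeilBound hK') : WeilBound hK := by
  haveI : FiniteDimensional k k' := Module.Finite.of_finite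
  obtain ⟨C, n₀, hn₀, hb⟩ := hW
  set M := Module.finrank k k' with hM
  have hMpos : 0 < M := Module.finrank_pos
  refine ⟨C, M * n₀, Nat.mul_pos hMpos hn₀, fun m hm => ?_⟩
  have h1 := hb m hm
  have h2 := NN_constExt hK hK' hce (n₀ * m) (Nat.mul_pos hn₀ hm)
  have h3 : (Nat.card k' : ℝ) = (Nat.card k : ℝ) ^ M := by
    rw [Module.natCard_eq_pow_finrank (K := k) (V := k')]
    push_cast
    rfl
  rw [h2, h3, ← pow_mul, ← mul_assoc] at h1
  exact h1

/-- The Weil bound implies that all reciprocal roots have absolute value `√q`. -/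
theorem norm_eq_sqrt_of_weilBound {k : Type u} {K : Type v} [Field k] [Finite k] [Field K]
    [Algebra k K] (hK : IsFunctionField k K) (hW : WeilBound hK) {ι : Type*} [Fintype ι]
    (α : ι → ℂ)
    (hα : PowerSeries.map (Int.castRingHom ℂ) (numerZ k K) =
      ((∏ i, (1 - Polynomial.C (α i) * Polynomial.X) : Polynomial ℂ) : PowerSeries ℂ))
    (rev : ι → ι) (hpair : ∀ i, α i * α (rev i) = (Nat.card k : ℂ)) (i : ι) :
    ‖α i‖ = Real.sqrt (Nat.card k : ℝ) := by
  obtain ⟨C, n₀, hn₀, hb⟩ := hW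
  have hq0 : (0 : ℝ) ≤ (Nat.card k : ℝ) := Nat.cast_nonneg _
  have hqpos : (0 : ℝ) < (Nat.card k : ℝ) := by exact_mod_cast Nat.card_pos
  set sq := Real.sqrt (Nat.card k : ℝ) with hsq
  have hsqpos : 0 < sq := Real.sqrt_pos.mpr hqpos
  have hle : ∀ j, ‖α j‖ ≤ sq := by
    intro j
    have key := norm_le_of_powerSum_le (fun i => α i ^ n₀) C (sq ^ n₀) (pow_pos hsqpos _)
      (fun m hm => by
        have h1 := hb m hm
        have h2 := NN_eq_of_factorization hK α hα (n₀ * m) (Nat.mul_pos hn₀ hm)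
        have h3 : ∑ i, (α i ^ n₀) ^ m =
            (((1 + (Nat.card k : ℝ) ^ (n₀ * m) - (NN hK (n₀ * m) : ℝ) : ℝ)) : ℂ) := by
          push_cast
          rw [h2]
          simp only [← pow_mul]
          ring
        rw [h3, Complex.norm_real, Real.norm_eq_abs, ← pow_mul, ← sqrt_pow' _ hq0]
        have h4 : |1 + (Nat.card k : ℝ) ^ (n₀ * m) - (NN hK (n₀ * m) : ℝ)| =
            |(NN hK (n₀ * m) : ℝ) - (Nat.card k : ℝ) ^ (n₀ * m) - 1| := by
          rw [← abs_neg]; congr 1; ring
        rw [h4]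
        exact h1) j
    simp only [norm_pow] at key
    exact le_of_pow_le_pow_left₀ hn₀.ne' hsqpos.le key
  have hprod : ‖α i‖ * ‖α (rev i)‖ = sq * sq := by
    rw [← norm_mul, hpair, Complex.norm_natCast, Real.mul_self_sqrt hq0]
  by_contra hne
  have hlt : ‖α i‖ < sq := lt_of_le_of_ne (hle i) hne
  have : ‖α i‖ * ‖α (rev i)‖ < sq * sq := by
    calc ‖α i‖ * ‖α (rev i)‖ ≤ ‖α i‖ * sq :=
          mul_le_mul_of_nonneg_left (hle _) (norm_nonneg _)
      _ < sq * sq := mul_lt_mul_of_pos_right hlt hsqpos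
  rw [hprod] at this
  exact lt_irrefl _ this

end Groth.Agent.Lib.Helper18.Zeta
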