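import Groth.Agent.Lib.Helper18.Zeta.WeilH
import Groth.Agent.Lib.Helper24.FFExt.SepConst
import Mathlib.FieldTheory.PrimitiveElement

/-! # The compositum with a finite separable field of constants is a constant field extension -/

set_option autoImplicit false
set_option linter.style.haveILetI false

namespace Groth.Agent.Lib.Helper18.Zeta

open FunFld Groth.Agent.Lib.Helper24.FFExt IntermediateField

universe u v w

variable {k : Type u} {K : Type v} {E : Type w} [Field k] [Field K] [Field E] [Algebra k K]
  [Algebra K E] [Algebra k E] [IsScalarTower k K E]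

/-- If `k` is algebraically closed in `K ⊆ E` and `A/k` is a finite separable subextension of `E`,
then the compositum `A K` is a constant field extension of `K`. -/
theorem isConstExt_adjoin (A : IntermediateField k E) [FiniteDimensional k A]
    [Algebra.IsSeparable k A]
    (hcl : ∀ y : K, IsAlgebraic k y → y ∈ Set.range (algebraMap k K))
    (K' : IntermediateField A E)
    (hK' : K' = IntermediateField.adjoin A (Set.range (algebraMap K E)))
    [Algebra K K']
    (hcompat : ∀ x : K, ((algebraMap K K' x : K') : E) = algebraMap K E x) :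
    IsConstExt k K A K' := by
  classical
  haveI : IsScalarTower K K' E := IsScalarTower.of_algebraMap_eq fun x => (hcompat x).symm
  obtain ⟨c, hc⟩ := Field.exists_primitive_element k A
  have hint : IsIntegral k c := Algebra.IsIntegral.isIntegral c
  set g := minpoly k c with hg
  have hgm : g.Monic := minpoly.monic hint
  have hgirr : Irreducible g := minpoly.irreducible hint
  have hgK := irreducible_map_of_algClosedIn hcl hgm hgirr
  set cE : E := (c : E) with hcE
  have hroot : Polynomial.aeval cE (g.map (algebraMap k K)) = 0 := by
    rw [Polynomial.aeval_map_algebraMap]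
    have h1 : Polynomial.aeval cE g = ((Polynomial.aeval c g : A) : E) :=
      Polynomial.aeval_algebraMap_apply E c g
    rw [h1, hg, minpoly.aeval]
    rfl
  have hmin : minpoly K cE = g.map (algebraMap k K) :=
    (minpoly.eq_of_irreducible_of_monic hgK hroot (hgm.map _)).symm
  have hintE : IsIntegral K cE := ⟨g.map (algebraMap k K), hgm.map _, hroot⟩
  have hdeg : Module.finrank K K⟮cE⟯ = Module.finrank k A := by
    rw [IntermediateField.adjoin.finrank hintE, hmin, Polynomial.natDegree_map,
      ← IntermediateField.adjoin.finrank hint, hc, IntermediateField.finrank_top']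
  -- `A ⊆ K(c)`
  have hA_mem : ∀ a : A, (a : E) ∈ K⟮cE⟯ := by
    intro a
    have ha : a ∈ (⊤ : IntermediateField k A) := IntermediateField.mem_top
    rw [← hc, ← IntermediateField.mem_toSubalgebra,
      IntermediateField.adjoin_simple_toSubalgebra_of_isAlgebraic hint.isAlgebraic,
      Algebra.adjoin_singleton_eq_range_aeval] at ha
    obtain ⟨P, hP⟩ := ha
    have hP' : Polynomial.aeval c P = a := hP
    have h1 : ((Polynomial.aeval c P : A) : E) =
        Polynomial.aeval cE (P.map (algebraMap k K)) := by
      rw [Polynomial.aeval_map_algebraMap]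
      exact (Polynomial.aeval_algebraMap_apply E c P).symm
    rw [← hP', h1]
    exact IntermediateField.algebra_adjoin_le_adjoin K _
      (Polynomial.aeval_mem_adjoin_singleton K cE)
  have hsub1 : ∀ a : E, a ∈ K' → a ∈ K⟮cE⟯ := by
    intro a ha
    let T : IntermediateField A E :=
      { K⟮cE⟯.toSubfield with algebraMap_mem' := fun a => hA_mem a }
    have hle : K' ≤ T := by
      rw [hK', IntermediateField.adjoin_le_iff]
      rintro _ ⟨x, rfl⟩
      exact K⟮cE⟯.algebraMap_mem x
    exact hle ha
  have hsub2 : ∀ a : E, a ∈ K⟮cE⟯ → a ∈ K' := by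
    intro a ha
    let T : IntermediateField K E :=
      { K'.toSubfield with
        algebraMap_mem' := fun x => by
          rw [hK']; exact IntermediateField.subset_adjoin A _ ⟨x, rfl⟩ }
    have hle : K⟮cE⟯ ≤ T := by
      rw [IntermediateField.adjoin_le_iff]
      rintro _ rfl
      exact K'.algebraMap_mem c
    exact hle ha
  let e : K' ≃ₗ[K] K⟮cE⟯ :=
    { toFun := fun a => ⟨a.1, hsub1 a.1 a.2⟩
      invFun := fun a => ⟨a.1, hsub2 a.1 a.2⟩
      map_add' := fun _ _ => rfl
      map_smul' := fun r a => by
        apply Subtype.ext
        show ((r • a : K') : E) = ((r • (⟨a.1, hsub1 a.1 a.2⟩ : K⟮cE⟯) : K⟮cE⟯) : E)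
        rw [Algebra.smul_def, IntermediateField.coe_smul, Algebra.smul_def,
          IntermediateField.coe_mul, hcompat]
      left_inv := fun _ => rfl
      right_inv := fun _ => rfl }
  refine ⟨fun x => ?_, ?_, ?_⟩
  · apply Subtype.ext
    rw [hcompat, ← IsScalarTower.algebraMap_apply k K E]
    rfl
  · rw [eq_top_iff]
    rintro z -
    have hz : (z : E) ∈ K⟮cE⟯ := hsub1 z.1 z.2
    rw [← IntermediateField.mem_toSubalgebra,
      IntermediateField.adjoin_simple_toSubalgebra_of_isAlgebraic hintE.isAlgebraic,
      Algebra.adjoin_singleton_eq_range_aeval] at hz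
    obtain ⟨P, hP⟩ := hz
    set c' : K' := algebraMap A K' c with hc'
    have hzc : z = Polynomial.aeval c' P := by
      apply Subtype.ext
      have h1 : ((Polynomial.aeval c' P : K') : E) = Polynomial.aeval (algebraMap K' E c') P :=
        (Polynomial.aeval_algebraMap_apply E c' P).symm
      rw [h1]
      exact hP.symm
    rw [hzc]
    have hsub : ({c'} : Set K') ⊆ Set.range (algebraMap A K') :=
      Set.singleton_subset_iff.mpr ⟨c, rfl⟩
    exact Algebra.adjoin_mono hsub (Polynomial.aeval_mem_adjoin_singleton K c')
  · rw [← hdeg]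
    exact e.finrank_eq

end Groth.Agent.Lib.Helper18.Zeta
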