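import Groth.Agent.Lib.Helper18.Zeta.WeilI
import Groth.Agent.Lib.Helper18.Zeta.GaloisClosure
import Groth.Agent.Lib.Helper18.FF.Rational
import Groth.Agent.Lib.Helper24.FFExt.Separating
import Groth.Agent.Lib.Helper24.FFExt.Weak
import Groth.Agent.Lib.Helper24.FFExt.WeakDeg

/-! # The Weil bound for every function field over a finite field -/

set_option autoImplicit false
set_option linter.style.haveILetI false

namespace Groth.Agent.Lib.Helper18.Zeta

open FunFld Groth.Agent.Lib.Helper18.FF Groth.Agent.Lib.Helper24.FFExt IntermediateField

universe u v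

set_option maxHeartbeats 1600000 in
theorem weilBound {k : Type u} {K : Type v} [Field k] [Finite k] [Field K] [Algebra k K]
    (hK : IsFunctionField k K) : WeilBound hK := by
  classical
  have hg := isGeometric_of_perfectField hK
  obtain ⟨t, ht, hfin, hsep⟩ := exists_separating hK hg
  haveI := hfin
  haveI := hsep
  obtain ⟨E, iE, iKE, iFE, iT, hfKE, hfFE, hGal⟩ := exists_galois_closure k⟮t⟯ K
  letI := iE
  letI := iKE
  have hiFE : iFE = (IntermediateField.instAlgebraSubtypeMem k⟮t⟯ : Algebra k⟮t⟯ E) := by
    apply Algebra.algebra_ext
    intro a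
    exact @IsScalarTower.algebraMap_apply k⟮t⟯ K E _ _ _ _ iKE iFE iT a
  subst hiFE
  haveI := hfKE
  haveI := hfFE
  haveI := hGal
  letI : Algebra k E := ((algebraMap K E).comp (algebraMap k K)).toAlgebra
  haveI : IsScalarTower k K E := IsScalarTower.of_algebraMap_eq fun _ => rfl
  set tE : E := algebraMap K E t with htE_def
  have htE : Transcendental k tE :=
    (transcendental_algebraMap_iff (algebraMap K E).injective).mpr ht
  have hfinE : FiniteDimensional (IntermediateField.adjoin k ({tE} : Set E)) E :=
    finiteDimensional_adjoin_map (K' := E) hfin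
  have hE : IsFunctionField (algebraicClosure k E) E := isFunctionField_kc htE hfinE
  haveI : FiniteDimensional k (algebraicClosure k E) :=
    Module.finite_of_finrank_pos (WeakFF.finrank_kc_pos ⟨tE, htE, hfinE⟩)
  haveI : Finite (algebraicClosure k E) := Module.finite_of_finite k
  have htEc : Transcendental (algebraicClosure k E) tE := transcendental_kc htE
  -- the rational subfield and the compositum
  set F' : IntermediateField (algebraicClosure k E) E :=
    IntermediateField.adjoin (algebraicClosure k E) ({tE} : Set E) with hF'_def
  set K' : IntermediateField (algebraicClosure k E) E :=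
    IntermediateField.adjoin (algebraicClosure k E) (Set.range (algebraMap K E)) with hK'_def
  have htF'mem : tE ∈ F' := IntermediateField.subset_adjoin _ _ rfl
  have htK'mem : tE ∈ K' := IntermediateField.subset_adjoin _ _ ⟨t, rfl⟩
  have hle : F' ≤ K' := by
    rw [hF'_def, IntermediateField.adjoin_le_iff]
    rintro _ rfl
    exact htK'mem
  letI : Algebra F' K' := (IntermediateField.inclusion hle).toRingHom.toAlgebra
  haveI : IsScalarTower F' K' E := IsScalarTower.of_algebraMap_eq fun _ => rfl
  haveI : FiniteDimensional F' E := finiteDimensional_adjoin_kc hfinE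
  -- `E / F'` is Galois
  have hmemF' : ∀ a : k⟮t⟯, algebraMap k⟮t⟯ E a ∈ F' := by
    intro a
    have h1 : algebraMap k⟮t⟯ E a = algebraMap K E a.1 := by
      rw [IsScalarTower.algebraMap_apply k⟮t⟯ K E]
      rfl
    rw [h1]
    have h2 : IntermediateField.map (IsScalarTower.toAlgHom k K E) k⟮t⟯ =
        IntermediateField.adjoin k ({tE} : Set E) := by
      rw [IntermediateField.adjoin_map, Set.image_singleton]
      rfl
    have h3 : algebraMap K E a.1 ∈ IntermediateField.adjoin k ({tE} : Set E) := by
      rw [← h2]
      exact ⟨a.1, a.2, rfl⟩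
    have hle' : IntermediateField.adjoin k ({tE} : Set E) ≤ F'.restrictScalars k := by
      rw [IntermediateField.adjoin_le_iff]
      rintro _ rfl
      exact htF'mem
    exact hle' h3
  letI : Algebra k⟮t⟯ F' := ((algebraMap k⟮t⟯ E).codRestrict F' hmemF').toAlgebra
  haveI : IsScalarTower k⟮t⟯ F' E := IsScalarTower.of_algebraMap_eq fun _ => rfl
  haveI : IsGalois F' E := IsGalois.tower_top_of_isGalois k⟮t⟯ F' E
  -- function fields
  have hF' : IsFunctionField (algebraicClosure k E) F' :=
    isFunctionField_intermediateField hE F' ⟨tE, htF'mem, htEc⟩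
  have hK'f : IsFunctionField (algebraicClosure k E) K' :=
    isFunctionField_intermediateField hE K' ⟨tE, htK'mem, htEc⟩
  -- genus of the rational subfield
  set tF' : F' := ⟨tE, htF'mem⟩ with htF'_def
  have htF' : Transcendental (algebraicClosure k E) tF' :=
    (transcendental_algebraMap_iff (algebraMap F' E).injective).mp htEc
  have hgF' : genus (algebraicClosure k E) F' = 0 := by
    apply genus_eq_zero_of_deg_poleDiv_eq_one hF' htF'
    rw [deg_poleDiv_eq hF' htF']
    have h1 := finrank_adjoin_map (k := algebraicClosure k E) (K := F') (K' := E) tF'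
    have h2 : Module.finrank (IntermediateField.adjoin (algebraicClosure k E)
        ({algebraMap F' E tF'} : Set E)) E = Module.finrank F' E := rfl
    have h3 : 0 < Module.finrank F' E := Module.finrank_pos
    rw [h2] at h1
    have h4 : Module.finrank (IntermediateField.adjoin (algebraicClosure k E)
        ({tF'} : Set F')) F' = 1 := by
      apply Nat.eq_of_mul_eq_mul_right h3
      rw [one_mul]
      exact h1.symm
    exact_mod_cast h4
  have hW' : WeilBound hK'f :=
    weilBound_of_tower (k := algebraicClosure k E) (F := F') (K := K') (E := E) hF' hK'f hE hgF'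
  -- descend along the constant field extension
  letI : Algebra K K' := ((algebraMap K E).codRestrict K'
    (fun x => IntermediateField.subset_adjoin _ _ ⟨x, rfl⟩)).toAlgebra
  have hce : IsConstExt k K (algebraicClosure k E) K' :=
    isConstExt_adjoin (algebraicClosure k E) hK.2 K' rfl (fun _ => rfl)
  exact weilBound_of_constExt hK hK'f hce hW'

end Groth.Agent.Lib.Helper18.Zeta
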